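import Groth.Agent.StPushLib.EtProd
import Groth.Agent.AlgSpLib.QcQs

/-!
# Quasi-compactness of products with an affine object etale over a quasi-separated sheaf
-/

set_option autoImplicit false
set_option linter.style.haveILetI false
set_option backward.isDefEq.respectTransparency false
set_option backward.isDefEq.respectTransparency.types false
set_option maxHeartbeats 800000

universe u

open CategoryTheory CategoryTheory.Limits AlgebraicGeometry AlgSp AlgSpLib Opposite StMod

noncomputable section

namespace StPushLib

variable {S : Scheme.{u}}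

/-- The products with affine objects are quasi-compact. -/
def QcProd (M : AlgSp.Sp S) : Prop :=
  ∀ (ν z : (AlgSt.ofSp M).obj), IsAffine ν.base.left → IsAffine z.base.left → RepWith @Etale (toM ν) →
    ∀ D : EtProd ν z, CompactSpace D.P.base.left

theorem qcProd_space [QuasiSeparatedSpace ↥S] {M : AlgSp.Sp S} (hM : IsAlgSpace M) (hqs : IsQuasiSeparatedSp M) :
    QcProd M := fun ν z hν hz _ D => by
  haveI := hν; haveI := hz
  have h1 : IsQuasiCompactMor (toM ν) :=
    isQuasiCompactMor_of_qcSp_qsSp (IsAlgSpace.yon_obj _) hM _ (isQuasiCompactSp_yon _) hqs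
  have h2 : IsQuasiCompactSp ((yon S).obj D.P.base) :=
    h1 (IsAlgSpace.yon_obj _) (isQuasiCompactSp_yon _) (toM z) _ _ D.isPullback
  haveI := (isQuasiCompactSp_iff (IsAlgSpace.yon_obj _)).1 h2
  exact (Points.schemeHomeo D.P.base).symm.compactSpace

theorem qcProd_sch (M : Over S) [QuasiSeparatedSpace M.left] : QcProd ((yon S).obj M) := fun ν z hν hz _ D => by
  haveI := hν; haveI := hz
  obtain ⟨a, ha⟩ := (yon S).map_surjective (toM ν)
  obtain ⟨b, hb⟩ := (yon S).map_surjective (toM z)
  have sq : IsPullback D.pr1.hom D.pr2.hom a b := by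
    refine IsPullback.of_map (yon S) ((yon S).map_injective ?_) ?_
    · rw [Functor.map_comp, Functor.map_comp, ha, hb, D.isPullback.w]
    · rw [ha, hb]; exact D.isPullback
  have sq' : IsPullback D.pr1.hom.left D.pr2.hom.left a.left b.left := sq.map (Over.forget S)
  haveI : QuasiCompact a.left := quasiCompact_of_compactSpace a.left
  haveI : QuasiCompact D.pr2.hom.left := MorphismProperty.of_isPullback (P := @QuasiCompact) sq' inferInstance
  exact (quasiCompact_iff_compactSpace D.pr2.hom.left).1 inferInstance

end StPushLib
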