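import Groth.Agent.GenDescLib.FibMap

/-!
# The category over an object is fibred in groupoids
-/

set_option autoImplicit false
set_option linter.style.haveILetI false
set_option backward.isDefEq.respectTransparency false
set_option backward.isDefEq.respectTransparency.types false

universe u

open CategoryTheory CategoryTheory.Limits AlgebraicGeometry AlgSp FibCat FibLib AlgStLib IsoNatLib IsoNatSepLib Opposite StMod
open CategoryTheory.Functor (Fiber IsPreFibered IsStronglyCartesian)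

noncomputable section

namespace StPushLib

variable {S : Scheme.{u}} {𝒳 𝒴 : AlgSt.Cat S} [IsFibGrpd 𝒳.p] (f : 𝒳 ⥤ᵇ 𝒴) (η : 𝒴.obj)

theorem lift_fibCat {x' x : (fibCat f η).obj} (φ : x' ⟶ x) {A B : Over S} {c : A ⟶ B}
    (h : 𝒳.p.IsHomLift c φ.left) : (fibCat f η).p.IsHomLift c φ :=
  IsHomLift.of_fac' (fibCat f η).p c φ (@IsHomLift.domain_eq _ _ _ _ 𝒳.p _ _ _ _ c φ.left h)
    (@IsHomLift.codomain_eq _ _ _ _ 𝒳.p _ _ _ _ c φ.left h)
    (@IsHomLift.fac' _ _ _ _ 𝒳.p _ _ _ _ c φ.left h)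

theorem isFibGrpd_fibCat : IsFibGrpd (fibCat f η).p where
  exists_lift {x V} g := by
    obtain ⟨b, φ, hφ⟩ := FibLib.exists_lift 𝒳.p (a := x.left) rfl g
    exact ⟨CostructuredArrow.mk (S := f.toFunctor) (Y := b) (f.map φ ≫ x.hom), CostructuredArrow.homMk φ rfl,
      lift_fibCat f η _ hφ⟩
  isStronglyCartesian {y x} φ := by
    haveI : (fibCat f η).p.IsHomLift ((fibCat f η).p.map φ) φ := IsHomLift.map _ φ
    refine ⟨fun {a'} g φ' hφ' => ?_⟩
    have h' : 𝒳.p.IsHomLift (g ≫ (fibCat f η).p.map φ) φ'.left :=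
      IsHomLift.of_fac' 𝒳.p _ φ'.left rfl rfl
        (@IsHomLift.fac' _ _ _ _ (fibCat f η).p _ _ _ _ _ φ' hφ')
    obtain ⟨θ, hθ, eθ⟩ := exists_fac (𝒳 := 𝒳) (g := g) φ.left (IsHomLift.map 𝒳.p φ.left) φ'.left h'
    have hw : f.map θ ≫ y.hom = a'.hom := by
      rw [← CostructuredArrow.w φ, ← CostructuredArrow.w φ', ← Category.assoc]
      exact congrArg (· ≫ x.hom) ((f.toFunctor.map_comp θ φ.left).symm.trans (congrArg f.map eθ))
    refine ⟨CostructuredArrow.homMk θ hw, ⟨lift_fibCat f η _ hθ, CostructuredArrow.hom_ext _ _ eθ⟩, ?_⟩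
    rintro χ ⟨hχ, eχ⟩
    refine CostructuredArrow.hom_ext _ _ (eq_of_fac (IsHomLift.map 𝒳.p φ.left) ?_ hθ ?_)
    · exact IsHomLift.of_fac' 𝒳.p _ χ.left rfl rfl (@IsHomLift.fac' _ _ _ _ (fibCat f η).p _ _ _ _ _ χ hχ)
    · exact (congrArg CommaMorphism.left eχ).trans eθ.symm

end StPushLib
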