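import Groth.Agent.StPushLib.Atlas
import Groth.Agent.StPushLib.Fib

/-!
# The flat system of a category over an affine object
-/

set_option autoImplicit false
set_option linter.style.haveILetI false
set_option backward.isDefEq.respectTransparency false
set_option backward.isDefEq.respectTransparency.types false
set_option maxHeartbeats 800000

universe u v w v' w'

open CategoryTheory CategoryTheory.Limits AlgebraicGeometry AlgSp AlgSpLib FibCat FibLib AlgStLib IsoNatLib IsoNatSepLib Opposite StMod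
open CategoryTheory.Functor (Fiber IsPreFibered IsStronglyCartesian)
open TwDescLib (hom_ext_base exists_obj_over IsFppf)

noncomputable section

namespace StPushLib

section General

variable {S : Scheme.{u}} {V : BasedCategory.{v, w} (Over S)} {W : BasedCategory.{v', w'} (Over S)} (Φ : V ⥤ᵇ W)

theorem bmap_map_eq {a b : V.obj} (k : a ⟶ b) :
    bmap W (Φ.map k) = eqToHom (sch_obj_eq Φ a) ≫ bmap V k ≫ eqToHom (sch_obj_eq Φ b).symm := by
  rw [← Category.assoc, ← bmap_map_comm Φ k rfl, Category.assoc, eqToHom_trans, eqToHom_refl, Category.comp_id]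

theorem prop_map {P : MorphismProperty Scheme.{u}} [P.RespectsIso] {a b : V.obj} (k : a ⟶ b) :
    P (bmap W (Φ.map k)) ↔ P (bmap V k) := by
  rw [bmap_map_eq, P.cancel_left_of_respectsIso, P.cancel_right_of_respectsIso]

theorem range_map {a b : V.obj} (k : a ⟶ b) (t : sch W (Φ.obj b))
    (ht : eqToHom (sch_obj_eq Φ b) t ∈ Set.range (bmap V k)) : t ∈ Set.range (bmap W (Φ.map k)) := by
  obtain ⟨s, hs⟩ := ht
  have key : ∀ {A A' B B' : Scheme.{u}} (e₁ : A' = A) (e₂ : B' = B) (g : A ⟶ B) (t : B') (s : A),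
      g s = eqToHom e₂ t → t ∈ Set.range (eqToHom e₁ ≫ g ≫ eqToHom e₂.symm) := by
    intro A A' B B' e₁ e₂ g t s h
    subst e₁ e₂
    exact ⟨s, by simpa using h⟩
  rw [bmap_map_eq]
  exact key _ _ _ t s hs

/-- Flat systems transport along equivalences. -/
theorem FlatSys.transport [Φ.toFunctor.Full] [Φ.toFunctor.Faithful] [Φ.toFunctor.EssSurj] [IsFibGrpd W.p]
    {Mem : V.obj → Prop} (h : FlatSys Mem) :
    FlatSys (fun z : W.obj => IsAffine (sch W z) ∧ ∃ z₀, Mem z₀ ∧ Nonempty (Φ.obj z₀ ≅ z)) where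
  aff z hz := hz.1
  down y z c hz hc ha := by
    obtain ⟨-, z₀, hz₀, ⟨i⟩⟩ := hz
    obtain ⟨y₀, ⟨j⟩⟩ := Functor.EssSurj.mem_essImage (F := Φ.toFunctor) y
    let c₀ : y₀ ⟶ z₀ := Φ.toFunctor.preimage (j.hom ≫ c ≫ i.inv)
    have hc₀ : Φ.map c₀ = j.hom ≫ c ≫ i.inv := Φ.toFunctor.map_preimage _
    haveI := isIso_bmap (W := W) j.hom
    haveI := isIso_bmap (W := W) i.inv
    haveI := hc
    have hf : Flat (bmap V c₀) := (prop_map (P := @Flat) Φ c₀).1 (by
      rw [hc₀, bmap_comp, bmap_comp]; infer_instance)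
    have haV : IsAffine (sch V y₀) := by
      haveI := ha
      rw [← sch_obj_eq Φ y₀]
      exact IsAffine.of_isIso (bmap W j.hom)
    exact ⟨ha, y₀, h.down y₀ z₀ c₀ hz₀ hf haV, ⟨j⟩⟩
  loc y := by
    obtain ⟨y₀, ⟨j⟩⟩ := Functor.EssSurj.mem_essImage (F := Φ.toFunctor) y
    obtain ⟨K, y', c, z, a, hz, hc⟩ := h.loc y₀
    haveI := isIso_bmap (W := W) j.hom
    refine ⟨K, fun k => Φ.obj (y' k), fun k => Φ.map (c k) ≫ j.hom, fun k => Φ.obj (z k), fun k => Φ.map (a k),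
      fun k => ⟨?_, z k, hz k, ⟨Iso.refl _⟩⟩, ⟨fun t => ?_, fun k => ?_, fun k => ?_⟩⟩
    · rw [sch_obj_eq Φ (z k)]; exact h.aff _ (hz k)
    · obtain ⟨k, hk⟩ := hc.surj (eqToHom (sch_obj_eq Φ y₀) (inv (bmap W j.hom) t))
      obtain ⟨s, hs⟩ := range_map Φ (c k) _ hk
      refine ⟨k, s, ?_⟩
      show bmap W (Φ.map (c k) ≫ j.hom) s = t
      rw [bmap_comp, Scheme.Hom.comp_apply, hs, ← Scheme.Hom.comp_apply, IsIso.inv_hom_id]
      rfl
    · haveI := (prop_map (P := @Flat) Φ (c k)).2 (hc.flat k)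
      rw [bmap_comp]; infer_instance
    · haveI := (prop_map (P := @LocallyOfFinitePresentation) Φ (c k)).2 (hc.lfp k)
      rw [bmap_comp]; infer_instance
  rel := by
    rintro z₁ z₂ ⟨-, a₁, ha₁, ⟨i₁⟩⟩ ⟨-, a₂, ha₂, ⟨i₂⟩⟩
    obtain ⟨R, p, q, hR, hp, hq⟩ := h.rel a₁ a₂ ha₁ ha₂
    haveI := isIso_bmap (W := W) i₁.hom
    haveI := isIso_bmap (W := W) i₂.hom
    haveI := (prop_map (P := @Flat) Φ p).2 hp
    haveI := (prop_map (P := @Flat) Φ q).2 hq
    refine ⟨Φ.obj R, Φ.map p ≫ i₁.hom, Φ.map q ≫ i₂.hom, fun y a b => ?_, by rw [bmap_comp]; infer_instance,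
      by rw [bmap_comp]; infer_instance⟩
    obtain ⟨y₀, ⟨j⟩⟩ := Functor.EssSurj.mem_essImage (F := Φ.toFunctor) y
    obtain ⟨y', c, e, hc, hs, h1, h2, hu⟩ := hR y₀ (Φ.toFunctor.preimage (j.hom ≫ a ≫ i₁.inv))
      (Φ.toFunctor.preimage (j.hom ≫ b ≫ i₂.inv))
    haveI := isIso_bmap (W := W) j.hom
    haveI := (prop_map (P := @Etale) Φ c).2 hc
    haveI := (prop_map (P := @Surjective) Φ c).2 hs
    refine ⟨Φ.obj y', Φ.map c ≫ j.hom, Φ.map e, by rw [bmap_comp]; infer_instance, by rw [bmap_comp]; infer_instance,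
      ?_, ?_, fun y'' d e' h3 h4 => ?_⟩
    · have := congrArg Φ.map h1
      rw [Φ.toFunctor.map_comp, Φ.toFunctor.map_comp, Functor.map_preimage] at this
      rw [reassoc_of% this]
      simp
    · have := congrArg Φ.map h2
      rw [Φ.toFunctor.map_comp, Φ.toFunctor.map_comp, Functor.map_preimage] at this
      rw [reassoc_of% this]
      simp
    · obtain ⟨y₁, ⟨l⟩⟩ := Functor.EssSurj.mem_essImage (F := Φ.toFunctor) y''
      let d₀ : y₁ ⟶ y₀ := Φ.toFunctor.preimage (l.hom ≫ d ≫ j.inv)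
      let e₀ : y₁ ⟶ R := Φ.toFunctor.preimage (l.hom ≫ e')
      obtain ⟨θ, ⟨t1, t2⟩, huθ⟩ := hu y₁ d₀ e₀
        (Φ.toFunctor.map_injective (by
          rw [← cancel_mono i₁.hom]
          simp only [d₀, e₀, Functor.map_comp, Functor.map_preimage, Category.assoc, Iso.inv_hom_id,
            Category.comp_id, Iso.inv_hom_id_assoc, h3]))
        (Φ.toFunctor.map_injective (by
          rw [← cancel_mono i₂.hom]
          simp only [d₀, e₀, Functor.map_comp, Functor.map_preimage, Category.assoc, Iso.inv_hom_id,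
            Category.comp_id, Iso.inv_hom_id_assoc, h4]))
      refine ⟨l.inv ≫ Φ.map θ, ⟨?_, ?_⟩, fun θ' hθ' => ?_⟩
      · rw [Category.assoc, ← Φ.toFunctor.map_comp_assoc, t1, Functor.map_preimage]
        simp
      · rw [Category.assoc, ← Φ.toFunctor.map_comp, t2, Functor.map_preimage]
        simp
      · have h5 : Φ.toFunctor.preimage (l.hom ≫ θ') = θ := huθ _ ⟨Φ.toFunctor.map_injective (by
          rw [← cancel_mono j.hom]
          simp only [d₀, Functor.map_comp, Functor.map_preimage, Category.assoc, Iso.inv_hom_id, Category.comp_id]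
          exact congrArg (l.hom ≫ ·) hθ'.1), Φ.toFunctor.map_injective (by
          simp only [e₀, Functor.map_comp, Functor.map_preimage, Category.assoc]
          exact congrArg (l.hom ≫ ·) hθ'.2)⟩
        rw [← h5, Functor.map_preimage, Iso.inv_hom_id_assoc]

end General

variable {S : Scheme.{u}} {𝒳 𝒴 : AlgSt.Cat S} [IsFibGrpd 𝒳.p] [IsFibGrpd 𝒴.p] (f : 𝒳 ⥤ᵇ 𝒴)
  {T : Over S} (z : 𝒴.p.Fiber T)

/-- The fibre product with the scheme of an object as the category over the object. -/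
def fpToFib : fp (uf z) f ⥤ᵇ fibCat f z.1 where
  toFunctor :=
    { obj := fun η => CostructuredArrow.mk (S := f.toFunctor) (Y := η.obj.snd) (η.obj.iso.inv ≫ pbm z η.obj.fst.sec.down)
      map := fun {η η'} m => CostructuredArrow.homMk m.hom.snd (by
        show f.map m.hom.snd ≫ η'.obj.iso.inv ≫ pbm z η'.obj.fst.sec.down = η.obj.iso.inv ≫ pbm z η.obj.fst.sec.down
        rw [← cancel_epi η.obj.iso.hom, Iso.hom_inv_id_assoc, ← Category.assoc]
        erw [← m.hom.w]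
        rw [Category.assoc, Iso.hom_inv_id_assoc]
        exact uf_map_pbm z m.hom.fst)
      map_id := fun _ => CostructuredArrow.hom_ext _ _ rfl
      map_comp := fun _ _ => CostructuredArrow.hom_ext _ _ rfl }
  w := by
    refine CategoryTheory.Functor.ext (fun η => obj_snd_eq η) (fun η η' m => ?_)
    haveI := isHomLift_snd ((fp (uf z) f).p.map m) m
    exact IsHomLift.fac' 𝒳.p ((fp (uf z) f).p.map m) m.hom.snd

theorem fpToFib_eltObj {T' : Over S} (E : Elt f z T') :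
    (fpToFib f z).obj (eltObj E) = CostructuredArrow.mk (S := f.toFunctor) (Y := E.obj.1) E.map := by
  show CostructuredArrow.mk (S := f.toFunctor) (Y := E.obj.1) ((eIso E).inv ≫ pbm z E.base) = _
  rw [← eIso_map E, Iso.inv_hom_id_assoc]

theorem faithful_fpToFib : (fpToFib f z).toFunctor.Faithful := by
  refine ⟨fun {η η'} m m' h => ?_⟩
  have h1 : m.hom.snd = m'.hom.snd := congrArg CommaMorphism.left h
  refine fp_hom_ext (Stk.EltObj.hom_ext ?_) h1
  have e1 := FibLib.isHomLift_snd ((fp (uf z) f).p.map m) m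
  have e2 := FibLib.isHomLift_snd ((fp (uf z) f).p.map m') m'
  rw [← h1] at e2
  exact IsoNatLib.eq_of_lifts 𝒳.p m.hom.snd e1 e2

theorem iso_inv_lift (η : (fp (uf z) f).obj) : 𝒴.p.IsHomLift (𝟙 η.obj.fst.base) η.obj.iso.inv :=
  @IsHomLift.lift_id_inv _ _ _ _ 𝒴.p _ _ _ η.obj.iso η.property

theorem full_fpToFib : (fpToFib f z).toFunctor.Full := by
  refine ⟨fun {η η'} θ => ?_⟩
  let h : η.obj.fst.base ⟶ η'.obj.fst.base :=
    eqToHom (obj_snd_eq η).symm ≫ 𝒳.p.map θ.left ≫ eqToHom (obj_snd_eq η')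
  have hl : 𝒳.p.IsHomLift h θ.left :=
    IsHomLift.of_fac' 𝒳.p h θ.left (obj_snd_eq η) (obj_snd_eq η') (by simp [h])
  have i1 := iso_inv_lift f z η
  have i2 := iso_inv_lift f z η'
  have l1 : 𝒴.p.IsHomLift η.obj.fst.sec.down (η.obj.iso.inv ≫ pbm z η.obj.fst.sec.down) :=
    lift_congr (Category.id_comp _) (comp_lift i1 (pbm_lift z _))
  have l2 : 𝒴.p.IsHomLift (h ≫ η'.obj.fst.sec.down)
      (f.map θ.left ≫ η'.obj.iso.inv ≫ pbm z η'.obj.fst.sec.down) :=
    comp_lift (fun_lift f hl) (lift_congr (Category.id_comp _) (comp_lift i2 (pbm_lift z _)))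
  have hw : f.map θ.left ≫ η'.obj.iso.inv ≫ pbm z η'.obj.fst.sec.down =
      η.obj.iso.inv ≫ pbm z η.obj.fst.sec.down := CostructuredArrow.w θ
  rw [hw] at l2
  let m : η.obj.fst ⟶ η'.obj.fst := ⟨h, congrArg ULift.up (IsoNatLib.eq_of_lifts 𝒴.p _ l2 l1)⟩
  refine ⟨fpHom m θ.left ?_, CostructuredArrow.hom_ext _ _ rfl⟩
  have hm : 𝒴.p.IsHomLift h ((uf z).map m) :=
    haveI : (AlgSt.ofSch T).p.IsHomLift h m := IsHomLift.map (AlgSt.ofSch T).p m
    (uf z).preserves_isHomLift h m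
  refine (cancel_mono η'.obj.iso.inv).1 ?_
  refine eq_of_fac (pbm_lift z η'.obj.fst.sec.down) (g := h) ?_ ?_ ?_
  · rw [Category.assoc, Iso.hom_inv_id, Category.comp_id]; exact hm
  · exact lift_congr (by simp) (comp_lift (comp_lift η.property (fun_lift f hl)) i2)
  · rw [Category.assoc, Category.assoc, Category.assoc, Category.assoc, hw, Iso.hom_inv_id_assoc,
      Iso.hom_inv_id_assoc]
    exact uf_map_pbm z m

theorem essSurj_fpToFib : (fpToFib f z).toFunctor.EssSurj := by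
  refine ⟨fun x => ?_⟩
  obtain ⟨T', rfl⟩ : ∃ T', T' = 𝒳.p.obj x.left := ⟨_, rfl⟩
  let b : 𝒳.p.obj x.left ⟶ T := baseOver f x.left x.hom ≫ eqToHom z.2
  haveI : 𝒴.p.IsHomLift (baseOver f x.left x.hom) x.hom := GenDescLib.lift_baseOver x
  let E : Elt f z (𝒳.p.obj x.left) := ⟨b, Fiber.mk (p := 𝒳.p) (a := x.left) rfl, x.hom, inferInstance⟩
  exact ⟨eltObj E, ⟨eqToIso (fpToFib_eltObj f z E)⟩⟩

/-- The category over an object has a flat system. -/
theorem exists_flatSys_fibCat (h𝒳 : AlgSt.IsAlgStack Scheme.fppfPrecoverage 𝒳)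
    (h𝒴 : AlgSt.IsAlgStack Scheme.fppfPrecoverage 𝒴) (η : 𝒴.obj) :
    ∃ Mem : (fibCat f η).obj → Prop, FlatSys Mem := by
  let z : 𝒴.p.Fiber (𝒴.p.obj η) := Fiber.mk (p := 𝒴.p) (a := η) rfl
  have hfp := isAlgStack_fp' (isAlgStack_ofSch (𝒴.p.obj η)) h𝒳 h𝒴 (uf z) f
  obtain ⟨U, x, hx, hxs⟩ := hfp.atlas
  haveI : IsFibGrpd (fp (uf z) f).p := isFibGrpd_of_isAlgStack hfp
  haveI := faithful_fpToFib f z
  haveI := full_fpToFib f z
  haveI := essSurj_fpToFib f z
  haveI : IsFibGrpd (fibCat f z.1).p := isFibGrpd_fibCat f z.1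
  exact ⟨_, (flatSys_atlas x hx hxs).transport (fpToFib f z)⟩

end StPushLib
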