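import Groth.Agent.TwDescLib.Cast
import Groth.Agent.GenDescLib.Glue
import Groth.Agent.StPushLib.Transport

/-!
# Transfer along full functors reaching every object
-/

set_option autoImplicit false
set_option linter.style.haveILetI false
set_option backward.isDefEq.respectTransparency false
set_option backward.isDefEq.respectTransparency.types false
set_option maxHeartbeats 800000

universe u v w v' w'

open CategoryTheory CategoryTheory.Limits AlgebraicGeometry FibCat StMod GenDescLib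
open TwDescLib (LocImage IsFppf ci tot totMap vert totMap_app comp_g vert_g ci_hom_g ci_inv_g)

noncomputable section

namespace StPushLib

variable {S : Scheme.{u}} {A : BasedCategory.{v, w} (Over S)} {B : BasedCategory.{v', w'} (Over S)} (Ψ : B ⥤ᵇ A)
  [Ψ.toFunctor.Full] [Ψ.toFunctor.EssSurj]

omit [Ψ.toFunctor.Full] in
theorem locImage_of_essSurj : LocImage Ψ.obj := fun a => by
  obtain ⟨b, ⟨i⟩⟩ := Functor.EssSurj.mem_essImage (F := Ψ.toFunctor) a
  haveI := isIso_bmap (W := A) i.hom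
  exact ⟨PUnit, fun _ => b, fun _ => i.hom,
    ⟨fun t => ⟨⟨⟩, inv (bmap A i.hom) t, by rw [← Scheme.Hom.comp_apply, IsIso.inv_hom_id]; rfl⟩,
      fun _ => inferInstance, fun _ => inferInstance⟩⟩

/-- Inverse image along such a functor is full on morphisms into quasi-coherent modules. -/
theorem exists_hom_lift [IsFibGrpd A.p] {F G : Mod A} (hG : isQCoh A G) (φ : Mod.comap Ψ F ⟶ Mod.comap Ψ G) :
    ∃ a : F ⟶ G, Mod.comapMap Ψ a = φ := by
  choose v hv using fun b : B.obj => TwDescLib.exists_vert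
    ((ci Ψ G b).inv ≫ vert (φ.app b) ≫ (ci Ψ F b).hom) (by
      rw [comp_g, comp_g, ci_inv_g, ci_hom_g, vert_g]
      show eqToHom _ ≫ 𝟙 _ ≫ eqToHom _ = 𝟙 _
      rw [Category.id_comp, eqToHom_trans, eqToHom_refl])
  let ψ : Mod.comap (TwDescLib.indIncl Ψ.obj) F ⟶ Mod.comap (TwDescLib.indIncl Ψ.obj) G :=
    TwDescLib.homOfArr (𝒴 := TwDescLib.ind Ψ.obj) (fun b => v b) fun {b' b} l => by
      obtain ⟨l⟩ := l
      obtain ⟨l₀, rfl⟩ := Ψ.toFunctor.map_surjective l
      refine (congrArg (vert (v b') ≫ ·) (TwDescLib.totMap_comap_incl (f := Ψ.obj) F (Ψ.map l₀))).trans ?_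
      refine Eq.trans ?_ (congrArg (· ≫ vert (v b)) (TwDescLib.totMap_comap_incl (f := Ψ.obj) G (Ψ.map l₀)).symm)
      rw [hv, hv, Category.assoc, Category.assoc, TwDescLib.ci_nat, ← Category.assoc (vert _), totMap_app,
        ← Category.assoc (totMap G _), TwDescLib.ci_nat']
      simp only [Category.assoc]
  obtain ⟨a, ha⟩ := TwDescLib.exists_hom_of_incl (locImage_of_essSurj Ψ) hG ψ
  refine ⟨a, Mod.hom_ext fun b => TwDescLib.vert_injective ?_⟩
  refine (cancel_mono (ci Ψ F b).hom).1 ?_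
  rw [TwDescLib.ci_map, show a.app (Ψ.obj b) = v b from ha b, hv, Iso.hom_inv_id_assoc]

/-- Generation passes along such a functor. -/
theorem isGenFam_of_equiv [IsFibGrpd A.p] {ι : Type u} (E : ι → QCoh A)
    (h : IsGenFam (fun i => (comapQ Ψ).obj (E i))) : IsGenFam E := by
  rw [isGenFam_iff] at h ⊢
  intro M N u hu
  have h0 : (comapQ Ψ).map u = 0 := h _ fun i φ => by
    obtain ⟨a, rfl⟩ := exists_hom_lift Ψ M.property φ
    show Mod.comapMap Ψ a ≫ Mod.comapMap Ψ u.hom = 0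
    rw [show Mod.comapMap Ψ a ≫ Mod.comapMap Ψ u.hom = Mod.comapMap Ψ (a ≫ u.hom) from
      ((comapFunctor Ψ).map_comp a u.hom).symm, hu i a]
    exact (comapFunctor Ψ).map_zero _ _
  refine InducedCategory.hom_ext (TwDescLib.comap_incl_hom_injective (locImage_of_essSurj Ψ) N.property.1
    fun b => TwDescLib.vert_injective ?_)
  refine (cancel_epi (ci Ψ N.obj b).hom).1 ?_
  rw [← TwDescLib.ci_map Ψ u.hom b]
  have h1 := congrArg (fun T : (comapQ Ψ).obj M ⟶ (comapQ Ψ).obj N => T.hom.app b) h0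
  rw [show (Mod.comapMap Ψ u.hom).app b = _ from h1]
  have h2 : ((comapFunctor Ψ).map (0 : M.obj ⟶ N.obj)).app b = (0 : (comapFunctor Ψ).obj M.obj ⟶ _).app b :=
    congrArg (fun T => Mod.Hom.app T b) ((comapFunctor Ψ).map_zero _ _)
  exact (congrArg (fun T => vert T ≫ (ci Ψ M.obj b).hom) h2.symm).trans (TwDescLib.ci_map Ψ (0 : M.obj ⟶ N.obj) b)

/-- Charts pass along such a functor. -/
theorem chart_of_equiv (hA : Fibred A) {w0 r : B.obj} {p q : r ⟶ w0} (hW : Chart B w0 r p q) :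
    Chart A (Ψ.obj w0) (Ψ.obj r) (Ψ.map p) (Ψ.map q) where
  fibred := hA
  cov a := by
    obtain ⟨b, ⟨i⟩⟩ := Functor.EssSurj.mem_essImage (F := Ψ.toFunctor) a
    obtain ⟨b', c, e, h1, h2, h3⟩ := hW.cov b
    haveI := isIso_bmap (W := A) i.hom
    haveI := (prop_map (P := @Flat) Ψ c).2 h1
    haveI := (prop_map (P := @Surjective) Ψ c).2 h2
    haveI := (prop_map (P := @LocallyOfFinitePresentation) Ψ c).2 h3
    exact ⟨Ψ.obj b', Ψ.map c ≫ i.hom, Ψ.map e, by rw [bmap_comp]; infer_instance, by rw [bmap_comp]; infer_instance,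
      by rw [bmap_comp]; infer_instance⟩
  rel a g g' := by
    obtain ⟨b, ⟨i⟩⟩ := Functor.EssSurj.mem_essImage (F := Ψ.toFunctor) a
    obtain ⟨g0, hg0⟩ := Ψ.toFunctor.map_surjective (i.hom ≫ g)
    obtain ⟨g1, hg1⟩ := Ψ.toFunctor.map_surjective (i.hom ≫ g')
    obtain ⟨b', c, e, h1, h2, e1, e2⟩ := hW.rel b g0 g1
    haveI := isIso_bmap (W := A) i.hom
    haveI := (prop_map (P := @Flat) Ψ c).2 h1
    haveI := (prop_map (P := @Surjective) Ψ c).2 h2
    refine ⟨Ψ.obj b', Ψ.map c ≫ i.hom, Ψ.map e, by rw [bmap_comp]; infer_instance,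
      by rw [bmap_comp]; infer_instance, ?_, ?_⟩
    · rw [Category.assoc, ← hg0, ← Ψ.toFunctor.map_comp, ← Ψ.toFunctor.map_comp, e1]
    · rw [Category.assoc, ← hg1, ← Ψ.toFunctor.map_comp, ← Ψ.toFunctor.map_comp, e2]

omit [Ψ.toFunctor.Full] [Ψ.toFunctor.EssSurj] in
theorem isAffine_obj (b : B.obj) (h : IsAffine (sch B b)) : IsAffine (sch A (Ψ.obj b)) := by
  rw [sch_obj_eq Ψ b]; exact h

omit [Ψ.toFunctor.Full] [Ψ.toFunctor.EssSurj] in
/-- Generation does not depend on the family up to isomorphism. -/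
theorem isGenFam_of_iso {ι : Type u} {E E' : ι → QCoh A} (e : ∀ i, (E i).obj ≅ (E' i).obj)
    (h : IsGenFam E) : IsGenFam E' := by
  rw [isGenFam_iff] at h ⊢
  intro M N u hu
  refine h u fun i φ => ?_
  rw [← cancel_epi (e i).inv, ← Category.assoc, hu i ((e i).inv ≫ φ), comp_zero]

end StPushLib
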