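import Groth.Agent.StPushLib.Cover
import Groth.Agent.TwDescLib.Cast

/-!
# Generation by inverse images from generation by the structure sheaf on the fibres
-/

set_option autoImplicit false
set_option linter.style.haveILetI false
set_option backward.isDefEq.respectTransparency false
set_option backward.isDefEq.respectTransparency.types false
set_option maxHeartbeats 800000

universe u

open CategoryTheory CategoryTheory.Limits AlgebraicGeometry AlgSp FibCat FibLib AlgStLib Opposite StMod GenDescLib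
open TwDescLib (tot totMap vert Cart ci IsFlatCover glue_unique cart_totMap comp_g vert_g totMap_g MObj)
open CohAffLib (oneSec hom_ext_one mapTop_oneSec)

noncomputable section

namespace StPushLib

variable {S : Scheme.{u}} {V W : AlgSt.Cat S} [IsFibGrpd V.p] [IsFibGrpd W.p] {π : V ⥤ᵇ W} {Mem : W.obj → Prop}

section Arrows

variable {M : Mod V} (P : Push π Mem (O V) isCartesian_O M)

/-- The comparison arrow of an inverse image at an object above an object of the target. -/
def cA (F : Mod W) (x : V.obj) {z : W.obj} (a : π.obj x ⟶ z) : tot (Mod.comap π F) x ⟶ tot F z :=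
  (ci π F x).hom ≫ totMap F a

omit [IsFibGrpd V.p] [IsFibGrpd W.p] in
theorem cA_g (F : Mod W) (x : V.obj) {z : W.obj} (a : π.obj x ⟶ z) : (cA F x a).g = (baseOver π x a).left := by
  rw [cA, comp_g, TwDescLib.ci_hom_g, totMap_g, baseOver, Over.comp_left, Over.eqToHom_left]

omit [IsFibGrpd V.p] [IsFibGrpd W.p] in
theorem cart_cA {F : Mod W} (hF : F.IsCartesian) (x : V.obj) {z : W.obj} (a : π.obj x ⟶ z) : Cart (cA (π := π) F x a) :=
  (TwDescLib.cart_of_isIso _).comp (cart_totMap hF a)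

omit [IsFibGrpd V.p] [IsFibGrpd W.p] in
theorem cA_nat (F : Mod W) {x' x : V.obj} (d : x' ⟶ x) {z : W.obj} (a : π.obj x ⟶ z) :
    totMap (Mod.comap π F) d ≫ cA F x a = cA F x' (π.map d ≫ a) := by
  rw [cA, cA, ← TwDescLib.ci_nat_assoc, TwDescLib.totMap_comp]

variable (hMem : FlatSys Mem)

include hMem in
theorem exists_ev (z : {z // Mem z}) (x : V.obj) (a : π.obj x ⟶ memObj z) :
    ∃ m : P.G.obj.obj (memObj z) ⟶ (Scheme.Modules.pushforward (baseOver π x a).left).obj (M.obj x),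
      ∀ t, m.app ⊤ (P.ι z t) = (t.1 x a).app ⊤ (oneSec x) := by
  haveI : IsAffine (sch W (memObj z)) := hMem.aff _ z.2
  haveI : Coh.IsQCoh (P.G.obj.obj (memObj z)) := P.G.property.2 _
  let ψ : Γ(P.G.obj.obj (memObj z), ⊤) →+ Γ(M.obj x, ⊤) :=
    (AddMonoidHom.mk' (fun t : HomFam π (O V) isCartesian_O M (memObj z) => (t.1 x a).app ⊤ (oneSec x))
      (fun s t => rfl)).comp (P.ι z).symm.toAddMonoidHom
  obtain ⟨m, hm, -⟩ := OmegaAffLib.exists_hom_of_top (P.G.obj.obj (memObj z))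
    ((Scheme.Modules.pushforward (baseOver π x a).left).obj (M.obj x)) ψ fun r t => by
      show ((((P.ι z).symm (r • t))).1 x a).app ⊤ (oneSec x) =
        (show Γ(M.obj x, ⊤) from (baseOver π x a).left.appTop r • (((P.ι z).symm t).1 x a).app ⊤ (oneSec x))
      rw [show (P.ι z).symm (r • t) = r • (P.ι z).symm t from (P.ι z).injective (by rw [P.smul]; simp)]
      exact scalarEnd_top (M.obj x) _ _
  refine ⟨m, fun t => (hm _).trans ?_⟩
  show (((P.ι z).symm (P.ι z t)).1 x a).app ⊤ (oneSec x) = _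
  rw [AddEquiv.symm_apply_apply]

/-- The evaluation arrow. -/
def evA (z : {z // Mem z}) (x : V.obj) (a : π.obj x ⟶ memObj z) : tot M x ⟶ tot P.G.obj (memObj z) :=
  ⟨(baseOver π x a).left, (exists_ev P hMem z x a).choose⟩

theorem evA_app (z : {z // Mem z}) (x : V.obj) (a : π.obj x ⟶ memObj z) (t) :
    (evA P hMem z x a).m.app ⊤ (P.ι z t) = (t.1 x a).app ⊤ (oneSec x) :=
  (exists_ev P hMem z x a).choose_spec t

theorem evA_ext {z : {z // Mem z}} {x : V.obj} {b₁ b₂ : tot M x ⟶ tot P.G.obj (memObj z)} (e : b₁.g = b₂.g)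
    (haff : IsAffine (sch W (memObj z)))
    (h : ∀ t, (M.obj x).presheaf.map (eqToHom (show b₂.g ⁻¹ᵁ ⊤ = b₁.g ⁻¹ᵁ ⊤ by rw [e])).op
      (b₁.m.app ⊤ (P.ι z t)) = b₂.m.app ⊤ (P.ι z t)) : b₁ = b₂ := by
  obtain ⟨g, m₁⟩ := b₁
  obtain ⟨g', m₂⟩ := b₂
  dsimp only at e
  subst e
  haveI : IsAffine (tot P.G.obj (memObj z)).X := haff
  haveI : Coh.IsQCoh (tot P.G.obj (memObj z)).M := P.G.property.2 _
  refine arr_ext fun t => ?_
  obtain ⟨t, rfl⟩ := (P.ι z).surjective t
  refine Eq.trans ?_ (h t)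
  exact (congr($((M.obj x).presheaf.map_id _) _)).symm

theorem evA_nat {z : {z // Mem z}} {x' x : V.obj} (d : x' ⟶ x) (a : π.obj x ⟶ memObj z) :
    totMap M d ≫ evA P hMem z x a = evA P hMem z x' (π.map d ≫ a) := by
  refine evA_ext P (bmap_comp_baseOver_left π d a) (hMem.aff _ z.2) fun t => ?_
  refine (congrArg _ ((congrArg ((M.map d rfl).app ⊤) (evA_app P hMem z x a t)).trans ?_)).trans
    ((congr($((M.obj x').presheaf.map_id _) _)).trans (evA_app P hMem z x' (π.map d ≫ a) t).symm)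
  show M.mapTop d ((t.1 x a).app ⊤ (oneSec x)) = _
  rw [← pull_app (O V) M isCartesian_O d, mapTop_oneSec, t.compat d a]
  rfl

theorem evA_res {z' z : {z // Mem z}} (x : V.obj) (a' : π.obj x ⟶ memObj z') (l : memObj z' ⟶ memObj z) :
    evA P hMem z' x a' ≫ totMap P.G.obj l = evA P hMem z x (a' ≫ l) := by
  refine evA_ext P (by
    show (baseOver π x a').left ≫ bmap W l = (baseOver π x (a' ≫ l)).left
    rw [baseOver_comp]; rfl) (hMem.aff _ z.2) fun t => ?_
  refine (congrArg _ ((congrArg ((evA P hMem z' x a').m.app ⊤) (P.res z' z l t)).trans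
    (evA_app P hMem z' x a' _))).trans
    ((congr($((M.obj x).presheaf.map_id _) _)).trans (evA_app P hMem z x (a' ≫ l) t).symm)

end Arrows

variable {M : Mod V} {F : Mod W} (hF : F.IsCartesian) (P : Push π Mem (O V) isCartesian_O M) (hMem : FlatSys Mem)
  (φ : F ⟶ P.G.obj)

/-- A vertical arrow compatible with the evaluation. -/
def Sat (x : V.obj) (χ : tot M x ⟶ tot (Mod.comap π F) x) (z : {z // Mem z}) (a : π.obj x ⟶ memObj z) : Prop :=
  χ ≫ cA F x a = evA P hMem z x a ≫ vert (φ.app (memObj z))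

include hF in
theorem Sat.pull {x' x : V.obj} {χ : tot M x ⟶ tot (Mod.comap π F) x} {z : {z // Mem z}} {a : π.obj x ⟶ memObj z}
    (h : Sat P hMem φ x χ z a) (hχ : χ.g = 𝟙 _) (d : x' ⟶ x) (σ : tot M x' ⟶ tot (Mod.comap π F) x')
    (hσ : σ.g = 𝟙 _) (hd : σ ≫ totMap (Mod.comap π F) d = totMap M d ≫ χ) :
    Sat P hMem φ x' σ z (π.map d ≫ a) := by
  show σ ≫ cA F x' (π.map d ≫ a) = _
  rw [← cA_nat, reassoc_of% hd, h, ← Category.assoc, evA_nat]

include hF in
theorem sat_indep (hM : M.IsCartesian) {x : V.obj} {χ : tot M x ⟶ tot (Mod.comap π F) x} (hχ : χ.g = 𝟙 _)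
    [Coh.IsQCoh (M.obj x)] {z1 z2 : {z // Mem z}} {a : π.obj x ⟶ memObj z1} (h : Sat P hMem φ x χ z1 a)
    (b : π.obj x ⟶ memObj z2) : Sat P hMem φ x χ z2 b := by
  obtain ⟨I, R, p1, p2, hA, -, -⟩ := hMem.relSys.rel z1 z2
  obtain ⟨K, y', c, i, e, hc, he⟩ := hA (π.obj x) a b
  obtain ⟨x', d, g, hd, hg⟩ := exists_liftCover x c hc
  refine glue_unique (u := fun k => totMap M (d k)) ⟨fun k => cart_totMap hM _, hd.flat, hd.surj⟩ ?_ fun k => ?_
  · rw [comp_g, comp_g, hχ, cA_g, vert_g]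
    exact (Category.id_comp _).trans (Category.comp_id _).symm
  obtain ⟨h1, h2⟩ := he k
  have hFc : (Mod.comap π F).IsCartesian := isCartesian_comap hF
  let σ := (cart_totMap hFc (d k)).lift (totMap M (d k) ≫ χ) (𝟙 _) (by
    rw [comp_g, hχ, totMap_g, totMap_g, Category.id_comp]
    exact (Category.comp_id _).symm)
  have hσg : σ.g = 𝟙 _ := Cart.lift_g _ _ _ _
  have hσ : σ ≫ totMap (Mod.comap π F) (d k) = totMap M (d k) ≫ χ := Cart.fac _ _ _ _
  obtain ⟨ge, hge⟩ : ∃ ge, ge = g k ≫ e k := ⟨_, rfl⟩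
  have ea : π.map (d k) ≫ a = ge ≫ p1 (i k) := by
    rw [hge, Category.assoc, h1, ← Category.assoc, hg]
  have eb : π.map (d k) ≫ b = ge ≫ p2 (i k) := by
    rw [hge, Category.assoc, h2, ← Category.assoc, hg]
  have hR : σ ≫ cA F (x' k) ge = evA P hMem (R (i k)) (x' k) ge ≫ vert (φ.app (memObj (R (i k)))) := by
    refine (cart_totMap hF (p1 (i k))).cancel ?_ ?_
    · rw [comp_g, comp_g, hσg, cA_g, vert_g]
      exact (Category.id_comp _).trans (Category.comp_id _).symm
    · have h3 := Sat.pull hF P hMem φ h hχ (d k) σ hσg hσ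
      rw [ea] at h3
      have e1 : cA F (x' k) ge ≫ totMap F (p1 (i k)) = cA F (x' k) (ge ≫ p1 (i k)) := by
        rw [cA, cA, Category.assoc, TwDescLib.totMap_comp]
      rw [Category.assoc, e1, Category.assoc, TwDescLib.totMap_app, ← Category.assoc, evA_res]
      exact h3
  rw [← reassoc_of% hσ, cA_nat, ← Category.assoc (totMap M (d k)), evA_nat, eb]
  have e2 : cA F (x' k) (ge ≫ p2 (i k)) = cA F (x' k) ge ≫ totMap F (p2 (i k)) := by
    rw [cA, cA, Category.assoc, TwDescLib.totMap_comp]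
  rw [e2, ← Category.assoc, hR, Category.assoc, TwDescLib.totMap_app, ← Category.assoc, evA_res]

include hF in
theorem exists_adjoint (hM : StMod.isQCoh V M) :
    ∃ ψ : Mod.comap π F ⟶ M, ∀ (x : V.obj) (z : {z // Mem z}) (a : π.obj x ⟶ memObj z),
      Sat P hMem φ x (vert (ψ.app x)) z a := by
  have hFc : (Mod.comap π F).IsCartesian := isCartesian_comap hF
  haveI : ∀ x, Coh.IsQCoh (M.obj x) := hM.2
  have hex : ∀ x : AboveMem π Mem, ∃ v : (Mod.comap π F).obj (aboveObj π Mem x) ⟶ M.obj (aboveObj π Mem x),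
      ∀ (z : {z // Mem z}) (a : π.obj (aboveObj π Mem x) ⟶ memObj z), Sat P hMem φ _ (vert v) z a := fun x => by
    obtain ⟨z0, ⟨a0⟩⟩ := x.2
    obtain ⟨v, hv⟩ := TwDescLib.exists_vert ((cart_cA hF x.1 a0).lift
      (evA P hMem z0 x.1 a0 ≫ vert (φ.app (memObj z0))) (𝟙 _) (by
        rw [Category.id_comp, comp_g, vert_g, cA_g]
        exact (Category.comp_id _).symm)) (Cart.lift_g _ _ _ _)
    refine ⟨v, fun z a => sat_indep hF P hMem φ hM.1 (vert_g _) (a := a0) ?_ a⟩
    show vert v ≫ _ = _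
    rw [hv]
    exact Cart.fac _ _ _ _
  choose v hv using hex
  let Ψ : Mod.comap (TwDescLib.indIncl (aboveObj π Mem)) (Mod.comap π F) ⟶
      Mod.comap (TwDescLib.indIncl (aboveObj π Mem)) M :=
    TwDescLib.homOfArr (𝒴 := TwDescLib.ind (aboveObj π Mem)) (fun x => v x) fun {x' x} l => by
      obtain ⟨l⟩ := l
      refine (congrArg (vert (v x') ≫ ·) (TwDescLib.totMap_comap_incl (f := aboveObj π Mem) (Mod.comap π F) l)).trans ?_
      refine Eq.trans ?_ (congrArg (· ≫ vert (v x)) (TwDescLib.totMap_comap_incl (f := aboveObj π Mem) M l).symm)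
      obtain ⟨z, ⟨a⟩⟩ := x.2
      let σ := (cart_totMap hFc l).lift (totMap M l ≫ vert (v x)) (𝟙 _) (by
        rw [comp_g, vert_g, totMap_g, totMap_g, Category.id_comp]
        exact (Category.comp_id _).symm)
      have hσg : σ.g = 𝟙 _ := Cart.lift_g _ _ _ _
      have hσ : σ ≫ totMap (Mod.comap π F) l = totMap M l ≫ vert (v x) := Cart.fac _ _ _ _
      rw [show vert (v x') = σ from (cart_cA hF (aboveObj π Mem x') (π.map l ≫ a)).cancel ((vert_g _).trans hσg.symm)
        ((hv x' z (π.map l ≫ a)).trans (Sat.pull hF P hMem φ (hv x z a) (vert_g _) l σ hσg hσ).symm)]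
      exact hσ
  obtain ⟨ψ, hψ⟩ := TwDescLib.exists_hom_of_incl (locImage_above hMem) hM Ψ
  refine ⟨ψ, fun x z a => ?_⟩
  have h := hv ⟨x, z, ⟨a⟩⟩ z a
  rw [show ψ.app x = v ⟨x, z, ⟨a⟩⟩ from hψ ⟨x, z, ⟨a⟩⟩]
  exact h

omit hF hMem φ P

/-- Generation by inverse images follows from generation by the structure sheaf on the fibres. -/
theorem isGenFam_comap (hMem : FlatSys Mem) (hch : HasCharts π Mem) {ι : Type u} (F : ι → QCoh W)
    (hO : ∀ z, Mem z → IsGenFam (fun _ : PUnit.{u + 1} => (comapQ (fibFst π z)).obj (OQ V)))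
    (hF : IsGenFam F) (hOfp : (O V).IsFinPres) : IsGenFam (fun j => (comapQ π).obj (F j)) := by
  rw [isGenFam_iff] at hF ⊢
  intro M N u hu
  obtain ⟨P⟩ := exists_push (E := O V) (hE := isCartesian_O) hMem hch isLocQCoh_O hOfp M.property
  obtain ⟨P'⟩ := exists_push (E := O V) (hE := isCartesian_O) hMem hch isLocQCoh_O hOfp N.property
  obtain ⟨a, ha⟩ := P.exists_map hMem P' u.hom
  haveI : ∀ z : {z // Mem z}, IsAffine (sch W (memObj z)) := fun z => hMem.aff _ z.2
  have ha0 : a = 0 := hF a fun j φ => by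
    obtain ⟨ψ, hψ⟩ := exists_adjoint (F j).property.1 P hMem φ M.property
    have h1 : ∀ z, (φ ≫ a.hom).app (memObj z) = 0 := fun z => by
      haveI : Coh.IsQCoh ((F j).obj.obj (memObj z)) := (F j).property.2 _
      haveI : IsAffine (sch W (memObj z)) := hMem.aff _ z.2
      refine hom_ext_span (X := sch W (memObj z)) (fun s => s) (by rw [Set.range_id']; exact Submodule.span_univ) fun m => ?_
      show (a.hom.app (memObj z)).app ⊤ ((φ.app (memObj z)).app ⊤ m) = 0
      rw [← (P.ι z).apply_symm_apply ((φ.app (memObj z)).app ⊤ m), ha]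
      rw [show mapFam u.hom ((P.ι z).symm ((φ.app (memObj z)).app ⊤ m)) = 0 from HomFam.ext fun v b => by
        refine hom_ext_one N.obj ?_
        show (u.hom.app v).app ⊤ ((((P.ι z).symm ((φ.app (memObj z)).app ⊤ m)).1 v b).app ⊤ (oneSec v)) = 0
        rw [← evA_app P hMem z v b, AddEquiv.apply_symm_apply]
        have hs := TwDescLib.app_congr (hψ v z b) ⊤ m
        have h0 : ∀ w, (u.hom.app v).app ⊤ ((ψ.app v).app ⊤ w) = 0 := fun w =>
          congrArg (fun T : ((comapQ π).obj (F j)).obj ⟶ N.obj => (T.app v).app ⊤ w) (hu j ψ)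
        refine Eq.trans (congrArg ((u.hom.app v).app ⊤) ?_) (h0 ((cA (π := π) (F j).obj v b).m.app ⊤ m))
        refine Eq.trans ?_ (hs.symm.trans ?_)
        · rfl
        · exact congr($((M.obj.obj v).presheaf.map_id _) _)]
      exact map_zero _
    have h2 := eq_zero_of_members hMem (ObjectProperty.homMk (φ ≫ a.hom) : F j ⟶ P'.G) h1
    exact congrArg InducedCategory.Hom.hom h2
  refine eq_zero_of_above (π := π) hMem u fun x z b => ?_
  have h1 : (comapQ (fibFst π (memObj z))).map u = 0 :=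
    (isGenFam_iff _).1 (hO (memObj z) z.2) _ fun _ φ => by
      refine Mod.hom_ext fun y => ?_
      have h0 : mapFam u.hom (famOfHom isCartesian_O φ) = 0 := (P'.ι z).injective (by
        rw [← ha, ha0, map_zero]; rfl)
      exact congrArg (fun T : HomFam π (O V) isCartesian_O N.obj (memObj z) => T.1 y.left y.hom) h0
  exact congrArg (fun T : (comapQ (fibFst π (memObj z))).obj M ⟶ (comapQ (fibFst π (memObj z))).obj N =>
    T.hom.app (CostructuredArrow.mk (S := π.toFunctor) (Y := x) b)) h1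

end StPushLib
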