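import Groth.Agent.StPushLib.GenTarget
import Groth.Agent.StPushLib.GenSource
import Groth.Agent.StPushLib.Equiv
import Groth.Agent.RichLib.IsFPAffine
import Groth.Agent.GenDescLib.Atlas

/-!
# Generating families relative to a composite
-/

set_option autoImplicit false
set_option linter.style.haveILetI false
set_option backward.isDefEq.respectTransparency false
set_option backward.isDefEq.respectTransparency.types false
set_option maxHeartbeats 800000

universe u

open CategoryTheory CategoryTheory.Limits AlgebraicGeometry AlgSp FibCat FibLib AlgStLib Opposite StMod GenDescLib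
open CategoryTheory.Functor (Fiber IsPreFibered IsStronglyCartesian)

noncomputable section

namespace StPushLib

variable {S : Scheme.{u}}

theorem isFinPres_O (𝒳 : AlgSt.Cat S) : (O 𝒳).IsFinPres := fun ξ => by
  let X := sch 𝒳 ξ
  haveI : Coh.IsQCoh (Coh.structureModule X) := QCohLib.isQCoh_unit
  refine RichLib.IsFPAffine.isFP_of_finitePresentation (Coh.structureModule X) fun p => ?_
  obtain ⟨_, ⟨U, hU, rfl⟩, hpU, -⟩ := X.isBasis_affineOpens.exists_subset_of_mem_open (Set.mem_univ p) isOpen_univ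
  let e : Γ(Coh.structureModule X, U) ≃ₗ[Γ(X, U)] Γ(X, U) := { AddEquiv.refl _ with map_smul' := fun _ _ => rfl }
  exact ⟨U, hU, hpU, Module.FinitePresentation.of_equiv e.symm⟩

variable {𝒳 𝒴 𝒵 : AlgSt.Cat S} (f : 𝒳 ⥤ᵇ 𝒴) (g : 𝒴 ⥤ᵇ 𝒵)

/-- Composition with the first functor, over an object. -/
def fibPostFun (ζ : 𝒵.obj) : fibCat (BasedFunctor.comp f g) ζ ⥤ᵇ fibCat g ζ where
  toFunctor :=
    { obj := fun x => CostructuredArrow.mk (S := g.toFunctor) (Y := f.obj x.left) x.hom
      map := fun {x' x} φ => CostructuredArrow.homMk (f.map φ.left) (CostructuredArrow.w φ)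
      map_id := fun x => CostructuredArrow.hom_ext _ _ (f.toFunctor.map_id x.left)
      map_comp := fun φ ψ => CostructuredArrow.hom_ext _ _ (f.toFunctor.map_comp φ.left ψ.left) }
  w := by
    refine CategoryTheory.Functor.ext (fun x => f.w_obj x.left) (fun x' x φ => ?_)
    exact CategoryTheory.Functor.congr_hom f.w φ.left

variable {ζ : 𝒵.obj}

/-- The fibre of the first functor as the fibre of the composition with it. -/
def fibIntoPost (y : (fibCat g ζ).obj) : fibCat f y.left ⥤ᵇ fibCat (fibPostFun f g ζ) y where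
  toFunctor :=
    { obj := fun x => CostructuredArrow.mk (S := (fibPostFun f g ζ).toFunctor)
        (Y := CostructuredArrow.mk (S := (BasedFunctor.comp f g).toFunctor) (Y := x.left) (g.map x.hom ≫ y.hom))
        (CostructuredArrow.homMk x.hom rfl)
      map := fun {x' x} φ => CostructuredArrow.homMk
        (CostructuredArrow.homMk φ.left (by
          show g.map (f.map φ.left) ≫ g.map x.hom ≫ y.hom = g.map x'.hom ≫ y.hom
          rw [← g.toFunctor.map_comp_assoc]
          exact congrArg (fun t => g.map t ≫ y.hom) (CostructuredArrow.w φ)))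
        (CostructuredArrow.hom_ext _ _ (CostructuredArrow.w φ))
      map_id := fun _ => CostructuredArrow.hom_ext _ _ (CostructuredArrow.hom_ext _ _ rfl)
      map_comp := fun _ _ => CostructuredArrow.hom_ext _ _ (CostructuredArrow.hom_ext _ _ rfl) }
  w := rfl

theorem full_fibIntoPost (y : (fibCat g ζ).obj) : (fibIntoPost f g y).toFunctor.Full :=
  ⟨fun {x' x} θ => ⟨CostructuredArrow.homMk θ.left.left (congrArg CommaMorphism.left (CostructuredArrow.w θ)),
    CostructuredArrow.hom_ext _ _ (CostructuredArrow.hom_ext _ _ rfl)⟩⟩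

theorem essSurj_fibIntoPost (y : (fibCat g ζ).obj) : (fibIntoPost f g y).toFunctor.EssSurj := by
  refine ⟨fun v => ⟨CostructuredArrow.mk (S := f.toFunctor) (Y := v.left.left) v.hom.left, ⟨?_⟩⟩⟩
  refine CostructuredArrow.isoMk (CostructuredArrow.isoMk (Iso.refl v.left.left) ?_) ?_
  · show g.map (f.map (𝟙 v.left.left)) ≫ v.left.hom = g.map v.hom.left ≫ y.hom
    rw [f.toFunctor.map_id, g.toFunctor.map_id, Category.id_comp]
    exact (CostructuredArrow.w v.hom).symm
  · refine CostructuredArrow.hom_ext _ _ ?_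
    show f.map (𝟙 v.left.left) ≫ v.hom.left = v.hom.left
    rw [f.toFunctor.map_id, Category.id_comp]

variable [IsFibGrpd 𝒳.p] [IsFibGrpd 𝒴.p]

theorem hasCharts_fibPost (hfqc : AlgSt.IsQuasiCompactMor Scheme.fppfPrecoverage f)
    (hfqs : AlgSt.IsQuasiSeparatedMor f) {Mem : (fibCat g ζ).obj → Prop} (hMem : FlatSys Mem) :
    HasCharts (fibPostFun f g ζ) Mem := fun y hy => by
  haveI : IsAffine (sch 𝒴 y.left) := hMem.aff y hy
  haveI := isFibGrpd_fibCat (BasedFunctor.comp f g) ζ
  haveI := isFibGrpd_fibCat g ζ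
  obtain ⟨w0, r, p, q, hw0, hr, hW⟩ := exists_chartData hfqc hfqs y.left
  haveI := full_fibIntoPost f g y
  haveI := essSurj_fibIntoPost f g y
  exact ⟨_, _, _, _, isAffine_obj (fibIntoPost f g y) _ hw0, isAffine_obj (fibIntoPost f g y) _ hr,
    chart_of_equiv (fibIntoPost f g y) (fibred_fibCat (f := fibPostFun f g ζ) y) hW⟩

theorem gen_fibre {ι : Type u} (E : ι → QCoh 𝒳) (hE : IsRelGenFam f E) (y : (fibCat g ζ).obj)
    (hy : IsAffine (sch (fibCat g ζ) y)) :
    IsGenFam (fun i => (comapQ (fibFst (fibPostFun f g ζ) y)).obj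
      ((comapQ (fibFst (BasedFunctor.comp f g) ζ)).obj (E i))) := by
  haveI := isFibGrpd_fibCat (BasedFunctor.comp f g) ζ
  haveI := isFibGrpd_fibCat (fibPostFun f g ζ) y
  haveI := full_fibIntoPost f g y
  haveI := essSurj_fibIntoPost f g y
  refine isGenFam_of_equiv (fibIntoPost f g y) _ (isGenFam_of_iso (fun i => ?_) (hE y.left hy))
  exact comapCompIso (fibFst (BasedFunctor.comp f g) ζ)
      (BasedFunctor.comp (fibIntoPost f g y) (fibFst (fibPostFun f g ζ) y)) (E i).obj ≪≫
    comapCompIso (fibFst (fibPostFun f g ζ) y) (fibIntoPost f g y)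
      (Mod.comap (fibFst (BasedFunctor.comp f g) ζ) (E i).obj)

/-- The case of the structure sheaf on the source. -/
theorem isRelGenFam_comp_comapQ (h𝒴 : AlgSt.IsAlgStack Scheme.fppfPrecoverage 𝒴)
    (h𝒵 : AlgSt.IsAlgStack Scheme.fppfPrecoverage 𝒵) (hfqc : AlgSt.IsQuasiCompactMor Scheme.fppfPrecoverage f)
    (hfqs : AlgSt.IsQuasiSeparatedMor f) {ι : Type u} (F : ι → QCoh 𝒴)
    (hO : IsRelGenFam f (fun _ : PUnit.{u + 1} => OQ 𝒳)) (hF : IsRelGenFam g F) :
    IsRelGenFam (BasedFunctor.comp f g) (fun j => (comapQ f).obj (F j)) := by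
  haveI := isFibGrpd_of_isAlgStack h𝒵
  intro ζ hζ
  haveI := isFibGrpd_fibCat (BasedFunctor.comp f g) ζ
  haveI := isFibGrpd_fibCat g ζ
  obtain ⟨Mem, hMem⟩ := exists_flatSys_fibCat g h𝒴 h𝒵 ζ
  refine isGenFam_of_iso (fun j => ?_) (isGenFam_comap hMem (hasCharts_fibPost f g hfqc hfqs hMem)
    (fun j => (comapQ (fibFst g ζ)).obj (F j)) (fun y hy => ?_) (hF ζ hζ) (isFinPres_O _))
  · exact (comapCompIso (fibFst g ζ) (fibPostFun f g ζ) (F j).obj).symm ≪≫
      comapCompIso f (fibFst (BasedFunctor.comp f g) ζ) (F j).obj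
  · refine isGenFam_of_iso (fun _ => ?_) (gen_fibre f g _ hO y (hMem.aff y hy))
    exact (comapFunctor (fibFst (fibPostFun f g ζ) y)).mapIso (comapOIso (fibFst (BasedFunctor.comp f g) ζ))

/-- The case of the structure sheaf on the target. -/
theorem isRelGenFam_comp (h𝒴 : AlgSt.IsAlgStack Scheme.fppfPrecoverage 𝒴)
    (h𝒵 : AlgSt.IsAlgStack Scheme.fppfPrecoverage 𝒵) (hfqc : AlgSt.IsQuasiCompactMor Scheme.fppfPrecoverage f)
    (hfqs : AlgSt.IsQuasiSeparatedMor f) {ι : Type u} (E : ι → QCoh 𝒳) (hE : ∀ i, (E i).obj.IsFinPres)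
    (hE' : IsRelGenFam f E) (hO : IsRelGenFam g (fun _ : PUnit.{u + 1} => OQ 𝒴)) :
    IsRelGenFam (BasedFunctor.comp f g) E := by
  haveI := isFibGrpd_of_isAlgStack h𝒵
  intro ζ hζ
  haveI := isFibGrpd_fibCat (BasedFunctor.comp f g) ζ
  haveI := isFibGrpd_fibCat g ζ
  obtain ⟨Mem, hMem⟩ := exists_flatSys_fibCat g h𝒴 h𝒵 ζ
  exact isGenFam_of_fibres hMem (hasCharts_fibPost f g hfqc hfqs hMem)
    (fun i => (comapQ (fibFst (BasedFunctor.comp f g) ζ)).obj (E i)) (fun i ξ => hE i ξ.left)
    (fun y hy => gen_fibre f g E hE' y (hMem.aff y hy))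
    (isGenFam_of_iso (fun _ => comapOIso (fibFst g ζ)) (hO ζ hζ))

end StPushLib
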