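import Groth.Agent.StPushLib.Core
import Groth.Agent.StPushLib.Apply
import Groth.Agent.StPushLib.Equiv
import Groth.Agent.CohAffLib.Transfer
import Groth.Agent.CohAffLib.Desc
import Groth.Agent.GenDescLib.Atlas
import Groth.Agent.AlgSpLib.Points

/-!
# Cohomological affineness is stable under base change of the target
-/

set_option autoImplicit false
set_option linter.style.haveILetI false
set_option backward.isDefEq.respectTransparency false
set_option backward.isDefEq.respectTransparency.types false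
set_option maxHeartbeats 800000

universe u

open CategoryTheory CategoryTheory.Limits AlgebraicGeometry AlgSp AlgSpLib FibCat FibLib Opposite StMod GenDescLib
open CohAffLib (bcFst bcPt bcPtHom castSec mapTop_comap_castSec ofFamily mapTop_comapFst)

noncomputable section

namespace StPushLib

variable {S : Scheme.{u}} {𝒳 : AlgSt.Cat S} [IsFibGrpd 𝒳.p] {M M' : AlgSp.Sp S} (g : M' ⟶ M)
  (π : 𝒳 ⥤ᵇ AlgSt.ofSp M) (η : (AlgSt.ofSp M').obj)

theorem map_map_eq {N : AlgSp.Sp S} {a b c : Over S} {f : a ⟶ b} {k : b ⟶ c} {m : a ⟶ c} (h : f ≫ k = m)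
    (x : N.obj.obj (op c)) : N.obj.map f.op (N.obj.map k.op x) = N.obj.map m.op x := by
  subst h
  rw [← Functor.map_comp_apply, ← op_comp]

omit [IsFibGrpd 𝒳.p] in
theorem fpSnd_base (ξ : (fp (AlgSt.ofSpMap g) π).obj) : 𝒳.p.obj ξ.obj.snd = ξ.obj.fst.base :=
  FibLib.obj_snd_eq ξ

omit [IsFibGrpd 𝒳.p] in
theorem map_snd {ξ' ξ : (fp (AlgSt.ofSpMap g) π).obj} (φ : ξ' ⟶ ξ) :
    𝒳.p.map φ.hom.snd = eqToHom (fpSnd_base g π ξ') ≫ φ.hom.fst.hom ≫ eqToHom (fpSnd_base g π ξ).symm := by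
  haveI : (fp (AlgSt.ofSpMap g) π).p.IsHomLift ((fp (AlgSt.ofSpMap g) π).p.map φ) φ := IsHomLift.map _ _
  haveI := FibLib.isHomLift_snd ((fp (AlgSt.ofSpMap g) π).p.map φ) φ
  exact IsHomLift.fac' 𝒳.p ((fp (AlgSt.ofSpMap g) π).p.map φ) φ.hom.snd

/-- The comparison of the fibres. -/
def bcFib : fibCat π ((AlgSt.ofSpMap g).obj η) ⥤ᵇ fibCat (fpFst (AlgSt.ofSpMap g) π) η where
  toFunctor :=
    { obj := fun v => CostructuredArrow.mk (S := (fpFst (AlgSt.ofSpMap g) π).toFunctor)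
        (Y := bcPt g (η := η) v.left v.hom) (bcPtHom g (η := η) v.left v.hom)
      map := fun {v' v} φ => CostructuredArrow.homMk
        (fpHom (x := bcPt g (η := η) v'.left v'.hom) (y := bcPt g (η := η) v.left v.hom)
          (⟨𝒳.p.map φ.left, by
            show M'.obj.map (𝒳.p.map φ.left).op (M'.obj.map (baseOver π v.left v.hom).op η.sec) =
              M'.obj.map (baseOver π v'.left v'.hom).op η.sec
            rw [← Functor.map_comp_apply, ← op_comp, map_comp_baseOver, show π.map φ.left ≫ v.hom = v'.hom from CostructuredArrow.w φ]⟩ :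
            bcFst g (η := η) v'.left v'.hom ⟶ bcFst g (η := η) v.left v.hom)
          φ.left (Stk.EltObj.hom_ext (by
            show 𝒳.p.map φ.left ≫ eqToHom (π.w_obj v.left).symm = eqToHom (π.w_obj v'.left).symm ≫ (π.map φ.left).hom
            rw [map_hom]
            simp)))
        (Stk.EltObj.hom_ext (by
          show 𝒳.p.map φ.left ≫ baseOver π v.left v.hom = baseOver π v'.left v'.hom
          rw [map_comp_baseOver, show π.map φ.left ≫ v.hom = v'.hom from CostructuredArrow.w φ]))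
      map_id := fun v => CostructuredArrow.hom_ext _ _ (FibLib.fp_hom_ext
        (Stk.EltObj.hom_ext (𝒳.p.map_id v.left)) rfl)
      map_comp := fun φ ψ => CostructuredArrow.hom_ext _ _ (FibLib.fp_hom_ext
        (Stk.EltObj.hom_ext (𝒳.p.map_comp φ.left ψ.left)) rfl) }
  w := rfl

theorem full_bcFib : (bcFib g π η).toFunctor.Full := by
  refine ⟨fun {v' v} θ => ?_⟩
  let φ : v'.left ⟶ v.left := θ.left.hom.snd
  have h2 : 𝒳.p.map φ = θ.left.hom.fst.hom := by
    rw [map_snd g π θ.left]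
    exact (Category.id_comp _).trans (Category.comp_id _)
  have h1 : 𝒳.p.map φ ≫ baseOver π v.left v.hom = baseOver π v'.left v'.hom := by
    rw [h2]
    exact congrArg Stk.EltObj.Hom.hom (CostructuredArrow.w θ)
  have hw : π.map φ ≫ v.hom = v'.hom := Stk.EltObj.hom_ext (by
    rw [← cancel_epi (eqToHom (π.w_obj v'.left).symm)]
    refine Eq.trans ?_ h1
    show eqToHom _ ≫ (π.map φ).hom ≫ v.hom.hom = 𝒳.p.map φ ≫ eqToHom _ ≫ v.hom.hom
    rw [map_hom]
    simp)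
  exact ⟨CostructuredArrow.homMk φ hw, CostructuredArrow.hom_ext _ _ (FibLib.fp_hom_ext (Stk.EltObj.hom_ext h2) rfl)⟩

theorem essSurj_bcFib : (bcFib g π η).toFunctor.EssSurj := by
  refine ⟨fun y => ?_⟩
  let ξ := y.left
  let v : (fibCat π ((AlgSt.ofSpMap g).obj η)).obj := CostructuredArrow.mk (S := π.toFunctor) (Y := ξ.obj.snd)
    (ξ.obj.iso.inv ≫ (AlgSt.ofSpMap g).map y.hom)
  have e := fpSnd_base g π ξ
  have hiso : ξ.obj.iso.hom.hom = eqToHom (e.symm.trans (π.w_obj ξ.obj.snd).symm) := by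
    haveI : (AlgSt.ofSp M).p.IsHomLift (𝟙 ((AlgSt.ofSp M').p.obj ξ.obj.fst)) ξ.obj.iso.hom := ξ.property
    refine (IsHomLift.fac' (AlgSt.ofSp M).p (𝟙 ((AlgSt.ofSp M').p.obj ξ.obj.fst)) ξ.obj.iso.hom).trans ?_
    simp
  have hinv : ξ.obj.iso.inv.hom = eqToHom ((π.w_obj ξ.obj.snd).trans e) := by
    have h := congrArg Stk.EltObj.Hom.hom ξ.obj.iso.hom_inv_id
    change ξ.obj.iso.hom.hom ≫ ξ.obj.iso.inv.hom = 𝟙 _ at h
    rw [hiso] at h
    rw [← cancel_epi (eqToHom (e.symm.trans (π.w_obj ξ.obj.snd).symm)), h, eqToHom_trans, eqToHom_refl]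
    rfl
  have hb : baseOver π v.left v.hom = eqToHom e ≫ y.hom.hom := by
    show eqToHom (π.w_obj ξ.obj.snd).symm ≫ ξ.obj.iso.inv.hom ≫ y.hom.hom = _
    rw [hinv, eqToHom_trans_assoc]
  let a : bcFst g (η := η) v.left v.hom ⟶ ξ.obj.fst := ⟨eqToHom e, by
    show M'.obj.map (eqToHom e).op ξ.obj.fst.sec = M'.obj.map (baseOver π v.left v.hom).op η.sec
    exact ((map_map_eq (N := M') hb.symm η.sec).symm.trans (congrArg (M'.obj.map (eqToHom e).op) y.hom.map_sec)).symm⟩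
  let b : ξ.obj.fst ⟶ bcFst g (η := η) v.left v.hom := ⟨eqToHom e.symm, by
    show M'.obj.map (eqToHom e.symm).op (M'.obj.map (baseOver π v.left v.hom).op η.sec) = ξ.obj.fst.sec
    refine (map_map_eq (N := M') (m := y.hom.hom) ?_ η.sec).trans y.hom.map_sec
    rw [hb, eqToHom_trans_assoc, eqToHom_refl]
    exact Category.id_comp _⟩
  have w1 : ((AlgSt.ofSpMap g).map a).hom ≫ ξ.obj.iso.hom.hom =
      (bcPt g (η := η) v.left v.hom).obj.iso.hom.hom ≫ (π.map (𝟙 v.left)).hom := by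
    rw [hiso, π.toFunctor.map_id]
    show eqToHom e ≫ eqToHom _ = eqToHom (π.w_obj v.left).symm ≫ 𝟙 _
    rw [eqToHom_trans, Category.comp_id]
  have w2 : ((AlgSt.ofSpMap g).map b).hom ≫ (bcPt g (η := η) v.left v.hom).obj.iso.hom.hom =
      ξ.obj.iso.hom.hom ≫ (π.map (𝟙 v.left)).hom := by
    rw [hiso, π.toFunctor.map_id]
    show eqToHom e.symm ≫ eqToHom (π.w_obj v.left).symm = eqToHom _ ≫ 𝟙 _
    rw [eqToHom_trans, Category.comp_id]
  let i : bcPt g (η := η) v.left v.hom ≅ ξ :=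
    { hom := fpHom (x := bcPt g (η := η) v.left v.hom) (y := ξ) a (𝟙 v.left) (Stk.EltObj.hom_ext w1)
      inv := fpHom (x := ξ) (y := bcPt g (η := η) v.left v.hom) b (𝟙 v.left) (Stk.EltObj.hom_ext w2)
      hom_inv_id := FibLib.fp_hom_ext (Stk.EltObj.hom_ext (eqToHom_trans e e.symm)) (Category.id_comp _)
      inv_hom_id := FibLib.fp_hom_ext (Stk.EltObj.hom_ext (eqToHom_trans e.symm e)) (Category.id_comp _) }
  exact ⟨v, ⟨CostructuredArrow.isoMk i (Stk.EltObj.hom_ext hb.symm)⟩⟩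

variable {g π η}

/-- Lifting of sections on the fibre gives lifting of sections of the direct image of the base change. -/
theorem surjective_of_bcFib [IsFibGrpd (fp (AlgSt.ofSpMap g) π).p] {F G : QCoh (fp (AlgSt.ofSpMap g) π)} (u : F ⟶ G)
    (H : ∀ s : ∀ v, Γ(((comapQ (bcFib g π η)).obj ((comapQ (fibFst (fpFst (AlgSt.ofSpMap g) π) η)).obj G)).obj.obj v, ⊤),
      (∀ {v' v} (φ : v' ⟶ v), ((comapQ (bcFib g π η)).obj ((comapQ (fibFst (fpFst (AlgSt.ofSpMap g) π) η)).obj G)).obj.mapTop φ (s v) = s v') →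
      ∃ t : ∀ v, Γ(((comapQ (bcFib g π η)).obj ((comapQ (fibFst (fpFst (AlgSt.ofSpMap g) π) η)).obj F)).obj.obj v, ⊤),
        (∀ {v' v} (φ : v' ⟶ v), ((comapQ (bcFib g π η)).obj ((comapQ (fibFst (fpFst (AlgSt.ofSpMap g) π) η)).obj F)).obj.mapTop φ (t v) = t v') ∧
        ∀ v, (((comapQ (bcFib g π η)).map ((comapQ (fibFst (fpFst (AlgSt.ofSpMap g) π) η)).map u)).hom.app v).app ⊤ (t v) = s v) :
    Function.Surjective (Mod.relSectMap (fpFst (AlgSt.ofSpMap g) π) u.hom η) := by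
  intro s
  let P := fpFst (AlgSt.ofSpMap g) π
  let Ψ := bcFib g π η
  haveI := full_bcFib g π η
  haveI := essSurj_bcFib g π η
  have hmap : ∀ (N : Mod (fp (AlgSt.ofSpMap g) π)) {v' v : (fibCat π ((AlgSt.ofSpMap g).obj η)).obj} (φ : v' ⟶ v)
      (x : Γ(N.obj (Ψ.obj v).left, ⊤)),
      (Mod.comap Ψ (Mod.comap (fibFst P η) N)).mapTop φ x = N.mapTop (Ψ.map φ).left x := fun N {v' v} φ x =>
    (mapTop_comap_castSec Ψ (Mod.comap (fibFst P η) N) φ x).trans (mapTop_comapFst (π := P) η N (Ψ.map φ) x)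
  have hs' : ∀ {y' y : (fibCat P η).obj} (φ : y' ⟶ y), G.obj.mapTop φ.left (s.1 y.left y.hom) = s.1 y'.left y'.hom :=
    fun {y' y} φ => (s.2 φ.left y.hom).trans (congrArg (s.1 y'.left) (CostructuredArrow.w φ))
  obtain ⟨t, ht, hut⟩ := H (fun v => s.1 (Ψ.obj v).left (Ψ.obj v).hom) fun {v' v} φ =>
    (hmap G.obj φ _).trans (hs' (Ψ.map φ))
  let pre : (fibCat P η).obj → (fibCat π ((AlgSt.ofSpMap g).obj η)).obj := Ψ.toFunctor.objPreimage
  let i : ∀ y, Ψ.obj (pre y) ≅ y := Ψ.toFunctor.objObjPreimageIso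
  let t0 : ∀ y : (fibCat P η).obj, Γ(F.obj.obj y.left, ⊤) := fun y => F.obj.mapTop (i y).inv.left (t (pre y))
  have ht0 : ∀ {y' y : (fibCat P η).obj} (φ : y' ⟶ y), (Mod.comap (fibFst P η) F.obj).mapTop φ (t0 y) = t0 y' :=
    fun {y' y} φ => by
      obtain ⟨ψ, hψ⟩ := Ψ.toFunctor.map_surjective ((i y').hom ≫ φ ≫ (i y).inv)
      refine (mapTop_comapFst (π := P) η F.obj φ (t0 y)).trans ?_
      show F.obj.mapTop φ.left (F.obj.mapTop (i y).inv.left (t (pre y))) = F.obj.mapTop (i y').inv.left (t (pre y'))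
      refine (Mod.mapTop_comp F.obj φ.left (i y).inv.left (t (pre y))).symm.trans (Eq.trans ?_
        (congrArg (F.obj.mapTop (i y').inv.left) ((hmap F.obj ψ (t (pre y))).symm.trans (ht ψ))))
      refine Eq.trans ?_ (Mod.mapTop_comp F.obj (i y').inv.left (Ψ.map ψ).left (t (pre y)))
      refine congrArg (fun k => F.obj.mapTop k (t (pre y))) ?_
      have h3 : φ ≫ (i y).inv = (i y').inv ≫ Ψ.map ψ := by rw [hψ, Iso.inv_hom_id_assoc]
      exact congrArg CommaMorphism.left h3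
  refine ⟨ofFamily (π := P) (η := η) (F := F.obj) t0 ht0, Mod.RelSect.ext _ _ _ fun ξ α => ?_⟩
  let y : (fibCat P η).obj := CostructuredArrow.mk (S := P.toFunctor) (Y := ξ) α
  show (u.hom.app y.left).app ⊤ (F.obj.mapTop (i y).inv.left (t (pre y))) = s.1 y.left y.hom
  rw [← Mod.mapTop_app]
  rw [show (u.hom.app (Ψ.obj (pre y)).left).app ⊤ (t (pre y)) = s.1 (Ψ.obj (pre y)).left (Ψ.obj (pre y)).hom from hut (pre y)]
  exact hs' (i y).inv

omit [IsFibGrpd 𝒳.p] in
theorem toM_map (η' : (AlgSt.ofSp M').obj) : toM ((AlgSt.ofSpMap g).obj η') = toM η' ≫ g := by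
  refine (GrothendieckTopology.uliftYonedaEquiv.{u + 1} (AlgSp.J S)).injective ?_
  refine ((GrothendieckTopology.uliftYonedaEquiv.{u + 1} (AlgSp.J S)).apply_symm_apply _).trans ?_
  show ((AlgSt.ofSpMap g).obj η').sec = g.hom.app (op η'.base) ((GrothendieckTopology.uliftYonedaEquiv.{u + 1} (AlgSp.J S)) (toM η'))
  exact (congrArg (fun x => g.hom.app (op η'.base) x) ((GrothendieckTopology.uliftYonedaEquiv.{u + 1} (AlgSp.J S)).apply_symm_apply η'.sec)).symm

set_option maxHeartbeats 2400000 in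
/-- Cohomological affineness passes to a base change of the target. -/
theorem isCohAffine_fpFst (h𝒳 : AlgSt.IsAlgStack Scheme.fppfPrecoverage 𝒳) (hM : IsAlgSpace M) (hQ : QcProd M)
    (hqc : AlgSt.IsQuasiCompactMor Scheme.fppfPrecoverage π) (hqs : AlgSt.IsQuasiSeparatedMor π)
    [IsFibGrpd (fp (AlgSt.ofSpMap g) π).p] (h : StMod.IsCohAffine π) :
    StMod.IsCohAffine (fpFst (AlgSt.ofSpMap g) π) := by
  intro F G u hu E hE
  haveI hB : IsFibGrpd (AlgSt.ofSp M).p := Stk.isFibGrpd_ofPsh _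
  haveI hB' : IsFibGrpd (AlgSt.ofSp M').p := Stk.isFibGrpd_ofPsh _
  obtain ⟨U0, x, hx, hxs⟩ := h𝒳.atlas
  have hMem := flatSys_atlas x hx hxs
  let η : (AlgSt.ofSp M').obj := etaOf E
  haveI : IsAffine (sch (AlgSt.ofSp M') η) := hE
  haveI : IsAffine η.base.left := hE
  haveI : IsAffine (sch (AlgSt.ofSp M) ((AlgSt.ofSpMap g).obj η)) := hE
  obtain ⟨w0, r, pc, qc, hw0, hr, hW⟩ := exists_chartData hqc hqs ((AlgSt.ofSpMap g).obj η)
  haveI := full_bcFib g π η
  haveI := essSurj_bcFib g π η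
  haveI : IsFibGrpd (fibCat π ((AlgSt.ofSpMap g).obj η)).p := isFibGrpd_fibCat π _
  have hW' := chart_of_equiv (bcFib g π η) (fibred_fibCat (f := fpFst (AlgSt.ofSpMap g) π) η) hW
  haveI := isAffine_obj (bcFib g π η) _ hw0
  haveI := isAffine_obj (bcFib g π η) _ hr
  obtain ⟨U, b, hb, hbs⟩ := hM.atlas
  obtain ⟨W, p, q, sq⟩ := exists_isPullback_yon b (E.obj.hom ≫ g) hb.rep
  haveI : Etale q.left := hb.property _ _ _ sq
  haveI : Surjective q.left := hbs.property _ _ _ sq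
  let J := Σ' (N : U.left.affineOpens), {V : W.left.affineOpens // V.1 ≤ p.left ⁻¹ᵁ N.1}
  let η' : J → (AlgSt.ofSp M').obj := fun j => objLeft η (j.2.1.1.ι ≫ q.left)
  let m : ∀ j, η' j ⟶ η := fun j => objLeftHom η (j.2.1.1.ι ≫ q.left)
  have haff : ∀ j, IsAffine (sch (AlgSt.ofSp M') (η' j)) := fun j => j.2.1.2
  refine CohAffLib.surjective_relSectMap_of_family (π := fpFst (AlgSt.ofSpMap g) π) hW' η' haff m (fun j => ?_)
    (fun t => ?_) u fun j => ?_
  · show Flat (j.2.1.1.ι ≫ q.left)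
    infer_instance
  · obtain ⟨w, rfl⟩ := (Surjective.surj (f := q.left)) t
    obtain ⟨N, hN, hwN, -⟩ := exists_isAffineOpen_mem_and_subset (x := p.left w) (U := ⊤) trivial
    obtain ⟨V, hV, hwV, hVN⟩ := exists_isAffineOpen_mem_and_subset (x := w) (U := p.left ⁻¹ᵁ N) hwN
    exact ⟨⟨⟨N, hN⟩, ⟨V, hV⟩, hVN⟩, ⟨w, hwV⟩, rfl⟩
  · obtain ⟨N, V, hVN⟩ := j
    let NS : Over S := Over.mk (N.1.ι ≫ U.hom)
    let iN : NS ⟶ U := Over.homMk N.1.ι rfl
    have het : RepWith @Etale ((yon S).map iN ≫ b) :=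
      repWith_comp ((repWith_yon_map_iff (P := (@Etale : MorphismProperty Scheme.{u})) iN).2
        (inferInstance : Etale N.1.ι)) hb
    let EN : EtOver M := EtOver.mk ((yon S).map iN ≫ b) het
    let j : J := ⟨N, V, hVN⟩
    let η1 := η' j
    let iq : η1.base ⟶ η.base := (m j).hom
    let ρ : η1.base ⟶ NS := Over.homMk (p.left.resLE N.1 V.1 hVN) (by
      show p.left.resLE N.1 V.1 hVN ≫ N.1.ι ≫ U.hom = (V.1.ι ≫ q.left) ≫ η.base.hom
      rw [Scheme.Hom.resLE_comp_ι_assoc, Over.w p, Category.assoc]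
      exact congrArg (V.1.ι ≫ ·) (Over.w q).symm)
    let iV : η1.base ⟶ W := Over.homMk V.1.ι (by
      show V.1.ι ≫ W.hom = (V.1.ι ≫ q.left) ≫ η.base.hom
      rw [Category.assoc]
      exact congrArg (V.1.ι ≫ ·) (Over.w q).symm)
    have e1 : iV ≫ q = iq := Over.OverMorphism.ext rfl
    have e2 : ρ ≫ iN = iV ≫ p := Over.OverMorphism.ext (Scheme.Hom.resLE_comp_ι _ _)
    let l : (AlgSt.ofSpMap g).obj η1 ⟶ etaOf EN := ⟨ρ, by
      show M.obj.map ρ.op (etaOf EN).sec = ((AlgSt.ofSpMap g).obj η1).sec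
      have h0 : ((AlgSt.ofSpMap g).obj η1).sec = M.obj.map iq.op ((AlgSt.ofSpMap g).obj η).sec :=
        ((AlgSt.ofSpMap g).map (m j)).map_sec.symm
      refine (map_sec_eq (etaOf EN) ρ).trans (Eq.trans ?_
        (h0.trans (map_sec_eq ((AlgSt.ofSpMap g).obj η) iq)).symm)
      rw [toM_etaOf, toM_map, toM_etaOf]
      refine congrArg _ ?_
      show (yon S).map ρ ≫ (yon S).map iN ≫ b = (yon S).map iq ≫ E.obj.hom ≫ g
      rw [← Category.assoc, ← Functor.map_comp, e2, ← e1, Functor.map_comp, Functor.map_comp, Category.assoc,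
        Category.assoc, sq.w]⟩
    haveI : IsAffine ((AlgSt.ofSpMap g).obj η1).base.left := V.2
    let Q1 := comapQ (fibFst (fpFst (AlgSt.ofSpMap g) π) η1)
    let Q2 := comapQ (bcFib g π η1)
    have hu2 : Mod.IsSurj (Q2.map (Q1.map u)).hom :=
      CohAffLib.isSurj_comap (bcFib g π η1) (Q1.map u).hom
        (CohAffLib.isSurj_comap (fibFst (fpFst (AlgSt.ofSpMap g) π) η1) u.hom hu)
    refine surjective_of_bcFib (η := η1) u fun s hs' => ?_
    exact exists_lift_section (F := Q2.obj (Q1.obj F)) (G := Q2.obj (Q1.obj G)) h hMem hQ EN N.2 l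
      (isFinPres_O _) (Q2.map (Q1.map u)) hu2 s hs'

end StPushLib
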