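import Groth.Agent.CohAffLib.Desc
import Groth.Agent.TwDescLib.Scalar

/-!
# Families of morphisms on the fibres
-/

set_option autoImplicit false
set_option linter.style.haveILetI false
set_option backward.isDefEq.respectTransparency false
set_option backward.isDefEq.respectTransparency.types false
set_option maxHeartbeats 800000

universe u

open CategoryTheory CategoryTheory.Limits AlgebraicGeometry AlgSp FibCat FibLib AlgStLib Opposite StMod GenDescLib
open TwSh

noncomputable section

namespace StPushLib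

variable {X : Scheme.{u}}

theorem comp_scalarEnd_app {A B : X.Modules} (h : A ⟶ B) (r : Γ(X, ⊤)) (U : X.Opens) (s : Γ(A, U)) :
    (h ≫ scalarEnd B r).app U s = resTop X U r • h.app U s := rfl

theorem comp_scalarEnd_add {A B : X.Modules} (h : A ⟶ B) (a b : Γ(X, ⊤)) :
    h ≫ scalarEnd B (a + b) = h ≫ scalarEnd B a + h ≫ scalarEnd B b := by
  refine Scheme.Modules.hom_ext _ _ fun U => AddCommGrpCat.ext fun s => ?_
  show resTop X U (a + b) • h.app U s = resTop X U a • h.app U s + resTop X U b • h.app U s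
  rw [map_add, add_smul]

theorem comp_scalarEnd_mul {A B : X.Modules} (h : A ⟶ B) (a b : Γ(X, ⊤)) :
    h ≫ scalarEnd B (a * b) = (h ≫ scalarEnd B b) ≫ scalarEnd B a := by
  refine Scheme.Modules.hom_ext _ _ fun U => AddCommGrpCat.ext fun s => ?_
  show resTop X U (a * b) • h.app U s = resTop X U a • resTop X U b • h.app U s
  rw [map_mul, mul_smul]

theorem comp_scalarEnd_one {A B : X.Modules} (h : A ⟶ B) : h ≫ scalarEnd B 1 = h := by
  refine Scheme.Modules.hom_ext _ _ fun U => AddCommGrpCat.ext fun s => ?_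
  show resTop X U 1 • h.app U s = h.app U s
  rw [map_one, one_smul]

theorem comp_scalarEnd_zero {A B : X.Modules} (h : A ⟶ B) : h ≫ scalarEnd B 0 = 0 := by
  refine Scheme.Modules.hom_ext _ _ fun U => AddCommGrpCat.ext fun s => ?_
  show resTop X U 0 • h.app U s = 0
  rw [map_zero, zero_smul]

theorem resTop_comap {X' : Scheme.{u}} (g : X' ⟶ X) (U : X.Opens) (r : Γ(X, ⊤)) :
    resTop X' (g ⁻¹ᵁ U) (g.appTop r) = g.app U (resTop X U r) :=
  congr($((g.naturality (homOfLE (le_top : U ≤ ⊤)).op).symm) r)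

theorem scalarEnd_top (M : X.Modules) (r : Γ(X, ⊤)) (s : Γ(M, ⊤)) : (scalarEnd M r).app ⊤ s = r • s := by
  show resTop X ⊤ r • s = r • s
  rw [show resTop X ⊤ r = r from congr($(X.presheaf.map_id _) r)]

variable {S : Scheme.{u}} {V W : AlgSt.Cat S}

section pull

variable {E M : Mod V} (hE : E.IsCartesian) {y' y : V.obj} (k : y' ⟶ y)

theorem pull_add (h₁ h₂ : E.obj y ⟶ M.obj y) :
    pull E M hE k (h₁ + h₂) = pull E M hE k h₁ + pull E M hE k h₂ := by
  symm
  rw [eq_pull_iff, Functor.map_add, Preadditive.comp_add, pull_comm E M hE k h₁ rfl, pull_comm E M hE k h₂ rfl,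
    Preadditive.add_comp]

theorem pull_neg (h : E.obj y ⟶ M.obj y) : pull E M hE k (-h) = -pull E M hE k h := by
  rw [eq_neg_iff_add_eq_zero, ← pull_add, neg_add_cancel, pull_zero]

theorem pull_scalar (h : E.obj y ⟶ M.obj y) (r : Γ(sch V y, ⊤)) :
    pull E M hE k (h ≫ scalarEnd (M.obj y) r) =
      pull E M hE k h ≫ scalarEnd (M.obj y') ((bmap V k).appTop r) := by
  symm
  rw [eq_pull_iff, Functor.map_comp, ← Category.assoc, pull_comm E M hE k h rfl, Category.assoc, Category.assoc]
  congr 1
  refine Scheme.Modules.hom_ext _ _ fun U => AddCommGrpCat.ext fun s => ?_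
  show resTop _ (bmap V k ⁻¹ᵁ U) ((bmap V k).appTop r) •
      (show Γ(M.obj y', bmap V k ⁻¹ᵁ U) from (M.map k rfl).app U s) = (M.map k rfl).app U (resTop _ U r • s)
  rw [QCohLib.app_smul, resTop_comap]
  rfl

end pull

variable (π : V ⥤ᵇ W) (E : Mod V) (hE : E.IsCartesian) (M : Mod V) (z : W.obj)

/-- The compatible families of morphisms over an object. -/
def homFam : AddSubgroup (∀ v : V.obj, (π.obj v ⟶ z) → (E.obj v ⟶ M.obj v)) where
  carrier := {t | ∀ ⦃v' v : V.obj⦄ (φ : v' ⟶ v) (a : π.obj v ⟶ z), pull E M hE φ (t v a) = t v' (π.map φ ≫ a)}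
  zero_mem' := fun v' v φ a => pull_zero E M hE φ
  add_mem' := fun {s t} hs ht v' v φ a => by
    simp only [Pi.add_apply]
    rw [pull_add, hs φ a, ht φ a]
  neg_mem' := fun {t} ht v' v φ a => by
    simp only [Pi.neg_apply]
    rw [pull_neg, ht φ a]

/-- The type of compatible families. -/
def HomFam : Type (u + 1) := ↥(homFam π E hE M z)

instance : AddCommGroup (HomFam π E hE M z) := inferInstanceAs (AddCommGroup ↥(homFam π E hE M z))

variable {π E hE M z}

@[ext] theorem HomFam.ext {s t : HomFam π E hE M z} (h : ∀ v a, s.1 v a = t.1 v a) : s = t :=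
  Subtype.ext (funext fun v => funext fun a => h v a)

theorem HomFam.compat (t : HomFam π E hE M z) {v' v : V.obj} (φ : v' ⟶ v) (a : π.obj v ⟶ z) :
    pull E M hE φ (t.1 v a) = t.1 v' (π.map φ ≫ a) := t.2 φ a

@[simp] theorem HomFam.add_val (s t : HomFam π E hE M z) (v : V.obj) (a : π.obj v ⟶ z) :
    (s + t).1 v a = s.1 v a + t.1 v a := rfl

@[simp] theorem HomFam.zero_val (v : V.obj) (a : π.obj v ⟶ z) : (0 : HomFam π E hE M z).1 v a = 0 := rfl

instance : SMul Γ(sch W z, ⊤) (HomFam π E hE M z) where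
  smul r t := ⟨fun v a => t.1 v a ≫ scalarEnd (M.obj v) ((baseOver π v a).left.appTop r), fun v' v φ a => by
    show pull E M hE φ _ = t.1 v' _ ≫ scalarEnd (M.obj v') ((baseOver π v' (π.map φ ≫ a)).left.appTop r)
    rw [pull_scalar, t.compat φ a, ← bmap_comp_baseOver_left π φ a, Scheme.Hom.comp_appTop]
    rfl⟩

@[simp] theorem HomFam.smul_val (r : Γ(sch W z, ⊤)) (t : HomFam π E hE M z) (v : V.obj) (a : π.obj v ⟶ z) :
    (r • t).1 v a = t.1 v a ≫ scalarEnd (M.obj v) ((baseOver π v a).left.appTop r) := rfl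

instance : Module Γ(sch W z, ⊤) (HomFam π E hE M z) where
  one_smul t := HomFam.ext fun v a => by rw [HomFam.smul_val, map_one, comp_scalarEnd_one]
  mul_smul r s t := HomFam.ext fun v a => by
    rw [HomFam.smul_val, HomFam.smul_val, HomFam.smul_val, map_mul, comp_scalarEnd_mul]
  smul_zero r := HomFam.ext fun v a => by rw [HomFam.smul_val, HomFam.zero_val, zero_comp]
  smul_add r s t := HomFam.ext fun v a => by
    rw [HomFam.add_val, HomFam.smul_val, HomFam.smul_val, HomFam.smul_val, HomFam.add_val, Preadditive.add_comp]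
  add_smul r s t := HomFam.ext fun v a => by
    rw [HomFam.add_val, HomFam.smul_val, HomFam.smul_val, HomFam.smul_val, map_add, comp_scalarEnd_add]
  zero_smul t := HomFam.ext fun v a => by rw [HomFam.smul_val, HomFam.zero_val, map_zero, comp_scalarEnd_zero]

variable {z' : W.obj} (l : z' ⟶ z)

/-- Restriction of families. -/
def resFam (t : HomFam π E hE M z) : HomFam π E hE M z' :=
  ⟨fun v a => t.1 v (a ≫ l), fun v' v φ a =>
    (t.compat φ (a ≫ l)).trans (congrArg (t.1 v') (Category.assoc _ _ _).symm)⟩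

@[simp] theorem resFam_val (t : HomFam π E hE M z) (v : V.obj) (a : π.obj v ⟶ z') :
    (resFam l t).1 v a = t.1 v (a ≫ l) := rfl

theorem resFam_add (s t : HomFam π E hE M z) : resFam l (s + t) = resFam l s + resFam l t := rfl

theorem resFam_smul (r : Γ(sch W z, ⊤)) (t : HomFam π E hE M z) :
    resFam l (r • t) = ((bmap W l).appTop r) • resFam l t := HomFam.ext fun v a => by
  rw [resFam_val, HomFam.smul_val, HomFam.smul_val, resFam_val, baseOver_comp, Over.comp_left,
    Scheme.Hom.comp_appTop]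
  rfl

theorem resFam_id (t : HomFam π E hE M z) : resFam (𝟙 z) t = t :=
  HomFam.ext fun v a => congrArg (t.1 v) (Category.comp_id a)

theorem resFam_comp {z'' : W.obj} (l' : z'' ⟶ z') (t : HomFam π E hE M z) :
    resFam (l' ≫ l) t = resFam l' (resFam l t) := HomFam.ext fun v a => congrArg (t.1 v) (Category.assoc a l' l).symm

variable {N : Mod V}

/-- The image of a family under a morphism. -/
def mapFam (u : M ⟶ N) (t : HomFam π E hE M z) : HomFam π E hE N z :=
  ⟨fun v a => t.1 v a ≫ u.app v, fun v' v φ a => by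
    symm
    rw [eq_pull_iff, Functor.map_comp, ← t.compat φ a, ← Category.assoc, pull_comm E M hE φ _ rfl, Category.assoc,
      Category.assoc, u.comm]⟩

@[simp] theorem mapFam_val (u : M ⟶ N) (t : HomFam π E hE M z) (v : V.obj) (a : π.obj v ⟶ z) :
    (mapFam u t).1 v a = t.1 v a ≫ u.app v := rfl

theorem mapFam_add (u : M ⟶ N) (s t : HomFam π E hE M z) : mapFam u (s + t) = mapFam u s + mapFam u t :=
  HomFam.ext fun v a => Preadditive.add_comp _ _ _ _ _ _

theorem mapFam_smul (u : M ⟶ N) (r : Γ(sch W z, ⊤)) (t : HomFam π E hE M z) :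
    mapFam u (r • t) = r • mapFam u t := HomFam.ext fun v a => by
  rw [mapFam_val, HomFam.smul_val, HomFam.smul_val, mapFam_val, Category.assoc, Category.assoc]
  congr 1
  refine Scheme.Modules.hom_ext _ _ fun U => AddCommGrpCat.ext fun s => ?_
  exact QCohLib.app_smul (u.app v) U _ s

theorem resFam_mapFam (u : M ⟶ N) (t : HomFam π E hE M z) : resFam l (mapFam u t) = mapFam u (resFam l t) := rfl

theorem comap_fibFst_comp {𝒳 𝒴 : AlgSt.Cat S} (f : 𝒳 ⥤ᵇ 𝒴) (η : 𝒴.obj) (F : Mod 𝒳) {x' x : (fibCat f η).obj}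
    (φ : x' ⟶ x) : (Mod.comap (fibFst f η) F).map φ rfl = F.map φ.left rfl := by
  rw [Mod.comap_map]
  exact castMap_rfl_self _ _

variable (hE) in
theorem pull_fibFst {x' x : (fibCat π z).obj} (φ : x' ⟶ x) (h : E.obj x.left ⟶ M.obj x.left) :
    pull (Mod.comap (fibFst π z) E) (Mod.comap (fibFst π z) M) (isCartesian_comap hE) φ h =
      pull E M hE φ.left h := by
  symm
  refine (eq_pull_iff (Mod.comap (fibFst π z) E) (Mod.comap (fibFst π z) M) (isCartesian_comap hE) φ h _).2 ?_
  rw [comap_fibFst_comp, comap_fibFst_comp]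
  exact pull_comm E M hE φ.left h rfl

/-- A family as a morphism over the fibre. -/
def homOfFam (t : HomFam π E hE M z) : Mod.comap (fibFst π z) E ⟶ Mod.comap (fibFst π z) M :=
  ⟨fun x => t.1 x.left x.hom, fun {x' x} φ g hg => by
    subst hg
    rw [comap_fibFst_comp, comap_fibFst_comp]
    refine (eq_pull_iff E M hE φ.left _ _).1 ?_
    rw [t.compat φ.left x.hom]
    exact congrArg (t.1 x'.left) (CostructuredArrow.w φ).symm⟩

@[simp] theorem homOfFam_app (t : HomFam π E hE M z) (x : (fibCat π z).obj) :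
    (homOfFam t).app x = t.1 x.left x.hom := rfl

variable (hE) in
/-- A morphism over the fibre as a family. -/
def famOfHom (h : Mod.comap (fibFst π z) E ⟶ Mod.comap (fibFst π z) M) : HomFam π E hE M z :=
  ⟨fun v a => h.app (CostructuredArrow.mk (S := π.toFunctor) (Y := v) a), fun v' v φ a => by
    let φ' : (CostructuredArrow.mk (S := π.toFunctor) (Y := v') (π.map φ ≫ a)) ⟶
        (CostructuredArrow.mk (S := π.toFunctor) (Y := v) a) := CostructuredArrow.homMk φ rfl
    refine ((eq_pull_iff E M hE φ _ _).2 ?_).symm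
    have h1 := h.comm φ' rfl
    rw [comap_fibFst_comp, comap_fibFst_comp] at h1
    exact h1⟩

theorem homOfFam_famOfHom (h : Mod.comap (fibFst π z) E ⟶ Mod.comap (fibFst π z) M) :
    homOfFam (famOfHom hE h) = h := Mod.hom_ext fun _ => rfl

/-- Families are determined on a chart. -/
theorem HomFam.ext_chart (hM : M.IsCartesian) {w0 r : (fibCat π z).obj} {p q : r ⟶ w0}
    (hW : Chart (fibCat π z) w0 r p q) {s t : HomFam π E hE M z} (h : s.1 w0.left w0.hom = t.1 w0.left w0.hom) :
    s = t := by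
  rw [← sub_eq_zero]
  have h0 : homOfFam (s - t) = 0 := hW.eq_zero (isCartesian_comap hE) (isCartesian_comap hM) _ (by
    show (s - t).1 w0.left w0.hom = 0
    exact sub_eq_zero.2 h)
  exact HomFam.ext fun v a => congr(($h0).app (CostructuredArrow.mk (S := π.toFunctor) (Y := v) a))

theorem small_homFam (hM : M.IsCartesian) {w0 r : (fibCat π z).obj} {p q : r ⟶ w0}
    (hW : Chart (fibCat π z) w0 r p q) : Small.{u} (HomFam π E hE M z) :=
  small_of_injective (f := fun t : HomFam π E hE M z => t.1 w0.left w0.hom)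
    fun _ _ h => HomFam.ext_chart hM hW h

end StPushLib
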