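import Groth.Agent.StPushLib.Transport
import Groth.Prelude.Def_StMod2

/-!
# Functors to the category of a sheaf
-/

set_option autoImplicit false
set_option linter.style.haveILetI false
set_option backward.isDefEq.respectTransparency false
set_option backward.isDefEq.respectTransparency.types false
set_option maxHeartbeats 800000

universe u

open CategoryTheory CategoryTheory.Limits AlgebraicGeometry AlgSp FibCat FibLib IsoNatLib IsoNatSepLib Opposite StMod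

noncomputable section

namespace StPushLib

variable {S : Scheme.{u}} {M : AlgSp.Sp S}

theorem hom_ext_left {a b : (AlgSt.ofSp M).obj} {f g : a ⟶ b} (h : f.hom.left = g.hom.left) : f = g :=
  Stk.EltObj.hom_ext (Over.OverMorphism.ext h)

/-- The object over a scheme mapping to an object. -/
def objLeft (H : (AlgSt.ofSp M).obj) {Y : Scheme.{u}} (g : Y ⟶ H.base.left) : (AlgSt.ofSp M).obj :=
  ⟨Over.mk (g ≫ H.base.hom), M.obj.map (Over.homMk (U := Over.mk (g ≫ H.base.hom)) (V := H.base) g rfl).op H.sec⟩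

/-- Its morphism to the object. -/
def objLeftHom (H : (AlgSt.ofSp M).obj) {Y : Scheme.{u}} (g : Y ⟶ H.base.left) : objLeft H g ⟶ H :=
  ⟨Over.homMk g rfl, rfl⟩

theorem exists_homLeft {y Y H : (AlgSt.ofSp M).obj} (γ : Y ⟶ H) (k : y ⟶ H) (f : y.base.left ⟶ Y.base.left)
    (h : f ≫ γ.hom.left = k.hom.left) : ∃ ρ : y ⟶ Y, ρ ≫ γ = k ∧ ρ.hom.left = f := by
  have hw : f ≫ Y.base.hom = y.base.hom := by rw [← Over.w γ.hom, reassoc_of% h, Over.w k.hom]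
  let F : y.base ⟶ Y.base := Over.homMk f hw
  have hF : F ≫ γ.hom = k.hom := Over.OverMorphism.ext h
  refine ⟨⟨F, ?_⟩, Stk.EltObj.hom_ext hF, rfl⟩
  show M.obj.map F.op Y.sec = y.sec
  rw [← γ.map_sec, ← Functor.map_comp_apply, ← op_comp, hF, k.map_sec]

variable {𝒳 : AlgSt.Cat S} (π : 𝒳 ⥤ᵇ AlgSt.ofSp M)

theorem map_hom {x' x : 𝒳.obj} (φ : x' ⟶ x) :
    (π.map φ).hom = eqToHom (π.w_obj x') ≫ 𝒳.p.map φ ≫ eqToHom (π.w_obj x).symm := by
  haveI : (AlgSt.ofSp M).p.IsHomLift (𝒳.p.map φ) (π.map φ) :=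
    haveI := IsHomLift.map 𝒳.p φ
    π.preserves_isHomLift _ φ
  rw [show (π.map φ).hom = _ from IsHomLift.fac' (AlgSt.ofSp M).p (𝒳.p.map φ) (π.map φ)]

variable [IsFibGrpd 𝒳.p]

theorem exists_fac_sp {x' x z : 𝒳.obj} (c : x ⟶ z) (c' : x' ⟶ z) (ρ : π.obj x' ⟶ π.obj x)
    (h : ρ ≫ π.map c = π.map c') : ∃ φ : x' ⟶ x, φ ≫ c = c' ∧ π.map φ = ρ := by
  let g : 𝒳.p.obj x' ⟶ 𝒳.p.obj x := eqToHom (π.w_obj x').symm ≫ ρ.hom ≫ eqToHom (π.w_obj x)
  have hg : g ≫ 𝒳.p.map c = 𝒳.p.map c' := by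
    have h1 : ρ.hom ≫ (π.map c).hom = (π.map c').hom := congrArg Stk.EltObj.Hom.hom h
    rw [map_hom, map_hom] at h1
    refine (cancel_epi (eqToHom (π.w_obj x'))).1 ((cancel_mono (eqToHom (π.w_obj z).symm)).1 ?_)
    simp only [Category.assoc]
    refine Eq.trans ?_ h1
    simp [g]
  obtain ⟨φ, hφ, eφ⟩ := exists_fac (𝒳 := 𝒳) (g := g) c (IsHomLift.map 𝒳.p c) c'
    (lift_congr hg.symm (IsHomLift.map 𝒳.p c'))
  refine ⟨φ, eφ, Stk.EltObj.hom_ext ?_⟩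
  haveI := hφ
  rw [map_hom, IsHomLift.fac' 𝒳.p g φ]
  simp [g]

theorem ext_sp {x' x z : 𝒳.obj} {φ ψ : x' ⟶ x} (c : x ⟶ z) (h : φ ≫ c = ψ ≫ c) (h' : π.map φ = π.map ψ) :
    φ = ψ := by
  refine TwDescLib.hom_ext_base (g := c) ?_ h
  have h1 := congrArg (bmap (AlgSt.ofSp M)) h'
  rw [bmap_map_eq, bmap_map_eq] at h1
  exact (cancel_mono _).1 ((cancel_epi _).1 h1)

theorem exists_obj_sp (x : 𝒳.obj) {y : (AlgSt.ofSp M).obj} (θ : y ⟶ π.obj x) :
    ∃ (x' : 𝒳.obj) (c : x' ⟶ x) (j : π.obj x' ≅ y), π.map c = j.hom ≫ θ := by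
  obtain ⟨x', c, hc⟩ := FibLib.exists_lift 𝒳.p (a := x) rfl (θ.hom ≫ eqToHom (π.w_obj x))
  haveI := hc
  have e : (π.obj x').base = y.base := (π.w_obj x').trans (IsHomLift.domain_eq 𝒳.p (θ.hom ≫ eqToHom (π.w_obj x)) c)
  have hh : (π.map c).hom = eqToHom e ≫ θ.hom := by
    rw [map_hom, IsHomLift.fac' 𝒳.p (θ.hom ≫ eqToHom (π.w_obj x)) c]
    simp
  have hs : M.obj.map (eqToHom e).op y.sec = (π.obj x').sec := by
    rw [← θ.map_sec, ← Functor.map_comp_apply, ← op_comp, ← hh, (π.map c).map_sec]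
  refine ⟨x', c, ⟨⟨eqToHom e, hs⟩, ⟨eqToHom e.symm, ?_⟩, ?_, ?_⟩, Stk.EltObj.hom_ext hh⟩
  · show M.obj.map (eqToHom e.symm).op (π.obj x').sec = y.sec
    rw [← hs, ← Functor.map_comp_apply, ← op_comp, eqToHom_trans, eqToHom_refl, op_id]
    simp
  · exact Stk.EltObj.hom_ext (eqToHom_trans e e.symm)
  · exact Stk.EltObj.hom_ext (eqToHom_trans e.symm e)

omit [IsFibGrpd 𝒳.p] in
theorem prop_hom_left {P : MorphismProperty Scheme.{u}} [P.RespectsIso] {x' x : 𝒳.obj} (φ : x' ⟶ x) :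
    P (π.map φ).hom.left ↔ P (bmap 𝒳 φ) := prop_map π φ

omit [IsFibGrpd 𝒳.p] in
theorem isAffine_base (x : 𝒳.obj) [IsAffine (sch 𝒳 x)] : IsAffine (π.obj x).base.left := by
  have h := sch_obj_eq π x
  show IsAffine (sch (AlgSt.ofSp M) (π.obj x))
  rw [h]; infer_instance

omit [IsFibGrpd 𝒳.p] in
theorem isAffine_of_iso {x : 𝒳.obj} {y : (AlgSt.ofSp M).obj} (j : π.obj x ≅ y) [IsAffine y.base.left] :
    IsAffine (sch 𝒳 x) := by
  rw [← sch_obj_eq π x]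
  haveI : IsAffine (sch (AlgSt.ofSp M) y) := ‹IsAffine y.base.left›
  haveI : IsIso (bmap (AlgSt.ofSp M) j.hom) := isIso_bmap j.hom
  exact IsAffine.of_isIso (bmap (AlgSt.ofSp M) j.hom)

end StPushLib
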