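import Groth.Agent.GenDescLib.Kill
import Groth.Agent.TwDescLib.Arr

/-!
# Arrows between quasi-coherent modules on affine schemes
-/

set_option autoImplicit false
set_option linter.style.haveILetI false
set_option backward.isDefEq.respectTransparency false
set_option backward.isDefEq.respectTransparency.types false
set_option maxHeartbeats 800000

universe u

open CategoryTheory CategoryTheory.Limits AlgebraicGeometry Opposite TopologicalSpace TensorProduct
open KFlatLib (pb puSec puSecLE)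
open TwDescLib

noncomputable section

namespace StPushLib

/-- A module over the functions of an affine scheme as a quasi-coherent module. -/
theorem exists_qcoh_of_module (X : Scheme.{u}) [IsAffine X] (N : Type u) [AddCommGroup N] [Module Γ(X, ⊤) N] :
    ∃ Q : X.Modules, Coh.IsQCoh Q ∧ ∃ ι : N ≃+ Γ(Q, ⊤), ∀ (a : Γ(X, ⊤)) (t : N), ι (a • t) = a • ι t := by
  let T := tilde (ModuleCat.of Γ(X, ⊤) N)
  haveI : Coh.IsQCoh T := inferInstanceAs (tilde (ModuleCat.of Γ(X, ⊤) N)).IsQuasicoherent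
  let Q := (Scheme.Modules.pushforward X.isoSpec.inv).obj T
  refine ⟨Q, QCohLib.isQCoh_pushforward _ _, ?_⟩
  let i := (tilde.isoTop (ModuleCat.of Γ(X, ⊤) N)).toLinearEquiv
  refine ⟨i.toAddEquiv, fun a t => ?_⟩
  show i (a • t) = X.isoSpec.inv.appTop a • (show Γ(T, ⊤) from i t)
  rw [map_smul]
  have h : X.isoSpec.inv.appTop a = (Scheme.ΓSpecIso Γ(X, ⊤)).inv a := by
    have h1 : X.isoSpec.inv.appTop = (Scheme.ΓSpecIso Γ(X, ⊤)).inv := by
      rw [← cancel_mono (Scheme.ΓSpecIso Γ(X, ⊤)).hom, Iso.inv_hom_id, ← Scheme.toSpecΓ_appTop]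
      exact (Scheme.Hom.comp_appTop _ _).symm.trans (by
        show (X.isoSpec.hom ≫ X.isoSpec.inv).appTop = _
        rw [Iso.hom_inv_id, Scheme.Hom.id_appTop])
    exact congr($h1 a)
  rw [h]
  rfl

variable {A B : MObj.{u}} [IsAffine B.X] [Coh.IsQCoh B.M]

/-- Such arrows are determined by global sections. -/
theorem arr_ext {g : A.X ⟶ B.X} {m m' : B.M ⟶ (Scheme.Modules.pushforward g).obj A.M}
    (h : ∀ t, m.app ⊤ t = m'.app ⊤ t) : (⟨g, m⟩ : A ⟶ B) = ⟨g, m'⟩ := by
  obtain ⟨m₀, -, hu⟩ := OmegaAffLib.exists_hom_of_top B.M ((Scheme.Modules.pushforward g).obj A.M) (m.app ⊤).hom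
    fun a t => QCohLib.app_smul m ⊤ a t
  rw [hu m fun t => rfl, hu m' fun t => (h t).symm]

/-- An arrow with base change on global sections is cartesian. -/
theorem cart_of_bijective [IsAffine A.X] [Coh.IsQCoh A.M] (c : A ⟶ B)
    [Algebra Γ(B.X, ⊤) Γ(A.X, ⊤)] (halg : algebraMap Γ(B.X, ⊤) Γ(A.X, ⊤) = c.g.appTop.hom)
    [Module Γ(B.X, ⊤) Γ(A.M, ⊤)] [IsScalarTower Γ(B.X, ⊤) Γ(A.X, ⊤) Γ(A.M, ⊤)]
    (ψ : Γ(B.M, ⊤) →ₗ[Γ(B.X, ⊤)] Γ(A.M, ⊤)) (hψ : ∀ t, ψ t = c.m.app ⊤ t)
    (hb : Function.Bijective (ψ.liftBaseChange Γ(A.X, ⊤))) : Cart c := by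
  let g := c.g
  let Gk := Γ(pb g B.M, ⊤)
  haveI : Coh.IsQCoh (pb g B.M) := KFlatLib.isQCoh_pullback g B.M
  letI : Module Γ(B.X, ⊤) Gk := Module.compHom _ g.appTop.hom
  haveI : IsScalarTower Γ(B.X, ⊤) Γ(A.X, ⊤) Gk := IsScalarTower.of_algebraMap_smul fun a m => by
    rw [halg]; rfl
  have hle : ∀ r : Γ(B.X, ⊤), (g.appLE ⊤ ⊤ le_rfl).hom r = g.appTop r := fun r =>
    congr($(A.X.presheaf.map_id _) (g.appTop r))
  let ψ0 : Γ(B.M, ⊤) →ₗ[Γ(B.X, ⊤)] Gk :=
    { toFun := puSecLE g B.M (U := ⊤) (U' := ⊤) le_rfl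
      map_add' := map_add _
      map_smul' := fun c' m => (KFlatLib.puSecLE_smul g B.M le_rfl c' m).trans (congrArg (· • _) (hle c')) }
  have h0 : IsBaseChange Γ(A.X, ⊤) ψ0 := KFlatLib.isBaseChange_puSec g B.M (isAffineOpen_top _)
    (isAffineOpen_top _) le_rfl (fun r => (RingHom.congr_fun halg r).trans (hle r).symm) ψ0 fun _ => rfl
  let L : Gk →ₗ[Γ(A.X, ⊤)] Γ(A.M, ⊤) :=
    { toFun := fun s => (adj c).app ⊤ s
      map_add' := map_add _
      map_smul' := fun c' s => QCohLib.app_smul (adj c) ⊤ c' s }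
  have hval : ∀ m, L (ψ0 m) = ψ m := fun m => by
    rw [hψ]
    show (adj c).app ⊤ ((pb g B.M).presheaf.map _ (puSec g m)) = _
    refine (congrArg ((adj c).app ⊤) (congr($((pb g B.M).presheaf.map_id _) _))).trans ?_
    exact GenDescLib.counit_puSec g c.m (U := ⊤) m
  have hcomp : ∀ x, L (h0.equiv x) = ψ.liftBaseChange Γ(A.X, ⊤) x := fun x => by
    induction x using TensorProduct.induction_on with
    | zero => simp
    | tmul a t => rw [IsBaseChange.equiv_tmul, LinearMap.liftBaseChange_tmul, map_smul, hval]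
    | add a b ha hb => rw [map_add, map_add, map_add, ha, hb]
  have hbij : Function.Bijective ((adj c).app ⊤) := by
    have : Function.Bijective L := by
      refine (Function.Bijective.of_comp_iff (L : Gk → Γ(A.M, ⊤)) h0.equiv.bijective).1 ?_
      rw [show (L : Gk → Γ(A.M, ⊤)) ∘ h0.equiv = ψ.liftBaseChange Γ(A.X, ⊤) from funext hcomp]
      exact hb
    exact this
  haveI : IsIso ((adj c).app ⊤) := (ConcreteCategory.isIso_iff_bijective _).2 hbij
  obtain ⟨v, hv, -⟩ := OmegaAffLib.exists_hom_of_top A.M (pb g B.M) (inv ((adj c).app ⊤)).hom fun a t => by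
    apply hbij.1
    rw [QCohLib.app_smul]
    erw [← ConcreteCategory.comp_apply, IsIso.inv_hom_id, ← ConcreteCategory.comp_apply, IsIso.inv_hom_id]
    rfl
  refine ⟨v, ?_, ?_⟩
  · refine GenDescLib.hom_ext_span (fun s => s) (by rw [Set.range_id']; exact Submodule.span_univ) fun s => ?_
    show v.app ⊤ ((adj c).app ⊤ s) = s
    rw [hv]
    exact congr($(IsIso.hom_inv_id ((adj c).app ⊤)) s)
  · refine GenDescLib.hom_ext_span (fun s => s) (by rw [Set.range_id']; exact Submodule.span_univ) fun s => ?_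
    show (adj c).app ⊤ (v.app ⊤ s) = s
    rw [hv]
    exact congr($(IsIso.inv_hom_id ((adj c).app ⊤)) s)

end StPushLib
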