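import Groth.Agent.StPushLib.RelAtlas

/-!
# Systems of affine objects with flat charts of their pairs
-/

set_option autoImplicit false
set_option linter.all false
set_option backward.isDefEq.respectTransparency false
set_option backward.isDefEq.respectTransparency.types false
set_option maxHeartbeats 800000

noncomputable section

universe u v w

open CategoryTheory CategoryTheory.Limits AlgebraicGeometry StMod TwDescLib

namespace StPushLib

variable {S : Scheme.{u}} {W : BasedCategory.{v, w} (Over S)}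

/-- Affine objects through which all factor locally, with flat charts of their pairs. -/
structure FlatSys (Mem : W.obj → Prop) : Prop where
  aff : ∀ z, Mem z → IsAffine (sch W z)
  down : ∀ (y z : W.obj) (c : y ⟶ z), Mem z → Flat (bmap W c) → IsAffine (sch W y) → Mem y
  loc : ∀ y : W.obj, ∃ (K : Type u) (y' : K → W.obj) (c : ∀ k, y' k ⟶ y) (z : K → W.obj) (_ : ∀ k, y' k ⟶ z k),
    (∀ k, Mem (z k)) ∧ IsFppf (fun k => bmap W (c k))
  rel : ∀ z₁ z₂, Mem z₁ → Mem z₂ → ∃ (R : W.obj) (p : R ⟶ z₁) (q : R ⟶ z₂),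
    RelAtlas p q ∧ Flat (bmap W p) ∧ Flat (bmap W q)

/-- The members. -/
def memObj {Mem : W.obj → Prop} (z : {z : W.obj // Mem z}) : W.obj := z.1

variable [FibCat.IsFibGrpd W.p]

/-- Affine opens of the source cut by the preimages of affine opens of the target. -/
theorem exists_cut {y R : W.obj} (e : y ⟶ R) :
    ∃ (K : Type u) (w : K → W.obj) (j : ∀ k, w k ⟶ y) (I : K → (sch W R).affineOpens),
      (∀ k, IsAffine (sch W (w k))) ∧ (∀ k, IsOpenImmersion (bmap W (j k))) ∧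
      (∀ t : sch W y, ∃ k, t ∈ Set.range (bmap W (j k))) ∧
      ∀ k, ∃ b : sch W (w k) ⟶ (I k).1, b ≫ (I k).1.ι = bmap W (j k ≫ e) := by
  let T := sch W y
  let K := Σ' (i : (sch W R).affineOpens), {U : T.affineOpens // U.1 ≤ bmap W e ⁻¹ᵁ i.1}
  choose w j ε hε using fun k : K => exists_obj_over y k.2.1.1.ι
  refine ⟨K, w, j, fun k => k.1, fun k => ?_, fun k => ?_, fun t => ?_, fun k => ?_⟩
  · haveI : IsAffine k.2.1.1.toScheme := k.2.1.2
    exact IsAffine.of_isIso (ε k).hom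
  · rw [← hε]; infer_instance
  · obtain ⟨U, hU, htU, -⟩ := exists_isAffineOpen_mem_and_subset (x := bmap W e t) (U := ⊤) trivial
    obtain ⟨V, hV, htV, hVU⟩ := exists_isAffineOpen_mem_and_subset (x := t) (U := bmap W e ⁻¹ᵁ U) htU
    refine ⟨⟨⟨U, hU⟩, ⟨V, hV⟩, hVU⟩, (ε _).inv ⟨t, htV⟩, ?_⟩
    rw [← hε, Scheme.Hom.comp_apply, ← Scheme.Hom.comp_apply (ε _).inv, Iso.inv_hom_id]
    rfl
  · refine ⟨(ε k).hom ≫ (bmap W e).resLE k.1.1 k.2.1.1 k.2.2, ?_⟩
    rw [Category.assoc, Scheme.Hom.resLE_comp_ι, ← Category.assoc, hε, bmap_comp]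

variable {Mem : W.obj → Prop} (h : FlatSys Mem)

include h in
/-- A member covered by pieces mapping to the affine opens of a chart. -/
theorem FlatSys.exists_pieces {y z R : W.obj} (hz : Mem z) (c : y ⟶ z) (hc : Etale (bmap W c))
    (hs : Surjective (bmap W c)) (e : y ⟶ R) :
    ∃ (K : Type u) (w : K → W.obj) (j : ∀ k, w k ⟶ y) (I : K → (sch W R).affineOpens),
      (∀ k, Mem (w k)) ∧ IsFppf (fun k => bmap W (j k ≫ c)) ∧
      ∀ k, ∃ b : sch W (w k) ⟶ (I k).1, b ≫ (I k).1.ι = bmap W (j k ≫ e) := by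
  obtain ⟨K, w, j, I, ha, hj, hcov, hb⟩ := exists_cut e
  haveI := hc; haveI := hj
  have hfl : ∀ k, Flat (bmap W (j k ≫ c)) := fun k => by rw [bmap_comp]; infer_instance
  refine ⟨K, w, j, I, fun k => h.down _ z (j k ≫ c) hz (hfl k) (ha k), ⟨fun t => ?_, hfl, fun k => ?_⟩, hb⟩
  · obtain ⟨s, rfl⟩ := hs.surj t
    obtain ⟨k, v, rfl⟩ := hcov s
    exact ⟨k, v, by rw [bmap_comp]; rfl⟩
  · rw [bmap_comp]; infer_instance

include h in
theorem FlatSys.relSys : RelSys (memObj (Mem := Mem)) where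
  loc y := by
    obtain ⟨K, y', c, z, a, hz, hc⟩ := h.loc y
    exact ⟨K, y', c, fun k => ⟨z k, hz k⟩, a, hc⟩
  rel := by
    rintro ⟨z1, hz1⟩ ⟨z2, hz2⟩
    obtain ⟨R, p, q, hR, hp, hq⟩ := h.rel z1 z2 hz1 hz2
    choose Ri ι ε hε using fun U : (sch W R).affineOpens => exists_obj_over R U.1.ι
    haveI := hp
    have hmem : ∀ U, Mem (Ri U) := fun U => h.down _ z1 (ι U ≫ p) hz1 (by
      rw [bmap_comp, ← hε]; infer_instance) (by
      haveI : IsAffine U.1.toScheme := U.2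
      exact IsAffine.of_isIso (ε U).hom)
    have hfac : ∀ {w : W.obj} (e : w ⟶ R) (U : (sch W R).affineOpens) (b : sch W w ⟶ U.1),
        b ≫ U.1.ι = bmap W e → ∃ e' : w ⟶ Ri U, e' ≫ ι U = e := fun {w} e U b hb =>
      ⟨liftTo (ι U) e (b ≫ (ε U).inv) (by rw [← hε, Category.assoc, Iso.inv_hom_id_assoc, hb]), liftTo_fac _ _ _ _⟩
    refine ⟨(sch W R).affineOpens, fun U => ⟨Ri U, hmem U⟩, fun U => ι U ≫ p, fun U => ι U ≫ q, ?_, ?_, ?_⟩
    · intro y a b
      obtain ⟨y', c, e, hc, hs, h1, h2, -⟩ := hR y a b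
      obtain ⟨K, w, j, I, -, hj, hcov, hb⟩ := exists_cut e
      choose b' hb' using hb
      choose e' he' using fun k => hfac (j k ≫ e) (I k) (b' k) (hb' k)
      haveI := hc; haveI := hj
      refine ⟨K, w, fun k => j k ≫ c, I, e', ⟨fun t => ?_, fun k => ?_, fun k => ?_⟩, fun k => ⟨?_, ?_⟩⟩
      · obtain ⟨s, rfl⟩ := hs.surj t
        obtain ⟨k, v, rfl⟩ := hcov s
        exact ⟨k, v, by rw [bmap_comp]; rfl⟩
      · rw [bmap_comp]; infer_instance
      · rw [bmap_comp]; infer_instance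
      · show e' k ≫ ι (I k) ≫ p = (j k ≫ c) ≫ a
        rw [reassoc_of% (he' k), h1, Category.assoc]
      · show e' k ≫ ι (I k) ≫ q = (j k ≫ c) ≫ b
        rw [reassoc_of% (he' k), h2, Category.assoc]
    · rintro ⟨z, hz⟩ a b
      obtain ⟨y', c, e, hc, hs, h1, h2, -⟩ := hR z a b
      obtain ⟨K, w, j, I, hw, hcov, hb⟩ := h.exists_pieces hz c hc hs e
      choose b' hb' using hb
      choose e' he' using fun k => hfac (j k ≫ e) (I k) (b' k) (hb' k)
      refine ⟨K, fun k => ⟨w k, hw k⟩, fun k => j k ≫ c, I, e', hcov, fun k => ⟨?_, ?_⟩⟩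
      · show e' k ≫ ι (I k) ≫ p = (j k ≫ c) ≫ a
        rw [reassoc_of% (he' k), h1, Category.assoc]
      · show e' k ≫ ι (I k) ≫ q = (j k ≫ c) ≫ b
        rw [reassoc_of% (he' k), h2, Category.assoc]
    · intro i j y e e' h1 h2
      obtain ⟨R₂, c₂, e₂, hc₂, -, he₂, -, t1, t2, hu⟩ := hR.exists_sq hR
      have h1' : (e' ≫ ι j) ≫ p = (e ≫ ι i) ≫ p := by rw [Category.assoc, Category.assoc]; exact h1.symm
      have h2' : (e' ≫ ι j) ≫ q = (e ≫ ι i) ≫ q := by rw [Category.assoc, Category.assoc]; exact h2.symm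
      obtain ⟨g0, g1, g2⟩ := hu y (e ≫ ι i) (e' ≫ ι j) h1' h2'
      let O : (sch W R₂).Opens := bmap W c₂ ⁻¹ᵁ i.1 ⊓ bmap W e₂ ⁻¹ᵁ j.1
      obtain ⟨K, y', d, hd, hb⟩ : ∃ (K : Type u) (y' : K → W.obj) (d : ∀ k, y' k ⟶ y),
          IsFppf (fun k => bmap W (d k)) ∧ ∀ k, ∃ (U : (sch W R₂).affineOpens) (b : sch W (y' k) ⟶ U.1),
            U.1 ≤ O ∧ b ≫ U.1.ι = bmap W (d k ≫ g0) := by
        let K := {U : (sch W R₂).affineOpens // U.1 ≤ O}
        choose y' d ε' hε' using fun k : K => exists_obj_over y (bmap W g0 ⁻¹ᵁ k.1.1).ι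
        refine ⟨K, y', d, ⟨fun t => ?_, fun k => ?_, fun k => ?_⟩, fun k => ⟨k.1,
          (ε' k).hom ≫ (bmap W g0).resLE k.1.1 _ le_rfl, k.2, ?_⟩⟩
        · have ht : bmap W g0 t ∈ O := by
            refine ⟨?_, ?_⟩
            · show bmap W c₂ (bmap W g0 t) ∈ i.1
              rw [← Scheme.Hom.comp_apply, ← bmap_comp, g1, bmap_comp, ← hε, ← Category.assoc, Scheme.Hom.comp_apply]
              exact Subtype.mem _
            · show bmap W e₂ (bmap W g0 t) ∈ j.1
              rw [← Scheme.Hom.comp_apply, ← bmap_comp, g2, bmap_comp, ← hε, ← Category.assoc, Scheme.Hom.comp_apply]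
              exact Subtype.mem _
          obtain ⟨V, hV, htV, hVO⟩ := exists_isAffineOpen_mem_and_subset (x := bmap W g0 t) (U := O) ht
          refine ⟨⟨⟨V, hV⟩, hVO⟩, (ε' _).inv ⟨t, htV⟩, ?_⟩
          rw [← hε', Scheme.Hom.comp_apply, ← Scheme.Hom.comp_apply (ε' _).inv, Iso.inv_hom_id]
          rfl
        · rw [← hε']; infer_instance
        · rw [← hε']; infer_instance
        · rw [Category.assoc, Scheme.Hom.resLE_comp_ι, ← Category.assoc, hε', bmap_comp]
      choose U b hUO hb using hb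
      choose z κ εz hεz using fun k => exists_obj_over R₂ (U k).1.ι
      have haff : ∀ k, IsAffine (sch W (z k)) := fun k => by
        haveI : IsAffine (U k).1.toScheme := (U k).2
        exact IsAffine.of_isIso (εz k).hom
      haveI := hc₂; haveI := he₂
      have hlift : ∀ (m : R₂ ⟶ R) (V : (sch W R).affineOpens) (k : K), (U k).1 ≤ bmap W m ⁻¹ᵁ V.1 →
          ∃ r : z k ⟶ Ri V, r ≫ ι V = κ k ≫ m := fun m V k hle =>
        hfac (κ k ≫ m) V ((εz k).hom ≫ (bmap W m).resLE V.1 (U k).1 hle) (by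
          rw [Category.assoc, Scheme.Hom.resLE_comp_ι, ← Category.assoc, hεz, bmap_comp])
      choose r hr using fun k => hlift c₂ i k (le_trans (hUO k) inf_le_left)
      choose r' hr' using fun k => hlift e₂ j k (le_trans (hUO k) inf_le_right)
      have hzm : ∀ k, Mem (z k) := fun k => h.down _ z1 (κ k ≫ c₂ ≫ p) hz1 (by
        rw [bmap_comp, bmap_comp, ← hεz]; infer_instance) (haff k)
      let g : ∀ k, y' k ⟶ z k := fun k => liftTo (κ k) (d k ≫ g0) (b k ≫ (εz k).inv) (by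
        rw [← hεz, Category.assoc, Iso.inv_hom_id_assoc, hb])
      have hg : ∀ k, g k ≫ κ k = d k ≫ g0 := fun k => liftTo_fac _ _ _ _
      haveI : ∀ V, Mono (bmap W (ι V)) := fun V => by rw [← hε]; infer_instance
      have hmono : ∀ (V : (sch W R).affineOpens) {o : W.obj} {a a' : o ⟶ Ri V}, a ≫ ι V = a' ≫ ι V → a = a' :=
        fun V {o a a'} hh => hom_ext_base (g := ι V) (by
          rw [← cancel_mono (bmap W (ι V)), ← bmap_comp, ← bmap_comp, hh]) hh
      refine ⟨K, y', d, fun k => ⟨z k, hzm k⟩, g, r, r', hd, fun k => ⟨?_, ?_, ?_, ?_⟩⟩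
      · refine hmono i ?_
        rw [Category.assoc, hr, reassoc_of% (hg k), g1, Category.assoc]
      · refine hmono j ?_
        rw [Category.assoc, hr', reassoc_of% (hg k), g2, Category.assoc]
      · show r k ≫ ι i ≫ p = r' k ≫ ι j ≫ p
        rw [reassoc_of% (hr k), reassoc_of% (hr' k), t1]
      · show r k ≫ ι i ≫ q = r' k ≫ ι j ≫ q
        rw [reassoc_of% (hr k), reassoc_of% (hr' k), t2]

include h in
/-- Every morphism between members is locally a morphism into a chart followed by a flat projection. -/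
theorem FlatSys.exists_graph {z' z : W.obj} (hz' : Mem z') (hz : Mem z) (l : z' ⟶ z) :
    ∃ (K : Type u) (w : K → W.obj) (c : ∀ k, w k ⟶ z') (R : K → W.obj) (π₁ : ∀ k, R k ⟶ z') (π₂ : ∀ k, R k ⟶ z)
      (g : ∀ k, w k ⟶ R k), IsFppf (fun k => bmap W (c k)) ∧ ∀ k, Mem (w k) ∧ Mem (R k) ∧
        Flat (bmap W (π₁ k)) ∧ Flat (bmap W (π₂ k)) ∧ g k ≫ π₁ k = c k ∧ g k ≫ π₂ k = c k ≫ l := by
  obtain ⟨R, p, q, hR, hp, hq⟩ := h.rel z' z hz' hz
  choose Ri ι ε hε using fun U : (sch W R).affineOpens => exists_obj_over R U.1.ι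
  obtain ⟨y', c, e, hc, hs, h1, h2, -⟩ := hR z' (𝟙 z') l
  obtain ⟨K, w, j, I, hw, hcov, hb⟩ := h.exists_pieces hz' c hc hs e
  choose b hb using hb
  haveI := hp; haveI := hq
  have hf1 : ∀ U, Flat (bmap W (ι U ≫ p)) := fun U => by rw [bmap_comp, ← hε]; infer_instance
  have hf2 : ∀ U, Flat (bmap W (ι U ≫ q)) := fun U => by rw [bmap_comp, ← hε]; infer_instance
  have hm : ∀ U, Mem (Ri U) := fun U => h.down _ z' (ι U ≫ p) hz' (hf1 U) (by
    haveI : IsAffine U.1.toScheme := U.2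
    exact IsAffine.of_isIso (ε U).hom)
  let g : ∀ k, w k ⟶ Ri (I k) := fun k => liftTo (ι (I k)) (j k ≫ e) (b k ≫ (ε (I k)).inv) (by
    rw [← hε, Category.assoc, Iso.inv_hom_id_assoc, hb])
  refine ⟨K, w, fun k => j k ≫ c, fun k => Ri (I k), fun k => ι (I k) ≫ p, fun k => ι (I k) ≫ q, g, hcov,
    fun k => ⟨hw k, hm _, hf1 _, hf2 _, ?_, ?_⟩⟩
  · rw [liftTo_fac_assoc, Category.assoc, h1, Category.comp_id]
  · rw [liftTo_fac_assoc, Category.assoc, h2, Category.assoc]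

end StPushLib
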