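import Groth.Agent.StPushLib.Ext

/-!
# Morphisms given on the members extend
-/

set_option autoImplicit false
set_option linter.all false
set_option backward.isDefEq.respectTransparency false
set_option backward.isDefEq.respectTransparency.types false
set_option maxHeartbeats 800000

noncomputable section

universe u v w t

open CategoryTheory CategoryTheory.Limits AlgebraicGeometry StMod TwDescLib
open KFlatLib (pb)

namespace StPushLib

variable {S : Scheme.{u}} {W : BasedCategory.{v, w} (Over S)} [FibCat.IsFibGrpd W.p] {P : Type t} {f : P → W.obj}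

theorem exists_hom (hf : RelSys f) {F G : Mod W} (hF : F.IsCartesian) (hG : StMod.isQCoh W G)
    (ψ : Mod.comap (indIncl f) F ⟶ Mod.comap (indIncl f) G) : ∃ a : F ⟶ G, ∀ z, a.app (f z) = ψ.app z := by
  have hψ : ∀ {z' z : P} (l : f z' ⟶ f z), vert (ψ.app z') ≫ totMap F l = totMap G l ≫ vert (ψ.app z) :=
    fun {z' z} l => by
      have h : vert (ψ.app z') ≫ mA (Mod.comap (indIncl f) F) l = mA (Mod.comap (indIncl f) G) l ≫ vert (ψ.app z) :=
        totMap_app ψ (indHom l)
      rwa [totMap_comap_incl, totMap_comap_incl] at h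
  haveI : ∀ y, Coh.IsQCoh (tot G y).M := hG.2
  -- the arrow at an object over a member does not depend on the member
  have key : ∀ {y : W.obj} {z1 z2 : P} (a : y ⟶ f z1) (b : y ⟶ f z2) (χ : tot G y ⟶ tot F y), χ.g = 𝟙 _ →
      χ ≫ totMap F a = totMap G a ≫ vert (ψ.app z1) → χ ≫ totMap F b = totMap G b ≫ vert (ψ.app z2) := by
    intro y z1 z2 a b χ hχ h
    obtain ⟨I, R, p1, p2, hA, -, -⟩ := hf.rel z1 z2
    obtain ⟨κ, y', c, i, e, hc, he⟩ := hA y a b
    refine glue_unique (flatCover_res hc (G.obj y)) (by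
      rw [comp_g, comp_g, hχ, vert_g, totMap_g, totMap_g, Category.id_comp, Category.comp_id]) fun k => ?_
    obtain ⟨h1, h2⟩ := he k
    haveI : IsIso (TwDescLib.adj (totMap G (c k))) := cart_totMap hG.1 (c k)
    have hres : res (c k) (G.obj y) = vert (inv (TwDescLib.adj (totMap G (c k)))) ≫ totMap G (c k) :=
      (vert_inv_adj (totMap G (c k))).symm
    rw [hres, Category.assoc, Category.assoc]
    refine congrArg (vert _ ≫ ·) ?_
    let σ := (cart_totMap hF (c k)).lift (totMap G (c k) ≫ χ) (𝟙 _) (by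
      rw [Category.id_comp, comp_g, hχ, totMap_g, totMap_g]
      exact (Category.comp_id _).symm)
    have hσ : σ ≫ totMap F (c k) = totMap G (c k) ≫ χ := Cart.fac _ _ _ _
    have hσ' : σ ≫ totMap F (e k) = totMap G (e k) ≫ vert (ψ.app (R (i k))) := by
      refine (cart_totMap hF (p1 (i k))).cancel ?_ ?_
      · rw [comp_g, comp_g, Cart.lift_g, vert_g, totMap_g, totMap_g]
        exact (Category.id_comp _).trans (Category.comp_id _).symm
      · rw [Category.assoc, ← totMap_comp, h1, totMap_comp, reassoc_of% hσ, h, Category.assoc, hψ,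
          ← Category.assoc (totMap G (e k)), ← totMap_comp, h1, totMap_comp, Category.assoc]
    rw [← Category.assoc, ← hσ, Category.assoc, ← totMap_comp, ← h2, totMap_comp, reassoc_of% hσ', hψ,
      ← Category.assoc, ← totMap_comp, h2, totMap_comp, Category.assoc]
  have hex : ∀ y : W₁ f, ∃ u : F.obj (f₁ f y) ⟶ G.obj (f₁ f y),
      ∀ (z : P) (a : f₁ f y ⟶ f z), vert u ≫ totMap F a = totMap G a ≫ vert (ψ.app z) := fun y => by
    obtain ⟨u, hu⟩ := exists_vert ((cart_totMap hF (aOf y)).lift (totMap G (aOf y) ≫ vert (ψ.app (zOf y))) (𝟙 _) (by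
      rw [Category.id_comp, comp_g, vert_g, totMap_g, totMap_g]
      exact (Category.comp_id _).symm)) (Cart.lift_g _ _ _ _)
    refine ⟨u, fun z a => key (aOf y) a _ rfl ?_⟩
    rw [hu]
    exact Cart.fac _ _ _ _
  choose u hu using hex
  let Ψ : Mod.comap (indIncl (f₁ f)) F ⟶ Mod.comap (indIncl (f₁ f)) G :=
    homOfArr (𝒴 := ind (f₁ f)) (fun y => u y) fun {y' y} l => by
      obtain ⟨l⟩ := l
      refine (congrArg (vert (u y') ≫ ·) (totMap_comap_incl (f := f₁ f) F l)).trans ?_
      refine Eq.trans ?_ (congrArg (· ≫ vert (u y)) (totMap_comap_incl (f := f₁ f) G l).symm)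
      refine (cart_totMap hF (aOf y)).cancel ?_ ?_
      · rw [comp_g, comp_g, vert_g, vert_g, totMap_g, totMap_g]
        exact (Category.id_comp _).trans (Category.comp_id _).symm
      · rw [Category.assoc, Category.assoc, ← totMap_comp, hu, hu, totMap_comp, Category.assoc]
  obtain ⟨a, ha⟩ := exists_hom_of_incl (locImage_f₁ hf) hG Ψ
  refine ⟨a, fun z => vert_injective ?_⟩
  have h := hu (ofMem z) z (𝟙 (f z))
  rw [show a.app (f z) = u (ofMem z) from ha (ofMem z)]
  refine ((Category.comp_id _).symm.trans ((congrArg (vert (u (ofMem z)) ≫ ·) (totMap_id F (f z)).symm).trans h)).trans ?_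
  exact (congrArg (· ≫ vert (ψ.app z)) (totMap_id G (f z))).trans (Category.id_comp _)

end StPushLib
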