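import Groth.Agent.StPushLib.BaseChange
import Groth.Agent.StPushLib.Affine
import Groth.Agent.StPushLib.FlatSys
import Groth.Agent.StPushLib.HomExt
import Mathlib.Algebra.Module.Shrink

/-!
# The quasi-coherent module of families of morphisms on the fibres
-/

set_option autoImplicit false
set_option linter.style.haveILetI false
set_option backward.isDefEq.respectTransparency false
set_option backward.isDefEq.respectTransparency.types false
set_option maxHeartbeats 800000

universe u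

open CategoryTheory CategoryTheory.Limits AlgebraicGeometry AlgSp FibCat FibLib AlgStLib Opposite StMod TensorProduct
open TwDescLib (MObj Cart IsFppf mA wTot ind indIncl indHom totMap modOfArr homOfArr vert cart_totMap totMap_comap_incl totMap_modOfArr cart_of_cover totMap_app cart_mA mA_g)

noncomputable section

namespace StPushLib

variable {S : Scheme.{u}} {V W : AlgSt.Cat S}

/-- The fibres over the members have affine charts. -/
def HasCharts (π : V ⥤ᵇ W) (Mem : W.obj → Prop) : Prop :=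
  ∀ z, Mem z → ∃ (w0 r : (fibCat π z).obj) (p q : r ⟶ w0),
    IsAffine (sch (fibCat π z) w0) ∧ IsAffine (sch (fibCat π z) r) ∧ GenDescLib.Chart (fibCat π z) w0 r p q

variable (π : V ⥤ᵇ W) (Mem : W.obj → Prop) (E : Mod V) (hE : E.IsCartesian) (M : Mod V)

/-- A quasi-coherent module whose sections over the members are the families of morphisms. -/
structure Push where
  /-- the module -/
  G : QCoh W
  /-- the families as sections -/
  ι : ∀ z : {z // Mem z}, HomFam π E hE M (memObj z) ≃+ Γ(G.obj.obj (memObj z), ⊤)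
  smul : ∀ (z : {z // Mem z}) (a : Γ(sch W (memObj z), ⊤)) (t), ι z (a • t) = a • ι z t
  res : ∀ (z' z : {z // Mem z}) (l : memObj z' ⟶ memObj z) (t),
    G.obj.mapTop l (ι z t) = ι z' (resFam l t)

variable [IsFibGrpd V.p] [IsFibGrpd W.p] {π Mem E hE M}

theorem exists_push (hMem : FlatSys Mem) (hch : HasCharts π Mem) (hEq : E.IsLocQCoh) (hEfp : E.IsFinPres)
    (hM : StMod.isQCoh V M) : Nonempty (Push π Mem E hE M) := by
  haveI : ∀ z : {z // Mem z}, IsAffine (sch W (memObj z)) := fun z => hMem.aff _ z.2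
  have hval : ∀ z : {z // Mem z}, ∃ Q : (sch W (memObj z)).Modules, Coh.IsQCoh Q ∧
      ∃ ι : HomFam π E hE M (memObj z) ≃+ Γ(Q, ⊤), ∀ (a : Γ(sch W (memObj z), ⊤)) t, ι (a • t) = a • ι t := fun z => by
    obtain ⟨w0, r, p, q, -, -, hW⟩ := hch _ z.2
    haveI : Small.{u} (HomFam π E hE M (memObj z)) := small_homFam hM.1 hW
    obtain ⟨Q, hQ, ι, hι⟩ := exists_qcoh_of_module (sch W (memObj z)) (Shrink.{u} (HomFam π E hE M (memObj z)))
    let e := (Shrink.linearEquiv.{u} Γ(sch W (memObj z), ⊤) (HomFam π E hE M (memObj z))).symm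
    exact ⟨Q, hQ, e.toAddEquiv.trans ι, fun a t => (congrArg ι (e.map_smul a t)).trans (hι a _)⟩
  choose Q hQ ι hι using hval
  haveI : ∀ z, Coh.IsQCoh (⟨sch W (memObj z), Q z⟩ : MObj).M := hQ
  haveI : ∀ z, IsAffine (⟨sch W (memObj z), Q z⟩ : MObj).X := fun z => hMem.aff _ z.2
  have harr : ∀ (z' z : {z // Mem z}) (l : memObj z' ⟶ memObj z),
      ∃ m : Q z ⟶ (Scheme.Modules.pushforward (bmap W l)).obj (Q z'),
        ∀ t, m.app ⊤ (ι z t) = ι z' (resFam l t) := fun z' z l => by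
    let ψ : Γ(Q z, ⊤) →+ Γ(Q z', ⊤) :=
      (ι z').toAddMonoidHom.comp ((AddMonoidHom.mk' (resFam l) (resFam_add l)).comp (ι z).symm.toAddMonoidHom)
    obtain ⟨m, hm, -⟩ := OmegaAffLib.exists_hom_of_top (Q z) ((Scheme.Modules.pushforward (bmap W l)).obj (Q z')) ψ
      fun a t => by
        show ι z' (resFam l ((ι z).symm (a • t))) = (bmap W l).appTop a • ι z' (resFam l ((ι z).symm t))
        rw [show (ι z).symm (a • t) = a • (ι z).symm t from (ι z).injective (by rw [hι]; simp), resFam_smul, hι]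
    refine ⟨m, fun t => (hm _).trans ?_⟩
    show ι z' (resFam l ((ι z).symm (ι z t))) = _
    rw [AddEquiv.symm_apply_apply]
  choose m hm using harr
  let A : ∀ (z' z : {z // Mem z}), (memObj z' ⟶ memObj z) →
      ((⟨sch W (memObj z'), Q z'⟩ : MObj) ⟶ ⟨sch W (memObj z), Q z⟩) := fun z' z l => ⟨bmap W l, m z' z l⟩
  have hext : ∀ (z' z : {z // Mem z}) (a b : (⟨sch W (memObj z'), Q z'⟩ : MObj) ⟶ ⟨sch W (memObj z), Q z⟩)
      (e : a.g = b.g), (∀ t, (Q z').presheaf.map (eqToHom (show b.g ⁻¹ᵁ ⊤ = a.g ⁻¹ᵁ ⊤ by rw [e])).op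
        (a.m.app ⊤ (ι z t)) = b.m.app ⊤ (ι z t)) → a = b := by
    rintro z' z ⟨g, m₁⟩ ⟨g', m₂⟩ e h
    dsimp only at e
    subst e
    refine arr_ext fun t => ?_
    obtain ⟨t, rfl⟩ := (ι z).surjective t
    refine Eq.trans ?_ (h t)
    exact (congr($((Q z').presheaf.map_id _) _)).symm
  have htop : ∀ (z' : {z // Mem z}) (U : (sch W (memObj z')).Opens) (e : U = U) (x : Γ(Q z', U)),
      (Q z').presheaf.map (eqToHom e).op x = x := fun z' U e x => congr($((Q z').presheaf.map_id _) x)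
  have hid : ∀ z, A z z (𝟙 _) = 𝟙 _ := fun z => hext z z _ _ (bmap_id _) fun t => by
    refine (congrArg _ ((hm z z _ t).trans (congrArg (ι z) (resFam_id t)))).trans (htop z ⊤ rfl _)
  have hcomp : ∀ (z'' z' z : {z // Mem z}) (ψ : memObj z'' ⟶ memObj z') (φ : memObj z' ⟶ memObj z),
      A z'' z (ψ ≫ φ) = A z'' z' ψ ≫ A z' z φ := fun z'' z' z ψ φ => hext z'' z _ _ (bmap_comp ψ φ) fun t => by
    refine (congrArg _ ((hm z'' z _ t).trans (congrArg (ι z'') (resFam_comp φ ψ t)))).trans ((htop z'' ⊤ rfl _).trans ?_)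
    exact ((congrArg ((m z'' z' ψ).app ⊤) (hm z' z φ t)).trans (hm z'' z' ψ _)).symm
  let K : Mod (ind (memObj (Mem := Mem))) := modOfArr (𝒴 := ind (memObj (Mem := Mem))) Q
    (fun {z' z} φ => A z' z φ.hom) (fun {z' z} φ => rfl) (fun z => hid z) (fun {z'' z' z} ψ φ => hcomp z'' z' z ψ.hom φ.hom)
  have hK : ∀ {z' z : {z // Mem z}} (l : memObj z' ⟶ memObj z), mA K l = A z' z l := fun {z' z} l =>
    totMap_modOfArr (𝒴 := ind (memObj (Mem := Mem))) _ _ _ _ _ (indHom (f := memObj) (w' := z') (w := z) l)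
  -- flat arrows are cartesian
  have hflat : ∀ (z' z : {z // Mem z}) (l : memObj z' ⟶ memObj z), Flat (bmap W l) → Cart (A z' z l) := by
    intro z' z l hl
    obtain ⟨w0, r, p, q, hw0, hr, hW⟩ := hch (memObj z) z.2
    haveI := hw0; haveI := hr; haveI := hl
    letI : Algebra Γ(sch W (memObj z), ⊤) Γ(sch W (memObj z'), ⊤) := (bmap W l).appTop.hom.toAlgebra
    letI : Module Γ(sch W (memObj z), ⊤) (HomFam π E hE M (memObj z')) := Module.compHom _ (bmap W l).appTop.hom
    haveI : IsScalarTower Γ(sch W (memObj z), ⊤) Γ(sch W (memObj z'), ⊤) (HomFam π E hE M (memObj z')) :=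
      IsScalarTower.of_algebraMap_smul fun _ _ => rfl
    letI : Module Γ(sch W (memObj z), ⊤) Γ(Q z', ⊤) := Module.compHom _ (bmap W l).appTop.hom
    haveI : IsScalarTower Γ(sch W (memObj z), ⊤) Γ(sch W (memObj z'), ⊤) Γ(Q z', ⊤) :=
      IsScalarTower.of_algebraMap_smul fun _ _ => rfl
    let β : HomFam π E hE M (memObj z) →ₗ[Γ(sch W (memObj z), ⊤)] HomFam π E hE M (memObj z') :=
      { toFun := resFam l, map_add' := resFam_add l, map_smul' := fun a t => resFam_smul l a t }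
    have hb := bijective_resFam hE hEq hM.1 hM.2 l hW (hEfp w0.left) rfl β fun _ => rfl
    let e₁ : Γ(Q z, ⊤) ≃ₗ[Γ(sch W (memObj z), ⊤)] HomFam π E hE M (memObj z) :=
      ((ι z).toLinearEquiv (hι z)).symm
    let e₂ : HomFam π E hE M (memObj z') ≃ₗ[Γ(sch W (memObj z'), ⊤)] Γ(Q z', ⊤) := (ι z').toLinearEquiv (hι z')
    let ψ : Γ(Q z, ⊤) →ₗ[Γ(sch W (memObj z), ⊤)] Γ(Q z', ⊤) :=
      (e₂.toLinearMap.restrictScalars _) ∘ₗ β ∘ₗ e₁.toLinearMap
    refine cart_of_bijective (A := ⟨sch W (memObj z'), Q z'⟩) (B := ⟨sch W (memObj z), Q z⟩) (A z' z l) rfl ψ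
      (fun t => ?_) ?_
    · obtain ⟨t, rfl⟩ := (ι z).surjective t
      refine Eq.trans ?_ (hm z' z l t).symm
      show ι z' (resFam l ((ι z).symm (ι z t))) = _
      rw [AddEquiv.symm_apply_apply]
    · have he : ⇑(ψ.liftBaseChange Γ(sch W (memObj z'), ⊤)) =
          e₂ ∘ (β.liftBaseChange Γ(sch W (memObj z'), ⊤)) ∘
            (e₁.toLinearMap.lTensor Γ(sch W (memObj z'), ⊤)) := funext fun x => by
        induction x using TensorProduct.induction_on with
        | zero => simp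
        | tmul a t => simp [ψ, LinearMap.liftBaseChange_tmul]
        | add a b ha hb => simp only [Function.comp_apply, map_add] at ha hb ⊢; rw [ha, hb]
      rw [he]
      exact e₂.bijective.comp (hb.comp (LinearEquiv.lTensor Γ(sch W (memObj z'), ⊤) e₁).bijective)
  have hKc : K.IsCartesian := fun z' z φ g hg => by
    subst hg
    obtain ⟨l⟩ := φ
    have : Cart (mA K l) := by
      obtain ⟨κ, w, c, R, π₁, π₂, γ, hc, hall⟩ := hMem.exists_graph z'.2 z.2 l
      choose hw hR hf1 hf2 e1 e2 using hall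
      haveI : ∀ k, Coh.IsQCoh (wTot K (⟨w k, hw k⟩ : {z // Mem z})).M := fun k => hQ _
      refine cart_of_cover (u := fun k => mA K (w' := (⟨w k, hw k⟩ : {z // Mem z})) (w := z') (c k))
        ⟨fun k => by rw [hK]; exact hflat _ _ _ (hc.flat k), fun k => hc.flat k, hc.surj⟩ _ fun k => ?_
      have h1 : Cart (mA K (w' := (⟨w k, hw k⟩ : {z // Mem z})) (w := (⟨R k, hR k⟩ : {z // Mem z})) (γ k)) := by
        refine Cart.of_comp (b := mA K (w' := (⟨R k, hR k⟩ : {z // Mem z})) (w := z') (π₁ k)) ?_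
          (by rw [hK]; exact hflat _ _ _ (hf1 k))
        rw [← TwDescLib.mA_comp, hK, show γ k ≫ π₁ k = c k from e1 k]
        exact hflat _ _ _ (hc.flat k)
      rw [← TwDescLib.mA_comp, ← e2 k]
      show Cart (mA K (w' := (⟨w k, hw k⟩ : {z // Mem z})) (w := z) (γ k ≫ π₂ k))
      refine (TwDescLib.mA_comp K (w'' := (⟨w k, hw k⟩ : {z // Mem z})) (w' := (⟨R k, hR k⟩ : {z // Mem z}))
        (w := z) (γ k) (π₂ k)).symm ▸ ?_
      exact h1.comp (by rw [hK]; exact hflat _ _ _ (hf2 k))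
    exact this
  obtain ⟨G, ⟨e⟩⟩ := exists_mod hMem.relSys K ⟨hKc, hQ⟩
  let G0 := Mod.comap (indIncl (memObj (Mem := Mem))) G.obj
  let i : ∀ z : {z // Mem z}, Γ(Q z, ⊤) ≃+ Γ(G0.obj z, ⊤) := fun z =>
    { toFun := fun s => (e.hom.app z).app ⊤ s
      invFun := fun s => (e.inv.app z).app ⊤ s
      left_inv := fun s => congrArg (fun u : K ⟶ K => (Mod.Hom.app u z).app ⊤ s) e.hom_inv_id
      right_inv := fun s => congrArg (fun u : G0 ⟶ G0 => (Mod.Hom.app u z).app ⊤ s) e.inv_hom_id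
      map_add' := fun a b => map_add _ a b }
  refine ⟨⟨G, fun z => (ι z).trans (i z), fun z a t => ?_, fun z' z l t => ?_⟩⟩
  · show (e.hom.app z).app ⊤ (ι z (a • t)) = a • (show Γ(G0.obj z, ⊤) from (e.hom.app z).app ⊤ (ι z t))
    rw [hι]
    exact QCohLib.app_smul (e.hom.app z) ⊤ a _
  · show G.obj.mapTop l ((e.hom.app z).app ⊤ (ι z t)) = (e.hom.app z').app ⊤ (ι z' (resFam l t))
    have h1 : G0.mapTop (indHom l) ((e.hom.app z).app ⊤ (ι z t)) =
        (e.hom.app z').app ⊤ (K.mapTop (indHom l) (ι z t)) := Mod.mapTop_app e.hom (indHom l) _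
    have h2 : G0.map (indHom (f := memObj) (w' := z') (w := z) l) rfl = G.obj.map l rfl := by
      rw [Mod.comap_map]; exact castMap_rfl_self _ _
    have h3 : K.mapTop (indHom l) (ι z t) = ι z' (resFam l t) := by
      refine Eq.trans ?_ (hm z' z l t)
      refine Eq.trans ?_ (TwDescLib.app_congr (hK (z' := z') (z := z) l) ⊤ (ι z t))
      exact (congr($((Q z').presheaf.map_id _) _)).symm
    rw [h3] at h1
    refine Eq.trans ?_ h1
    exact congr($(congrArg (fun q => Scheme.Modules.Hom.app q ⊤) h2.symm) _)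

theorem Push.exists_map (hMem : FlatSys Mem) {N : Mod V} (P : Push π Mem E hE M) (P' : Push π Mem E hE N)
    (u : M ⟶ N) : ∃ a : P.G ⟶ P'.G, ∀ (z : {z // Mem z}) (t : HomFam π E hE M (memObj z)),
      (a.hom.app (memObj z)).app ⊤ (P.ι z t) = P'.ι z (mapFam u t) := by
  haveI : ∀ z : {z // Mem z}, IsAffine (sch W (memObj z)) := fun z => hMem.aff _ z.2
  haveI : ∀ (G : QCoh W) (y : W.obj), Coh.IsQCoh (G.obj.obj y) := fun G y => G.property.2 y
  have hex : ∀ z : {z // Mem z}, ∃ v : P.G.obj.obj (memObj z) ⟶ P'.G.obj.obj (memObj z),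
      ∀ t, v.app ⊤ (P.ι z t) = P'.ι z (mapFam u t) := fun z => by
    obtain ⟨v, hv, -⟩ := OmegaAffLib.exists_hom_of_top (P.G.obj.obj (memObj z)) (P'.G.obj.obj (memObj z))
      ((P'.ι z).toAddMonoidHom.comp ((AddMonoidHom.mk' (mapFam u) (mapFam_add u)).comp (P.ι z).symm.toAddMonoidHom))
      fun a t => by
        show P'.ι z (mapFam u ((P.ι z).symm (a • t))) = a • P'.ι z (mapFam u ((P.ι z).symm t))
        rw [show (P.ι z).symm (a • t) = a • (P.ι z).symm t from (P.ι z).injective (by rw [P.smul]; simp),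
          mapFam_smul, P'.smul]
    refine ⟨v, fun t => (hv _).trans ?_⟩
    show P'.ι z (mapFam u ((P.ι z).symm (P.ι z t))) = _
    rw [AddEquiv.symm_apply_apply]
  choose v hv using hex
  let ψ : Mod.comap (indIncl (memObj (Mem := Mem))) P.G.obj ⟶ Mod.comap (indIncl (memObj (Mem := Mem))) P'.G.obj :=
    ⟨fun z => v z, fun {z' z} φ g hg => by
      subst hg
      obtain ⟨l⟩ := φ
      have h1 : ∀ G : QCoh W, (Mod.comap (indIncl (memObj (Mem := Mem))) G.obj).map
          (indHom (f := memObj) (w' := z') (w := z) l) rfl = G.obj.map l rfl := fun G => by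
        rw [Mod.comap_map]; exact castMap_rfl_self _ _
      refine (congrArg (· ≫ _) (h1 P.G)).trans (Eq.trans ?_ (congrArg (v z ≫ ·) (h1 P'.G)).symm)
      obtain ⟨m₀, -, hu⟩ := OmegaAffLib.exists_hom_of_top (P.G.obj.obj (memObj z))
        ((Scheme.Modules.pushforward (bmap W l)).obj (P'.G.obj.obj (memObj z')))
        ((v z ≫ P'.G.obj.map l rfl).app ⊤).hom fun a t => QCohLib.app_smul _ ⊤ a t
      refine (hu _ fun t => ?_).trans (hu _ fun t => rfl).symm
      obtain ⟨t, rfl⟩ := (P.ι z).surjective t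
      show (v z').app ⊤ (P.G.obj.mapTop l (P.ι z t)) = P'.G.obj.mapTop l ((v z).app ⊤ (P.ι z t))
      rw [P.res, hv, hv, P'.res, resFam_mapFam]⟩
  obtain ⟨a, ha⟩ := exists_hom hMem.relSys P.G.property.1 P'.G.property ψ
  exact ⟨ObjectProperty.homMk a, fun z t => (congr($(congrArg (fun q => Scheme.Modules.Hom.app q ⊤) (ha z)) _)).trans (hv z t)⟩

end StPushLib
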