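import Groth.Agent.StPushLib.EtProd
import Groth.Agent.StPushLib.OverSp
import Groth.Agent.StPushLib.Fam
import Groth.Agent.StPushLib.Push
import Mathlib.AlgebraicGeometry.Morphisms.ClosedImmersion

/-!
# Families extended by zero off the locus where two morphisms agree
-/

set_option autoImplicit false
set_option linter.style.haveILetI false
set_option backward.isDefEq.respectTransparency false
set_option backward.isDefEq.respectTransparency.types false
set_option maxHeartbeats 800000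

universe u

open CategoryTheory CategoryTheory.Limits AlgebraicGeometry AlgSp FibCat FibLib Opposite StMod GenDescLib
open CohAffLib (hs hs_one oneSec hom_ext_one pull_hs)
open TwDescLib (exists_obj_over)

noncomputable section

namespace StPushLib

variable {S : Scheme.{u}}

theorem not_mem_both {X : Scheme.{u}} {e : Γ(X, ⊤)} (he : IsIdempotentElem e) {x : X}
    (h : x ∈ X.basicOpen e) (h' : x ∈ X.basicOpen (1 - e)) : False := by
  rw [Groth.Agent.LefConnLib.mem_basicOpen_iff_germ_eq_one he.one_sub, map_sub, map_one,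
    (Groth.Agent.LefConnLib.mem_basicOpen_iff_germ_eq_one he x).1 h, sub_self] at h'
  exact zero_ne_one h'

theorem mem_one_sub {X : Scheme.{u}} {e : Γ(X, ⊤)} (he : IsIdempotentElem e) {x : X}
    (h : x ∉ X.basicOpen e) : x ∈ X.basicOpen (1 - e) := by
  rw [Groth.Agent.LefConnLib.mem_basicOpen_iff_germ_eq_one he.one_sub, map_sub, map_one,
    Groth.Agent.LefConnLib.germ_eq_zero_of_notMem he h, sub_zero]

/-- Multiples by an idempotent agree if the elements agree over its locus. -/
theorem smul_eq_of_restrict {W : AlgSt.Cat S} [IsFibGrpd W.p] {G : Mod W} (hG : G.IsCartesian) {x x1 : W.obj}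
    {e : Γ(sch W x, ⊤)} (he : IsIdempotentElem e) (i : x1 ⟶ x) [IsOpenImmersion (bmap W i)]
    (hi : Set.range (bmap W i) = (sch W x).basicOpen e) {X Y : Γ(G.obj x, ⊤)}
    (h : G.mapTop i X = G.mapTop i Y) : e • X = e • Y := by
  obtain ⟨x0, i0, ε, hε⟩ := exists_obj_over x ((sch W x).basicOpen (1 - e)).ι
  haveI : IsOpenImmersion (bmap W i0) := by rw [← hε]; infer_instance
  have h0 : (bmap W i0).appTop e = 0 := by
    refine Groth.Agent.LefConnLib.idem_eq_of_basicOpen_eq (he.map _) IsIdempotentElem.zero ?_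
    rw [Scheme.basicOpen_zero, ← Scheme.preimage_basicOpen_top]
    refine eq_bot_iff.2 fun t ht => ?_
    have h1 : bmap W i0 t ∈ (sch W x).basicOpen (1 - e) := by
      rw [← hε]
      exact (ε.hom t).2
    exact (not_mem_both he ht h1).elim
  have hcov : ∀ t : sch W x, t ∈ Set.range (bmap W i) ∨ t ∈ Set.range (bmap W i0) := fun t => by
    by_cases ht : t ∈ (sch W x).basicOpen e
    · exact Or.inl (hi ▸ ht)
    · refine Or.inr ⟨ε.inv ⟨t, mem_one_sub he ht⟩, ?_⟩
      rw [← hε, Scheme.Hom.comp_apply, ← Scheme.Hom.comp_apply ε.inv, Iso.inv_hom_id]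
      rfl
  have key : hs G x (e • X) = hs G x (e • Y) := by
    refine eq_of_pull (κ := ULift.{u} Bool) (y' := fun b => cond b.down x1 x0) isCartesian_O
      (fun ⟨b⟩ => match b with | true => i | false => i0) (fun ⟨b⟩ => ?_) (fun t => ?_) hG fun ⟨b⟩ => ?_
    · cases b <;> infer_instance
    · rcases hcov t with h1 | h1
      · exact ⟨⟨true⟩, h1⟩
      · exact ⟨⟨false⟩, h1⟩
    · cases b
      · show pull (O W) G isCartesian_O i0 _ = pull (O W) G isCartesian_O i0 _
        rw [pull_hs, pull_hs, Mod.mapTop_smul, Mod.mapTop_smul, h0, zero_smul, zero_smul]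
      · show pull (O W) G isCartesian_O i _ = pull (O W) G isCartesian_O i _
        rw [pull_hs, pull_hs, Mod.mapTop_smul, Mod.mapTop_smul, h]
  rw [← hs_one G x (e • X), key, hs_one]

variable {M : AlgSp.Sp S} {𝒳 : AlgSt.Cat S} [IsFibGrpd 𝒳.p] {π : 𝒳 ⥤ᵇ AlgSt.ofSp M}
  {η ν : (AlgSt.ofSp M).obj} [IsAffine ν.base.left] (hν : RepWith @Etale (toM ν))

/-- The idempotent of the locus where two morphisms to the object agree. -/
def eps (x : 𝒳.obj) (α β : π.obj x ⟶ ν) : Γ(sch 𝒳 x, ⊤) :=
  (eqToHom (sch_obj_eq π x).symm).appTop (eqIdem hν α β)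

omit [IsFibGrpd 𝒳.p] in
theorem isIdempotentElem_eps (x : 𝒳.obj) (α β : π.obj x ⟶ ν) : IsIdempotentElem (eps hν x α β) :=
  (isIdempotentElem_eqIdem hν α β).map _

omit [IsFibGrpd 𝒳.p] in
theorem eps_map {x' x : 𝒳.obj} (φ : x' ⟶ x) (α β : π.obj x ⟶ ν) :
    eps hν x' (π.map φ ≫ α) (π.map φ ≫ β) = (bmap 𝒳 φ).appTop (eps hν x α β) := by
  have h : eqToHom (sch_obj_eq π x').symm ≫ (π.map φ).hom.left = bmap 𝒳 φ ≫ eqToHom (sch_obj_eq π x).symm := by
    rw [show (π.map φ).hom.left = _ from bmap_map_eq π φ]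
    simp
  rw [eps, eps, eqIdem_comp]
  refine Eq.trans ?_ ((congr($(congrArg Scheme.Hom.appTop h) (eqIdem hν α β))).trans ?_)
  · rw [Scheme.Hom.comp_appTop]; rfl
  · rw [Scheme.Hom.comp_appTop]; rfl

omit [IsFibGrpd 𝒳.p] in
theorem eps_self (x : 𝒳.obj) (α : π.obj x ⟶ ν) : eps hν x α α = 1 := by
  rw [eps, eqIdem_self, map_one]

/-- The two morphisms agree over the locus. -/
theorem comp_eq_of_eps {x' x : 𝒳.obj} (φ : x' ⟶ x) (α β : π.obj x ⟶ ν)
    (hφ : Set.range (bmap 𝒳 φ) ⊆ (sch 𝒳 x).basicOpen (eps hν x α β)) : π.map φ ≫ α = π.map φ ≫ β := by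
  refine comp_eq_of_range hν (π.map φ) α β ?_
  rintro _ ⟨t, rfl⟩
  have h1 : bmap 𝒳 φ (eqToHom (sch_obj_eq π x') t) ∈ (sch 𝒳 x).basicOpen (eps hν x α β) := hφ ⟨_, rfl⟩
  rw [eps, ← Scheme.preimage_basicOpen_top] at h1
  have h2 : (π.map φ).hom.left t = eqToHom (sch_obj_eq π x).symm (bmap 𝒳 φ (eqToHom (sch_obj_eq π x') t)) := by
    rw [show (π.map φ).hom.left = _ from bmap_map_eq π φ]
    rfl
  rw [h2]
  exact h1

variable (l : η ⟶ ν) {G : Mod (fibCat π η)} (s : ∀ v, Γ(G.obj v, ⊤))
  (hs' : ∀ {v' v} (φ : v' ⟶ v), G.mapTop φ (s v) = s v') {z : 𝒳.obj} (a : π.obj z ⟶ ν)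

/-- The section extended by zero, as a family. -/
def zFam : HomFam (fibFst π η) (O (fibCat π η)) isCartesian_O G z :=
  ⟨fun v c => hs G v ((show Γ(sch (fibCat π η) v, ⊤) from eps hν v.left (v.hom ≫ l) (π.map c ≫ a)) • s v),
    fun v' v φ c => by
      rw [pull_hs]
      refine congrArg (hs G v') ?_
      rw [Mod.mapTop_smul, hs' φ]
      refine congrArg (fun t : Γ(sch (fibCat π η) v', ⊤) => t • s v') ?_
      refine Eq.trans (eps_map hν φ.left (v.hom ≫ l) (π.map c ≫ a)).symm ?_
      congr 1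
      · rw [← Category.assoc]; exact congrArg (· ≫ l) (CostructuredArrow.w φ)
      · rw [← Category.assoc, ← π.toFunctor.map_comp]; rfl⟩

omit [IsFibGrpd 𝒳.p] in
theorem zFam_app (v : (fibCat π η).obj) (c : v.left ⟶ z) :
    ((zFam hν l s hs' a).1 v c).app ⊤ (oneSec v) =
      (show Γ(sch (fibCat π η) v, ⊤) from eps hν v.left (v.hom ≫ l) (π.map c ≫ a)) • s v :=
  hs_one G v _

omit [IsFibGrpd 𝒳.p] in
theorem resFam_zFam {z' : 𝒳.obj} (L : z' ⟶ z) :
    resFam (π := fibFst π η) L (zFam hν l s hs' a) = zFam hν l s hs' (π.map L ≫ a) := by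
  refine HomFam.ext fun v c => ?_
  show hs G v _ = hs G v _
  rw [show π.map (c ≫ L) ≫ a = π.map c ≫ π.map L ≫ a by rw [π.toFunctor.map_comp, Category.assoc]]

variable [IsAffine η.base.left] [IsAffine (sch 𝒳 z)]

set_option maxHeartbeats 3200000 in
/-- Extensions by zero lift along surjections. -/
theorem exists_zFam_lift {F G' : QCoh (fibCat π η)} (u : F ⟶ G') (hu : Mod.IsSurj u.hom)
    (s : ∀ v, Γ(G'.obj.obj v, ⊤)) (hs' : ∀ {v' v} (φ : v' ⟶ v), G'.obj.mapTop φ (s v) = s v')
    {w0 r : (fibCat (fibFst π η) z).obj} {p q : r ⟶ w0} [IsAffine (sch (fibCat (fibFst π η) z) w0)]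
    (hW : Chart (fibCat (fibFst π η) z) w0 r p q) :
    ∃ t : HomFam (fibFst π η) (O (fibCat π η)) isCartesian_O F.obj z, mapFam u.hom t = zFam hν l s hs' a := by
  haveI : IsFibGrpd (fibCat π η).p := isFibGrpd_fibCat π η
  haveI := isAffine_base π z
  -- the object over the product with the base of the member
  let gη := pullback.fst l.hom.left a.hom.left
  let Y := objLeft η gη
  let γη := objLeftHom η gη
  haveI : IsAffine Y.base.left := inferInstanceAs (IsAffine (pullback l.hom.left a.hom.left))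
  obtain ⟨γz, hγ, hγ'⟩ := exists_homLeft a (γη ≫ l) (pullback.snd l.hom.left a.hom.left) pullback.condition.symm
  obtain ⟨x0, c0, j, hc0⟩ := exists_obj_sp π z γz
  haveI := isAffine_of_iso π j
  let v0 : (fibCat π η).obj := CostructuredArrow.mk (S := π.toFunctor) (Y := x0) (j.hom ≫ γη)
  haveI : IsAffine (sch (fibCat π η) v0) := inferInstanceAs (IsAffine (sch 𝒳 x0))
  have huniq : ∀ {v : (fibCat π η).obj} (d d' : v ⟶ v0), d.left ≫ c0 = d'.left ≫ c0 → d = d' := fun {v} d d' h => by
    refine CostructuredArrow.hom_ext _ _ (ext_sp π c0 h ((cancel_mono j.hom).1 (hom_ext_left ?_)))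
    refine pullback.hom_ext ?_ ?_
    · have h1 : (π.map d.left ≫ j.hom) ≫ γη = (π.map d'.left ≫ j.hom) ≫ γη := by
        rw [Category.assoc, Category.assoc]
        exact (CostructuredArrow.w d).trans (CostructuredArrow.w d').symm
      exact congrArg (fun t : π.obj v.left ⟶ η => t.hom.left) h1
    · have h1 : (π.map d.left ≫ j.hom) ≫ γz = (π.map d'.left ≫ j.hom) ≫ γz := by
        rw [Category.assoc, Category.assoc, ← hc0, ← π.toFunctor.map_comp, ← π.toFunctor.map_comp, h]
      have h2 := congrArg (fun t : π.obj v.left ⟶ π.obj z => t.hom.left) h1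
      change _ ≫ γz.hom.left = _ ≫ γz.hom.left at h2
      rw [hγ'] at h2
      exact h2
  obtain ⟨f0, hf0⟩ := hu v0 inferInstance (s v0)
  -- the locus in the chart
  let v := w0.left
  let c : v.left ⟶ z := w0.hom
  haveI : IsAffine (sch (fibCat π η) v) := ‹IsAffine (sch (fibCat (fibFst π η) z) w0)›
  let e : Γ(sch (fibCat π η) v, ⊤) := eps hν v.left (v.hom ≫ l) (π.map c ≫ a)
  have hidem : IsIdempotentElem e := isIdempotentElem_eps hν _ _ _
  let U := (sch (fibCat π η) v).basicOpen e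
  obtain ⟨vK, i, ε, hε⟩ := exists_obj_over v U.ι
  haveI : IsOpenImmersion (bmap (fibCat π η) i) := by rw [← hε]; infer_instance
  have hri : Set.range (bmap (fibCat π η) i) = U := by
    rw [← hε, Scheme.Hom.comp_base, TopCat.coe_comp, Set.range_comp,
      Set.range_eq_univ.2 ε.hom.surjective, Set.image_univ, Scheme.Opens.range_ι]
  have hloc : π.map i.left ≫ v.hom ≫ l = π.map i.left ≫ π.map c ≫ a :=
    comp_eq_of_eps hν i.left _ _ hri.le
  have hw : vK.hom.hom.left ≫ l.hom.left = (π.map (i.left ≫ c)).hom.left ≫ a.hom.left := by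
    have h1 : vK.hom ≫ l = π.map (i.left ≫ c) ≫ a := by
      rw [π.toFunctor.map_comp, Category.assoc, ← hloc, ← Category.assoc]
      exact congrArg (· ≫ l) (CostructuredArrow.w i).symm
    exact congrArg (fun t : π.obj vK.left ⟶ ν => t.hom.left) h1
  obtain ⟨ρ, hρ, hρ'⟩ := exists_homLeft γη vK.hom (pullback.lift _ _ hw) (pullback.lift_fst _ _ _)
  obtain ⟨ψ0, hψ1, hψ2⟩ := exists_fac_sp π c0 (i.left ≫ c) (ρ ≫ j.inv) (by
    rw [hc0, Category.assoc, Iso.inv_hom_id_assoc]
    refine hom_ext_left ?_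
    show ρ.hom.left ≫ γz.hom.left = _
    rw [hρ', hγ', pullback.lift_snd])
  let ψ : vK ⟶ v0 := CostructuredArrow.homMk ψ0 (by
    show π.map ψ0 ≫ j.hom ≫ γη = vK.hom
    rw [hψ2, Category.assoc, Iso.inv_hom_id_assoc, hρ])
  -- the value on the chart
  have hsur : Function.Surjective (F.obj.mapTop i) := by
    haveI : IsClosedImmersion U.ι := IsClosedImmersion.of_isPreimmersion _ (by
      rw [Scheme.Opens.range_ι]; exact (Groth.Agent.LefConnLib.isClopen_basicOpen hidem).1)
    haveI : IsClosedImmersion (bmap (fibCat π η) i) := by rw [← hε]; infer_instance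
    haveI : IsAffine (sch (fibCat π η) vK) := isAffine_of_isAffineHom (bmap (fibCat π η) i)
    have hring : Function.Surjective (bmap (fibCat π η) i).appTop :=
      (IsClosedImmersion.isAffine_surjective_of_isAffine (bmap (fibCat π η) i)).2
    letI : Algebra Γ(sch (fibCat π η) v, ⊤) Γ(sch (fibCat π η) vK, ⊤) := (bmap (fibCat π η) i).appTop.hom.toAlgebra
    letI : Module Γ(sch (fibCat π η) v, ⊤) Γ(F.obj.obj vK, ⊤) := Module.compHom _ (bmap (fibCat π η) i).appTop.hom
    haveI : IsScalarTower Γ(sch (fibCat π η) v, ⊤) Γ(sch (fibCat π η) vK, ⊤) Γ(F.obj.obj vK, ⊤) :=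
      IsScalarTower.of_algebraMap_smul fun _ _ => rfl
    let lin : Γ(F.obj.obj v, ⊤) →ₗ[Γ(sch (fibCat π η) v, ⊤)] Γ(F.obj.obj vK, ⊤) :=
      { toFun := F.obj.mapTop i, map_add' := F.obj.mapTop_add i, map_smul' := fun r m => F.obj.mapTop_smul i r m }
    have hbc : IsBaseChange Γ(sch (fibCat π η) vK, ⊤) lin := isBaseChange_mapTop F.obj F.property.1 F.property.2 i
      (bmap (fibCat π η) i) (𝟙 _) (𝟙 _) (IsPullback.of_vert_isIso ⟨by simp⟩) rfl
      (fun r m => by rw [Scheme.Hom.id_appTop]; rfl) (fun r m => by rw [Scheme.Hom.id_appTop]; rfl) lin fun _ => rfl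
    intro y
    induction y using hbc.inductionOn with
    | zero => exact ⟨0, F.obj.mapTop_zero i⟩
    | tmul m => exact ⟨m, rfl⟩
    | smul r y hy =>
      obtain ⟨n, rfl⟩ := hy
      obtain ⟨r, rfl⟩ := hring r
      exact ⟨r • n, Mod.mapTop_smul _ _ _ _⟩
    | add y y' hy hy' =>
      obtain ⟨n, rfl⟩ := hy
      obtain ⟨n', rfl⟩ := hy'
      exact ⟨n + n', Mod.mapTop_add _ _ _ _⟩
  obtain ⟨e0, he0⟩ := hsur (F.obj.mapTop ψ f0)
  let F0 := Mod.comap (fibFst (fibFst π η) z) F.obj
  let E0 := Mod.comap (fibFst (fibFst π η) z) (O (fibCat π η))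
  have hcompat : pull (O (fibCat π η)) F.obj isCartesian_O p.left (hs F.obj v (e • e0)) =
      pull (O (fibCat π η)) F.obj isCartesian_O q.left (hs F.obj v (e • e0)) := by
    rw [pull_hs, pull_hs]
    refine congrArg (hs F.obj r.left) ?_
    rw [Mod.mapTop_smul, Mod.mapTop_smul]
    have hrel : ∀ d : r ⟶ w0, (bmap (fibCat π η) d.left).appTop e =
        eps hν r.left.left (r.left.hom ≫ l) (π.map r.hom ≫ a) := fun d => by
      refine Eq.trans (eps_map hν d.left.left (v.hom ≫ l) (π.map c ≫ a)).symm ?_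
      congr 1
      · rw [← Category.assoc]; exact congrArg (· ≫ l) (CostructuredArrow.w d.left)
      · rw [← Category.assoc, ← π.toFunctor.map_comp]
        exact congrArg (fun t => π.map t ≫ a) (CostructuredArrow.w d)
    let er : Γ(sch (fibCat π η) r.left, ⊤) := eps hν r.left.left (r.left.hom ≫ l) (π.map r.hom ≫ a)
    rw [show (bmap (fibCat π η) p.left).appTop e = er from hrel p, show (bmap (fibCat π η) q.left).appTop e = er from hrel q]
    have hider : IsIdempotentElem er := isIdempotentElem_eps hν r.left.left (r.left.hom ≫ l) (π.map r.hom ≫ a)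
    obtain ⟨rK, ir, εr, hεr⟩ := exists_obj_over r.left ((sch (fibCat π η) r.left).basicOpen er).ι
    haveI : IsOpenImmersion (bmap (fibCat π η) ir) := by rw [← hεr]; infer_instance
    have hrir : Set.range (bmap (fibCat π η) ir) = (sch (fibCat π η) r.left).basicOpen er := by
      rw [← hεr, Scheme.Hom.comp_base, TopCat.coe_comp, Set.range_comp,
        Set.range_eq_univ.2 εr.hom.surjective, Set.image_univ, Scheme.Opens.range_ι]
    refine smul_eq_of_restrict (W := fibCat π η) (x := r.left) (e := er) F.property.1 hider ir hrir ?_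
    have hlift : ∀ d : r ⟶ w0, ∃ σ : rK ⟶ vK, σ ≫ i = ir ≫ d.left := fun d => by
      have hr' : Set.range (bmap (fibCat π η) (ir ≫ d.left)) ⊆ Set.range (bmap (fibCat π η) i) := by
        rw [hri]
        rintro _ ⟨t, rfl⟩
        have h1 : bmap (fibCat π η) ir t ∈ (sch (fibCat π η) r.left).basicOpen er := hrir.le ⟨t, rfl⟩
        rw [show er = _ from (hrel d).symm, ← Scheme.preimage_basicOpen_top] at h1
        rw [bmap_comp, Scheme.Hom.comp_apply]
        exact h1
      exact ⟨TwDescLib.liftTo i (ir ≫ d.left) (IsOpenImmersion.lift (bmap (fibCat π η) i) _ hr')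
        (IsOpenImmersion.lift_fac _ _ _), TwDescLib.liftTo_fac _ _ _ _⟩
    obtain ⟨σ, hσ⟩ := hlift p
    obtain ⟨σ', hσ'⟩ := hlift q
    rw [← Mod.mapTop_comp, ← Mod.mapTop_comp, ← hσ, ← hσ', Mod.mapTop_comp, Mod.mapTop_comp, he0,
      ← Mod.mapTop_comp, ← Mod.mapTop_comp]
    congr 1
    refine huniq _ _ ?_
    show (σ.left ≫ ψ0) ≫ c0 = (σ'.left ≫ ψ0) ≫ c0
    rw [Category.assoc, Category.assoc, hψ1, ← Category.assoc, ← Category.assoc,
      show σ.left ≫ i.left = ir.left ≫ p.left.left from congrArg CommaMorphism.left hσ,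
      show σ'.left ≫ i.left = ir.left ≫ q.left.left from congrArg CommaMorphism.left hσ',
      Category.assoc, Category.assoc]
    exact congrArg (ir.left ≫ ·) ((CostructuredArrow.w p).trans (CostructuredArrow.w q).symm)
  obtain ⟨h, hh⟩ := hW.exists_hom (E := E0) (M := F0) (isCartesian_comap isCartesian_O) (isCartesian_comap F.property.1)
    (isLocQCoh_comap (f := fibFst (fibFst π η) z) F.property.2) (hs F.obj v (e • e0)) (by
      rw [pull_fibFst isCartesian_O p, pull_fibFst isCartesian_O q]; exact hcompat)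
  refine ⟨famOfHom isCartesian_O h, HomFam.ext_chart G'.property.1 hW ?_⟩
  refine hom_ext_one G'.obj ?_
  rw [zFam_app]
  show (u.hom.app v).app ⊤ ((h.app w0).app ⊤ (oneSec v)) = _
  rw [hh]
  show (u.hom.app v).app ⊤ ((hs F.obj v (e • e0)).app ⊤ (oneSec v)) = e • s v
  rw [hs_one, QCohLib.app_smul]
  refine smul_eq_of_restrict G'.property.1 hidem i hri ?_
  rw [Mod.mapTop_app, he0, ← Mod.mapTop_app, hf0, hs', hs']

end StPushLib
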