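import Groth.Agent.StPushLib.EtQc
import Groth.Agent.StPushLib.OverSp
import Groth.Agent.StPushLib.Push
import Groth.Agent.GenDescLib.Main

/-!
# Charts of the fibres of the projection from the category over an affine object
-/

set_option autoImplicit false
set_option linter.style.haveILetI false
set_option backward.isDefEq.respectTransparency false
set_option backward.isDefEq.respectTransparency.types false
set_option maxHeartbeats 800000

universe u

open CategoryTheory CategoryTheory.Limits AlgebraicGeometry AlgSp FibCat FibLib Opposite StMod GenDescLib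

noncomputable section

namespace StPushLib

variable {S : Scheme.{u}} {M : AlgSp.Sp S}

/-- A product over the sheaf which is a compact separated scheme. -/
structure CompactProd (η z : (AlgSt.ofSp M).obj) where
  /-- the product -/
  H : (AlgSt.ofSp M).obj
  /-- the first projection -/
  h1 : H ⟶ η
  /-- the second projection -/
  h2 : H ⟶ z
  lift : ∀ {y : (AlgSt.ofSp M).obj} (a : y ⟶ η) (b : y ⟶ z), ∃ θ : y ⟶ H, θ ≫ h1 = a ∧ θ ≫ h2 = b
  uniq : ∀ {y : (AlgSt.ofSp M).obj} (θ θ' : y ⟶ H), θ ≫ h1 = θ' ≫ h1 → θ ≫ h2 = θ' ≫ h2 → θ = θ'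
  sep : H.base.left.IsSeparated
  cpt : CompactSpace H.base.left

theorem exists_compactProd {η ν z : (AlgSt.ofSp M).obj} (l : η ⟶ ν) (hν : RepWith @Etale (toM ν)) (hQ : QcProd M)
    [IsAffine η.base.left] [IsAffine ν.base.left] [IsAffine z.base.left] : Nonempty (CompactProd η z) := by
  obtain ⟨D⟩ := exists_etProd hν z
  haveI : D.P.base.left.IsSeparated := D.isSeparated
  haveI : CompactSpace D.P.base.left := hQ ν z ‹_› ‹_› hν D
  let f := pullback.fst l.hom.left D.pr1.hom.left
  let g := pullback.snd l.hom.left D.pr1.hom.left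
  let H := objLeft D.P g
  let hP : H ⟶ D.P := objLeftHom D.P g
  obtain ⟨h1, e1, e1'⟩ := exists_homLeft l (hP ≫ D.pr1) f pullback.condition
  haveI : IsAffineHom g := MorphismProperty.pullback_snd (P := @IsAffineHom) _ _ inferInstance
  have hsep : H.base.left.IsSeparated := by
    refine ⟨?_⟩
    rw [show terminal.from H.base.left = g ≫ terminal.from D.P.base.left from Subsingleton.elim _ _]
    haveI : IsSeparated g := inferInstance
    infer_instance
  have hc : CompactSpace H.base.left := QuasiCompact.compactSpace_of_compactSpace g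
  refine ⟨⟨H, h1, hP ≫ D.pr2, fun {y} a b => ?_, fun {y} θ θ' t1 t2 => ?_, hsep, hc⟩⟩
  · obtain ⟨β, hβ1, hβ2⟩ := D.lift (a ≫ l) b
    have hw : a.hom.left ≫ l.hom.left = β.hom.left ≫ D.pr1.hom.left :=
      (congrArg (fun t : y ⟶ ν => t.hom.left) hβ1).symm
    obtain ⟨θ, hθ, hθ'⟩ := exists_homLeft hP β (pullback.lift a.hom.left β.hom.left hw) (pullback.lift_snd _ _ _)
    refine ⟨θ, hom_ext_left ?_, by rw [← Category.assoc, hθ, hβ2]⟩
    show θ.hom.left ≫ h1.hom.left = a.hom.left
    rw [hθ', e1', pullback.lift_fst]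
  · refine hom_ext_left (pullback.hom_ext ?_ ?_)
    · have h := congrArg (fun t : y ⟶ η => t.hom.left) t1
      change θ.hom.left ≫ h1.hom.left = θ'.hom.left ≫ h1.hom.left at h
      rw [e1'] at h
      exact h
    · have h : θ ≫ hP = θ' ≫ hP := D.uniq _ _ (by
        rw [Category.assoc, Category.assoc, ← e1, ← Category.assoc, t1, Category.assoc])
        (by rw [Category.assoc, Category.assoc, t2])
      exact congrArg (fun t : y ⟶ D.P => t.hom.left) h

variable {𝒳 : AlgSt.Cat S} [IsFibGrpd 𝒳.p] (π : 𝒳 ⥤ᵇ AlgSt.ofSp M)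

/-- An object of a fibre of the projection. -/
abbrev mkFib {η : (AlgSt.ofSp M).obj} {z x : 𝒳.obj} (a : π.obj x ⟶ η) (c : x ⟶ z) :
    (fibCat (fibFst π η) z).obj :=
  CostructuredArrow.mk (S := (fibFst π η).toFunctor) (Y := CostructuredArrow.mk (S := π.toFunctor) (Y := x) a) c

variable {π} {η : (AlgSt.ofSp M).obj} {z : 𝒳.obj} (D : CompactProd η (π.obj z))

/-- The classifying morphism of an object of the fibre. -/
def classify (w : (fibCat (fibFst π η) z).obj) : π.obj w.left.left ⟶ D.H :=
  (D.lift w.left.hom (π.map w.hom)).choose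

omit [IsFibGrpd 𝒳.p] in
theorem classify_h1 (w : (fibCat (fibFst π η) z).obj) : classify D w ≫ D.h1 = w.left.hom :=
  (D.lift w.left.hom (π.map w.hom)).choose_spec.1

omit [IsFibGrpd 𝒳.p] in
theorem classify_h2 (w : (fibCat (fibFst π η) z).obj) : classify D w ≫ D.h2 = π.map w.hom :=
  (D.lift w.left.hom (π.map w.hom)).choose_spec.2

omit [IsFibGrpd 𝒳.p] in
theorem classify_map {w' w : (fibCat (fibFst π η) z).obj} (φ : w' ⟶ w) :
    π.map φ.left.left ≫ classify D w = classify D w' := by
  refine D.uniq _ _ ?_ ?_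
  · rw [Category.assoc, classify_h1, classify_h1]
    exact CostructuredArrow.w φ.left
  · rw [Category.assoc, classify_h2, classify_h2, ← π.toFunctor.map_comp]
    exact congrArg π.map (CostructuredArrow.w φ)

theorem exists_fibHom {w' w : (fibCat (fibFst π η) z).obj} (ρ : π.obj w'.left.left ⟶ π.obj w.left.left)
    (h : ρ ≫ classify D w = classify D w') : ∃ φ : w' ⟶ w, π.map φ.left.left = ρ := by
  obtain ⟨φ, h1, h2⟩ := exists_fac_sp π w.hom w'.hom ρ (by
    rw [← classify_h2 D w, ← Category.assoc, h, classify_h2])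
  refine ⟨CostructuredArrow.homMk (CostructuredArrow.homMk φ ?_) h1, h2⟩
  show π.map φ ≫ w.left.hom = w'.left.hom
  rw [h2, ← classify_h1 D w, ← Category.assoc, h, classify_h1]

theorem fibHom_ext {w' w : (fibCat (fibFst π η) z).obj} {φ ψ : w' ⟶ w}
    (h : π.map φ.left.left = π.map ψ.left.left) : φ = ψ :=
  CostructuredArrow.hom_ext _ _ (CostructuredArrow.hom_ext _ _ (ext_sp π (x := w.left.left) (z := z) w.hom
    ((CostructuredArrow.w φ).trans (CostructuredArrow.w ψ).symm) h))

include D in
theorem exists_fibChart : ∃ (w0 r : (fibCat (fibFst π η) z).obj) (p q : r ⟶ w0),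
    IsAffine (sch (fibCat (fibFst π η) z) w0) ∧ IsAffine (sch (fibCat (fibFst π η) z) r) ∧
      Chart (fibCat (fibFst π η) z) w0 r p q := by
  haveI := D.cpt
  haveI := D.sep
  haveI : IsFibGrpd (fibCat π η).p := isFibGrpd_fibCat π η
  let 𝒰 := D.H.base.left.affineCover.finiteSubcover
  haveI : ∀ i, IsAffine (𝒰.X i) := fun i => inferInstance
  let g : (∐ 𝒰.X) ⟶ D.H.base.left := Sigma.desc 𝒰.f
  haveI : IsAffine (∐ 𝒰.X) := inferInstance
  haveI hge : Etale g := IsZariskiLocalAtSource.sigmaDesc (P := @Etale) fun i => inferInstance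
  haveI hgs : Surjective g := ⟨fun t => by
    obtain ⟨i, s, rfl⟩ := 𝒰.exists_eq t
    exact ⟨Sigma.ι 𝒰.X i s, by rw [← Scheme.Hom.comp_apply, Sigma.ι_desc]⟩⟩
  let γ := objLeftHom D.H g
  obtain ⟨x0, c0, j, hc0⟩ := exists_obj_sp π z (γ ≫ D.h2)
  let w0 := mkFib π (j.hom ≫ γ ≫ D.h1) c0
  have hk0 : classify D w0 = j.hom ≫ γ := D.uniq _ _
    ((classify_h1 D w0).trans (Category.assoc _ _ _).symm)
    ((classify_h2 D w0).trans (hc0.trans (Category.assoc _ _ _).symm))
  let γ2 := objLeftHom D.H (pullback.fst g g ≫ g)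
  obtain ⟨r1, er1, er1'⟩ := exists_homLeft γ γ2 (pullback.fst g g) rfl
  obtain ⟨r2, er2, er2'⟩ := exists_homLeft γ γ2 (pullback.snd g g) pullback.condition.symm
  obtain ⟨xr, cr, jr, hcr⟩ := exists_obj_sp π z (γ2 ≫ D.h2)
  let r := mkFib π (jr.hom ≫ γ2 ≫ D.h1) cr
  have hkr : classify D r = jr.hom ≫ γ2 := D.uniq _ _
    ((classify_h1 D r).trans (Category.assoc _ _ _).symm)
    ((classify_h2 D r).trans (hcr.trans (Category.assoc _ _ _).symm))
  obtain ⟨p, hp⟩ := exists_fibHom D (w' := r) (w := w0) (jr.hom ≫ r1 ≫ j.inv) (by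
    rw [hk0, hkr, Category.assoc, Category.assoc, Iso.inv_hom_id_assoc, er1])
  obtain ⟨q, hq⟩ := exists_fibHom D (w' := r) (w := w0) (jr.hom ≫ r2 ≫ j.inv) (by
    rw [hk0, hkr, Category.assoc, Category.assoc, Iso.inv_hom_id_assoc, er2])
  haveI : IsAffineHom g := by
    haveI : IsAffineHom (g ≫ terminal.from D.H.base.left) := inferInstance
    haveI : IsSeparated (terminal.from D.H.base.left) := inferInstance
    exact IsAffineHom.of_comp g (terminal.from D.H.base.left)
  haveI : IsAffineHom (pullback.fst g g) := MorphismProperty.pullback_fst (P := @IsAffineHom) _ _ inferInstance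
  haveI : IsAffine (pullback g g) := isAffine_of_isAffineHom (pullback.fst g g)
  haveI : IsAffine (objLeft D.H g).base.left := inferInstanceAs (IsAffine (∐ 𝒰.X))
  haveI : IsAffine (objLeft D.H (pullback.fst g g ≫ g)).base.left := inferInstanceAs (IsAffine (pullback g g))
  refine ⟨w0, r, p, q, isAffine_of_iso π j, isAffine_of_iso π jr, fibred_fibCat (f := fibFst π η) z, fun y => ?_,
    fun y a b => ?_⟩
  · let k := classify D y
    let T := (π.obj y.left.left).base.left
    let ea : sch (fibCat (fibFst π η) z) y = T := (sch_obj_eq π y.left.left).symm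
    obtain ⟨y', e, m, hm⟩ := fib_lift (f := fibFst π η) y (pullback k.hom.left g) (pullback.fst k.hom.left g ≫ eqToHom ea.symm)
    have hbm : (π.map m.left.left).hom.left = eqToHom ((sch_obj_eq π y'.left.left).trans e) ≫ pullback.fst k.hom.left g := by
      show bmap (AlgSt.ofSp M) (π.map m.left.left) = _
      rw [bmap_map_eq, show bmap 𝒳 m.left.left = bmap (fibCat (fibFst π η) z) m from rfl, hm]
      simp
    obtain ⟨ρ, hρ, -⟩ := exists_homLeft γ (π.map m.left.left ≫ k)
      (eqToHom ((sch_obj_eq π y'.left.left).trans e) ≫ pullback.snd k.hom.left g) (by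
        show _ = (π.map m.left.left).hom.left ≫ k.hom.left
        rw [hbm, Category.assoc, Category.assoc, pullback.condition]
        rfl)
    obtain ⟨φ, -⟩ := exists_fibHom D (w' := y') (w := w0) (ρ ≫ j.inv) (by
      rw [hk0, Category.assoc, Iso.inv_hom_id_assoc, hρ, classify_map])
    refine ⟨y', m, φ, ?_, ?_, ?_⟩ <;>
      (rw [hm]; infer_instance)
  · have hab : (π.map a.left.left ≫ j.hom) ≫ γ = (π.map b.left.left ≫ j.hom) ≫ γ := by
      rw [Category.assoc, Category.assoc, ← hk0, classify_map, classify_map]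
    obtain ⟨ρ, hρ, hρ'⟩ := exists_homLeft γ2 ((π.map a.left.left ≫ j.hom) ≫ γ)
      (pullback.lift (π.map a.left.left ≫ j.hom).hom.left (π.map b.left.left ≫ j.hom).hom.left
        (congrArg (fun t : π.obj y.left.left ⟶ D.H => t.hom.left) hab)) (by
      show pullback.lift _ _ _ ≫ pullback.fst g g ≫ g = _
      rw [pullback.lift_fst_assoc]
      rfl)
    have h1 : ρ ≫ r1 = π.map a.left.left ≫ j.hom := hom_ext_left (by
      show ρ.hom.left ≫ r1.hom.left = _
      rw [er1', hρ', pullback.lift_fst])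
    have h2 : ρ ≫ r2 = π.map b.left.left ≫ j.hom := hom_ext_left (by
      show ρ.hom.left ≫ r2.hom.left = _
      rw [er2', hρ', pullback.lift_snd])
    obtain ⟨e, he⟩ := exists_fibHom D (w' := y) (w := r) (ρ ≫ jr.inv) (by
      rw [hkr, Category.assoc, Iso.inv_hom_id_assoc, hρ, Category.assoc, ← hk0, classify_map])
    refine ⟨y, 𝟙 y, e, by rw [bmap_id]; infer_instance, by rw [bmap_id]; infer_instance, ?_, ?_⟩
    · rw [Category.id_comp]
      refine fibHom_ext ?_
      show π.map (e.left.left ≫ p.left.left) = _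
      rw [π.toFunctor.map_comp, he, hp, Category.assoc, Iso.inv_hom_id_assoc, reassoc_of% h1, Iso.hom_inv_id,
        Category.comp_id]
    · rw [Category.id_comp]
      refine fibHom_ext ?_
      show π.map (e.left.left ≫ q.left.left) = _
      rw [π.toFunctor.map_comp, he, hq, Category.assoc, Iso.inv_hom_id_assoc, reassoc_of% h2, Iso.hom_inv_id,
        Category.comp_id]

theorem hasCharts_fibFst {η ν : (AlgSt.ofSp M).obj} (l : η ⟶ ν) (hν : RepWith @Etale (toM ν)) (hQ : QcProd M)
    [IsAffine η.base.left] [IsAffine ν.base.left] {Mem : 𝒳.obj → Prop} (hMem : FlatSys Mem) :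
    HasCharts (fibFst π η) Mem := fun z hz => by
  haveI := hMem.aff z hz
  haveI := isAffine_base π z
  obtain ⟨D⟩ := exists_compactProd (z := π.obj z) l hν hQ
  exact exists_fibChart D

end StPushLib
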