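import Groth.Agent.StPushLib.EtProd
import Groth.Agent.StPushLib.OverSp
import Groth.Agent.GenDescLib.FibMap

/-!
# The flat system of the category over an affine object etale over the sheaf
-/

set_option autoImplicit false
set_option linter.style.haveILetI false
set_option backward.isDefEq.respectTransparency false
set_option backward.isDefEq.respectTransparency.types false
set_option maxHeartbeats 800000

universe u

open CategoryTheory CategoryTheory.Limits AlgebraicGeometry AlgSp FibCat FibLib Opposite StMod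
open TwDescLib (exists_obj_over IsFppf liftTo liftTo_fac bmap_liftTo)

noncomputable section

namespace StPushLib

variable {S : Scheme.{u}} {M : AlgSp.Sp S} {𝒳 : AlgSt.Cat S} [IsFibGrpd 𝒳.p] (π : 𝒳 ⥤ᵇ AlgSt.ofSp M)
  (ν : (AlgSt.ofSp M).obj)

theorem loc_fibCat (hν : RepWith @Etale (toM ν)) {Mem : 𝒳.obj → Prop} (hMem : FlatSys Mem)
    (y : (fibCat π ν).obj) :
    ∃ (K : Type u) (y' : K → (fibCat π ν).obj) (c : ∀ k, y' k ⟶ y) (z : K → (fibCat π ν).obj)
      (_ : ∀ k, y' k ⟶ z k), (∀ k, Mem (z k).left) ∧ IsFppf (fun k => bmap (fibCat π ν) (c k)) := by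
  obtain ⟨K, x', c, z, a, hz, hc⟩ := hMem.loc y.left
  have hex : ∀ k, ∃ (D : EtProd ν (π.obj (z k))) (ρ : π.obj (x' k) ⟶ D.P),
      ρ ≫ D.pr1 = π.map (c k) ≫ y.hom ∧ ρ ≫ D.pr2 = π.map (a k) := fun k => by
    obtain ⟨D⟩ := exists_etProd hν (π.obj (z k))
    obtain ⟨ρ, h1, h2⟩ := D.lift (π.map (c k) ≫ y.hom) (π.map (a k))
    exact ⟨D, ρ, h1, h2⟩
  choose D ρ h1 h2 using hex
  let J := Σ k, (D k).P.base.left.affineOpens
  let U : ∀ i : J, (D i.1).P.base.left.Opens := fun i => i.2.1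
  let γ : ∀ i : J, objLeft (D i.1).P (U i).ι ⟶ (D i.1).P := fun i => objLeftHom _ _
  have hpiece : ∀ i : J, ∃ (z' : 𝒳.obj) (e : z' ⟶ z i.1) (j : π.obj z' ≅ objLeft (D i.1).P (U i).ι),
      π.map e = j.hom ≫ γ i ≫ (D i.1).pr2 := fun i => exists_obj_sp π (z i.1) _
  choose z' e j hj using hpiece
  let V : ∀ i : J, (π.obj (x' i.1)).base.left.Opens := fun i => (ρ i.1).hom.left ⁻¹ᵁ U i
  have hsrc : ∀ i : J, ∃ (w : 𝒳.obj) (d : w ⟶ x' i.1) (j' : π.obj w ≅ objLeft (π.obj (x' i.1)) (V i).ι),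
      π.map d = j'.hom ≫ objLeftHom (π.obj (x' i.1)) (V i).ι := fun i => exists_obj_sp π (x' i.1) _
  choose w d j' hd using hsrc
  have hmor : ∀ i : J, ∃ φ : w i ⟶ z' i, π.map φ ≫ (j i).hom ≫ γ i = π.map (d i) ≫ ρ i.1 := fun i => by
    obtain ⟨σ, hσ, -⟩ := exists_homLeft (γ i) (objLeftHom (π.obj (x' i.1)) (V i).ι ≫ ρ i.1)
      ((ρ i.1).hom.left.resLE (U i) (V i) le_rfl) (Scheme.Hom.resLE_comp_ι _ _)
    obtain ⟨φ, -, hφ⟩ := exists_fac_sp π (e i) (d i ≫ a i.1) ((j' i).hom ≫ σ ≫ (j i).inv) (by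
      rw [hj, Category.assoc, Category.assoc, Iso.inv_hom_id_assoc, reassoc_of% hσ, h2, π.toFunctor.map_comp,
        hd, Category.assoc])
    refine ⟨φ, ?_⟩
    rw [hφ, Category.assoc, Category.assoc, Iso.inv_hom_id_assoc, hσ, hd, Category.assoc]
  choose φ hφ using hmor
  let y' : J → (fibCat π ν).obj := fun i =>
    CostructuredArrow.mk (S := π.toFunctor) (Y := w i) (π.map (d i ≫ c i.1) ≫ y.hom)
  let zz : J → (fibCat π ν).obj := fun i =>
    CostructuredArrow.mk (S := π.toFunctor) (Y := z' i) ((j i).hom ≫ γ i ≫ (D i.1).pr1)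
  refine ⟨J, y', fun i => CostructuredArrow.homMk (d i ≫ c i.1) rfl, zz, fun i => CostructuredArrow.homMk (φ i) ?_,
    fun i => ?_, ?_⟩
  · show π.map (φ i) ≫ (j i).hom ≫ γ i ≫ (D i.1).pr1 = π.map (d i ≫ c i.1) ≫ y.hom
    rw [reassoc_of% (hφ i), h1, π.toFunctor.map_comp, Category.assoc]
  · show Mem (z' i)
    haveI : IsAffine (U i).toScheme := i.2.2
    haveI : IsAffine (objLeft (D i.1).P (U i).ι).base.left := inferInstanceAs (IsAffine (U i).toScheme)
    refine hMem.down _ _ (e i) (hz i.1) ((prop_hom_left (P := @Flat) π (e i)).1 ?_) (isAffine_of_iso π (j i))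
    rw [hj]
    haveI : IsIso (j i).hom.hom.left := isIso_bmap (W := AlgSt.ofSp M) (j i).hom
    haveI := (D i.1).etale
    show Flat ((j i).hom.hom.left ≫ (U i).ι ≫ (D i.1).pr2.hom.left)
    infer_instance
  · have hop : ∀ i : J, IsOpenImmersion (bmap 𝒳 (d i)) := fun i => (prop_hom_left (P := @IsOpenImmersion) π (d i)).1 (by
      rw [hd]
      haveI : IsIso (j' i).hom.hom.left := isIso_bmap (W := AlgSt.ofSp M) (j' i).hom
      show IsOpenImmersion ((j' i).hom.hom.left ≫ (V i).ι)
      infer_instance)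
    refine ⟨fun t => ?_, fun i => ?_, fun i => ?_⟩
    · obtain ⟨k, s, hs⟩ := hc.surj t
      let s' : (π.obj (x' k)).base.left := eqToHom (sch_obj_eq π (x' k)).symm s
      obtain ⟨W0, hW0, hsW, -⟩ := exists_isAffineOpen_mem_and_subset (x := (ρ k).hom.left s') (U := ⊤) trivial
      let i : J := ⟨k, W0, hW0⟩
      let v := ((j' i).inv.hom.left) ⟨s', hsW⟩
      refine ⟨i, eqToHom (sch_obj_eq π (w i)) v, ?_⟩
      show bmap 𝒳 (d i ≫ c k) _ = t
      rw [bmap_comp, Scheme.Hom.comp_apply]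
      refine Eq.trans ?_ hs
      congr 1
      have h3 : (π.map (d i)).hom.left v = s' := by
        rw [hd]
        show (V i).ι ((j' i).hom.hom.left v) = s'
        rw [show (j' i).hom.hom.left v = (⟨s', hsW⟩ : (V i).toScheme) from by
          show ((j' i).inv ≫ (j' i).hom).hom.left ⟨s', hsW⟩ = _
          rw [Iso.inv_hom_id]; rfl]
        rfl
      have h4 := bmap_map_eq π (d i)
      have h5 : eqToHom (sch_obj_eq π (x' k)) ((π.map (d i)).hom.left v) = bmap 𝒳 (d i) (eqToHom (sch_obj_eq π (w i)) v) := by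
        rw [show (π.map (d i)).hom.left = _ from h4]
        show (((eqToHom (sch_obj_eq π (w i)) ≫ bmap 𝒳 (d i) ≫ eqToHom (sch_obj_eq π (x' k)).symm) ≫
          eqToHom (sch_obj_eq π (x' k))) v) = _
        simp only [Category.assoc, eqToHom_trans, eqToHom_refl, Category.comp_id]
        rfl
      rw [← h5, h3]
      show ((eqToHom (sch_obj_eq π (x' k)).symm) ≫ eqToHom (sch_obj_eq π (x' k))) s = s
      rw [eqToHom_trans, eqToHom_refl]
      rfl
    · show Flat (bmap 𝒳 (d i ≫ c i.1))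
      haveI := hop i
      haveI := hc.flat i.1
      rw [bmap_comp]; infer_instance
    · show LocallyOfFinitePresentation (bmap 𝒳 (d i ≫ c i.1))
      haveI := hop i
      haveI := hc.lfp i.1
      rw [bmap_comp]; infer_instance

theorem flatSys_fibCat (hν : RepWith @Etale (toM ν)) [IsAffine ν.base.left] {Mem : 𝒳.obj → Prop}
    (hMem : FlatSys Mem) : FlatSys (fun y : (fibCat π ν).obj => Mem y.left) where
  aff y hy := hMem.aff _ hy
  down y z c hz hc ha := hMem.down _ _ c.left hz hc ha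
  loc y := loc_fibCat π ν hν hMem y
  rel z₁ z₂ hz₁ hz₂ := by
    obtain ⟨R, p, q, hR, hp, hq⟩ := hMem.rel z₁.left z₂.left hz₁ hz₂
    let α : π.obj R ⟶ ν := π.map p ≫ z₁.hom
    let β : π.obj R ⟶ ν := π.map q ≫ z₂.hom
    let K := (π.obj R).base.left.basicOpen (eqIdem hν α β)
    obtain ⟨R', i, j, hi⟩ := exists_obj_sp π R (objLeftHom (π.obj R) K.ι)
    have hri : Set.range (π.map i).hom.left ⊆ K := by
      rw [hi]
      rintro _ ⟨s, rfl⟩
      exact (j.hom.hom.left s).2
    have hαβ : π.map i ≫ α = π.map i ≫ β := comp_eq_of_range hν (π.map i) α β hri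
    haveI hio : IsOpenImmersion (bmap 𝒳 i) := (prop_hom_left (P := @IsOpenImmersion) π i).1 (by
      rw [hi]
      haveI : IsIso j.hom.hom.left := isIso_bmap (W := AlgSt.ofSp M) j.hom
      show IsOpenImmersion (j.hom.hom.left ≫ K.ι)
      infer_instance)
    let Rf : (fibCat π ν).obj := CostructuredArrow.mk (S := π.toFunctor) (Y := R') (π.map i ≫ α)
    let p' : Rf ⟶ z₁ := CostructuredArrow.homMk (i ≫ p) (by
      show π.map (i ≫ p) ≫ z₁.hom = π.map i ≫ α
      rw [π.toFunctor.map_comp, Category.assoc])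
    let q' : Rf ⟶ z₂ := CostructuredArrow.homMk (i ≫ q) (by
      show π.map (i ≫ q) ≫ z₂.hom = π.map i ≫ α
      rw [hαβ, π.toFunctor.map_comp, Category.assoc])
    refine ⟨Rf, p', q', fun y a b => ?_, ?_, ?_⟩
    · obtain ⟨y0, c, e, hc, hs, he1, he2, hu⟩ := hR y.left a.left b.left
      have hα : π.map e ≫ α = π.map c ≫ y.hom := by
        rw [show π.map e ≫ α = π.map (e ≫ p) ≫ z₁.hom by rw [π.toFunctor.map_comp, Category.assoc], he1,
          π.toFunctor.map_comp, Category.assoc]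
        exact congrArg (π.map c ≫ ·) (CostructuredArrow.w a)
      have hβ : π.map e ≫ β = π.map c ≫ y.hom := by
        rw [show π.map e ≫ β = π.map (e ≫ q) ≫ z₂.hom by rw [π.toFunctor.map_comp, Category.assoc], he2,
          π.toFunctor.map_comp, Category.assoc]
        exact congrArg (π.map c ≫ ·) (CostructuredArrow.w b)
      have hre : Set.range (π.map e).hom.left ⊆ Set.range K.ι := by
        rintro _ ⟨t, rfl⟩
        rw [Scheme.Opens.range_ι]
        have h1 : eqIdem hν (π.map e ≫ α) (π.map e ≫ β) = 1 := by rw [hα, hβ, eqIdem_self]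
        rw [eqIdem_comp] at h1
        show t ∈ (π.map e).hom.left ⁻¹ᵁ (π.obj R).base.left.basicOpen (eqIdem hν α β)
        rw [Scheme.preimage_basicOpen_top]
        erw [h1]
        rw [Scheme.basicOpen_of_isUnit _ isUnit_one]
        trivial
      obtain ⟨σ, hσ, -⟩ := exists_homLeft (objLeftHom (π.obj R) K.ι) (π.map e)
        (IsOpenImmersion.lift K.ι (π.map e).hom.left hre) (IsOpenImmersion.lift_fac _ _ _)
      obtain ⟨e', he', -⟩ := exists_fac_sp π i e (σ ≫ j.inv) (by
        rw [hi, Category.assoc, Iso.inv_hom_id_assoc, hσ])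
      let y' : (fibCat π ν).obj := CostructuredArrow.mk (S := π.toFunctor) (Y := y0) (π.map c ≫ y.hom)
      let cf : y' ⟶ y := CostructuredArrow.homMk c rfl
      let ef : y' ⟶ Rf := CostructuredArrow.homMk e' (by
        show π.map e' ≫ π.map i ≫ α = π.map c ≫ y.hom
        rw [← π.toFunctor.map_comp_assoc, he', hα])
      refine ⟨y', cf, ef, hc, hs, CostructuredArrow.hom_ext _ _ ?_, CostructuredArrow.hom_ext _ _ ?_,
        fun y'' dd ee h3 h4 => ?_⟩
      · show e' ≫ i ≫ p = c ≫ a.left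
        rw [reassoc_of% he', he1]
      · show e' ≫ i ≫ q = c ≫ b.left
        rw [reassoc_of% he', he2]
      · obtain ⟨θ, ⟨t1, t2⟩, hθ⟩ := hu y''.left dd.left (ee.left ≫ i)
          ((Category.assoc _ _ _).trans (congrArg CommaMorphism.left h3))
          ((Category.assoc _ _ _).trans (congrArg CommaMorphism.left h4))
        refine ⟨CostructuredArrow.homMk θ (by
            show π.map θ ≫ π.map c ≫ y.hom = y''.hom
            rw [← π.toFunctor.map_comp_assoc, t1]
            exact CostructuredArrow.w dd),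
          ⟨CostructuredArrow.hom_ext _ _ t1, CostructuredArrow.hom_ext _ _ ?_⟩, ?_⟩
        · show θ ≫ e' = ee.left
          refine TwDescLib.hom_ext_base (g := i) ?_ (by rw [Category.assoc, he', t2])
          have h5 : bmap 𝒳 (θ ≫ e') ≫ bmap 𝒳 i = bmap 𝒳 ee.left ≫ bmap 𝒳 i := by
            rw [← bmap_comp, ← bmap_comp, Category.assoc, he', t2]
          exact (cancel_mono _).1 h5
        · rintro θ' ⟨u1, u2⟩
          refine CostructuredArrow.hom_ext _ _ (hθ _ ⟨congrArg CommaMorphism.left u1, ?_⟩)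
          rw [← he', ← Category.assoc]
          exact congrArg (fun t : y'' ⟶ Rf => t.left ≫ i) u2
    · show Flat (bmap 𝒳 (i ≫ p))
      rw [bmap_comp]; infer_instance
    · show Flat (bmap 𝒳 (i ≫ q))
      rw [bmap_comp]; infer_instance

end StPushLib
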