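import Groth.Agent.StPushLib.FlatSys
import Groth.Agent.GenDescLib.Kill
import Groth.Agent.CohAffLib.Desc

/-!
# Surjectivity of morphisms of quasi-coherent modules is local
-/

set_option autoImplicit false
set_option linter.style.haveILetI false
set_option backward.isDefEq.respectTransparency false
set_option backward.isDefEq.respectTransparency.types false
set_option maxHeartbeats 800000

universe u

open CategoryTheory CategoryTheory.Limits AlgebraicGeometry AlgSp FibCat FibLib Opposite StMod GenDescLib TensorProduct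
open TwDescLib (IsFppf)

noncomputable section

namespace StPushLib

variable {S : Scheme.{u}} {W : AlgSt.Cat S} {F G : QCoh W} (a : F ⟶ G)

/-- Surjectivity on sections passes to affine objects over a surjective one. -/
theorem surjective_app_of_hom {x' x : W.obj} (k : x' ⟶ x) [IsAffine (sch W x')] [IsAffine (sch W x)]
    (h : Function.Surjective ((a.hom.app x).app ⊤)) : Function.Surjective ((a.hom.app x').app ⊤) := by
  letI : Algebra Γ(sch W x, ⊤) Γ(sch W x', ⊤) := (bmap W k).appTop.hom.toAlgebra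
  letI : Module Γ(sch W x, ⊤) Γ(G.obj.obj x', ⊤) := Module.compHom _ (bmap W k).appTop.hom
  haveI : IsScalarTower Γ(sch W x, ⊤) Γ(sch W x', ⊤) Γ(G.obj.obj x', ⊤) :=
    IsScalarTower.of_algebraMap_smul fun _ _ => rfl
  let ψ : Γ(G.obj.obj x, ⊤) →ₗ[Γ(sch W x, ⊤)] Γ(G.obj.obj x', ⊤) :=
    { toFun := G.obj.mapTop k
      map_add' := G.obj.mapTop_add k
      map_smul' := fun r m => G.obj.mapTop_smul k r m }
  have hψ : IsBaseChange Γ(sch W x', ⊤) ψ :=
    isBaseChange_mapTop G.obj G.property.1 G.property.2 k (bmap W k) (𝟙 _) (𝟙 _)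
      (IsPullback.of_vert_isIso ⟨by simp⟩) rfl (fun r m => by rw [Scheme.Hom.id_appTop]; rfl)
      (fun r m => by rw [Scheme.Hom.id_appTop]; rfl) ψ fun _ => rfl
  intro y
  induction y using hψ.inductionOn with
  | zero => exact ⟨0, map_zero _⟩
  | tmul m =>
    obtain ⟨n, rfl⟩ := h m
    exact ⟨F.obj.mapTop k n, (Mod.mapTop_app a.hom k n).symm⟩
  | smul s y hy =>
    obtain ⟨n, rfl⟩ := hy
    exact ⟨s • n, QCohLib.app_smul _ ⊤ s n⟩
  | add y y' hy hy' =>
    obtain ⟨n, rfl⟩ := hy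
    obtain ⟨n', rfl⟩ := hy'
    exact ⟨n + n', map_add _ _ _⟩

variable [IsFibGrpd W.p]

/-- Surjectivity on the members gives surjectivity. -/
theorem isSurj_of_members {Mem : W.obj → Prop} (hMem : FlatSys Mem)
    (h : ∀ z, Mem z → Function.Surjective ((a.hom.app z).app ⊤)) : Mod.IsSurj a.hom := fun x hx => by
  obtain ⟨K, y', c, z, e, hz, hc⟩ := hMem.loc x
  choose J w j I hw hj hcov hb using fun k => exists_cut (c k)
  let κ := Σ k, J k
  let x' : κ → W.obj := fun i => w i.1 i.2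
  let d : ∀ i : κ, x' i ⟶ x := fun i => j i.1 i.2 ≫ c i.1
  haveI : ∀ i, IsAffine (sch W (x' i)) := fun i => hw i.1 i.2
  have hfl : ∀ i, Flat (bmap W (d i)) := fun i => by
    haveI := hj i.1 i.2
    haveI := hc.flat i.1
    rw [bmap_comp]; infer_instance
  have hsur : ∀ i, Function.Surjective ((a.hom.app (x' i)).app ⊤) := fun i => by
    haveI := hMem.aff _ (hz i.1)
    exact surjective_app_of_hom a (j i.1 i.2 ≫ e i.1) (h _ (hz i.1))
  intro y
  let A := Γ(sch W x, ⊤)
  letI : ∀ i, Algebra A Γ(sch W (x' i), ⊤) := fun i => (bmap W (d i)).appTop.hom.toAlgebra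
  haveI : ∀ i, Module.Flat A Γ(sch W (x' i), ⊤) := fun i => by
    have h1 : (bmap W (d i)).appTop.hom.Flat := HasRingHomProperty.appTop (P := @Flat) _ (hfl i)
    exact h1
  let aA : Γ(F.obj.obj x, ⊤) →ₗ[A] Γ(G.obj.obj x, ⊤) :=
    { toFun := fun v => (a.hom.app x).app ⊤ v
      map_add' := fun v v' => map_add _ v v'
      map_smul' := fun r v => QCohLib.app_smul (a.hom.app x) ⊤ r v }
  suffices H : y ∈ LinearMap.range aA from H
  rw [← Submodule.Quotient.mk_eq_zero]
  refine CohAffLib.eq_zero_of_tmul_family (fun i : κ => Γ(sch W (x' i), ⊤))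
    (CohAffLib.exists_prime_of_surj (fun i => bmap W (d i)) fun t => ?_) _ fun i => ?_
  · obtain ⟨k, s, hs⟩ := hc.surj t
    obtain ⟨l, v, rfl⟩ := hcov k s
    exact ⟨⟨k, l⟩, v, by rw [bmap_comp]; exact hs⟩
  · let A' := Γ(sch W (x' i), ⊤)
    letI : Module A Γ(G.obj.obj (x' i), ⊤) := Module.compHom _ (bmap W (d i)).appTop.hom
    haveI : IsScalarTower A A' Γ(G.obj.obj (x' i), ⊤) := IsScalarTower.of_algebraMap_smul fun _ _ => rfl
    letI : Module A Γ(F.obj.obj (x' i), ⊤) := Module.compHom _ (bmap W (d i)).appTop.hom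
    haveI : IsScalarTower A A' Γ(F.obj.obj (x' i), ⊤) := IsScalarTower.of_algebraMap_smul fun _ _ => rfl
    let kG : Γ(G.obj.obj x, ⊤) →ₗ[A] Γ(G.obj.obj (x' i), ⊤) :=
      { toFun := G.obj.mapTop (d i), map_add' := G.obj.mapTop_add _, map_smul' := fun r m => G.obj.mapTop_smul _ r m }
    let kF : Γ(F.obj.obj x, ⊤) →ₗ[A] Γ(F.obj.obj (x' i), ⊤) :=
      { toFun := F.obj.mapTop (d i), map_add' := F.obj.mapTop_add _, map_smul' := fun r m => F.obj.mapTop_smul _ r m }
    have hkG : IsBaseChange A' kG := isBaseChange_mapTop G.obj G.property.1 G.property.2 (d i) (bmap W (d i)) (𝟙 _)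
      (𝟙 _) (IsPullback.of_vert_isIso ⟨by simp⟩) rfl (fun r m => by rw [Scheme.Hom.id_appTop]; rfl)
      (fun r m => by rw [Scheme.Hom.id_appTop]; rfl) kG fun _ => rfl
    have hkF : IsBaseChange A' kF := isBaseChange_mapTop F.obj F.property.1 F.property.2 (d i) (bmap W (d i)) (𝟙 _)
      (𝟙 _) (IsPullback.of_vert_isIso ⟨by simp⟩) rfl (fun r m => by rw [Scheme.Hom.id_appTop]; rfl)
      (fun r m => by rw [Scheme.Hom.id_appTop]; rfl) kF fun _ => rfl
    let Ψ : Γ(G.obj.obj (x' i), ⊤) →ₗ[A'] A' ⊗[A] (Γ(G.obj.obj x, ⊤) ⧸ LinearMap.range aA) :=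
      ((LinearMap.range aA).mkQ.baseChange A') ∘ₗ hkG.equiv.symm.toLinearMap
    have hΨ : ∀ m, Ψ (kG m) = (1 : A') ⊗ₜ[A] (LinearMap.range aA).mkQ m := fun m => by
      show ((LinearMap.range aA).mkQ.baseChange A') (hkG.equiv.symm (kG m)) = _
      rw [hkG.equiv_symm_apply, LinearMap.baseChange_tmul]
    obtain ⟨v, hv⟩ := hsur i (kG y)
    have key : ∀ v, Ψ ((a.hom.app (x' i)).app ⊤ v) = 0 := fun v => by
      induction v using hkF.inductionOn with
      | zero => rw [map_zero]; exact map_zero _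
      | tmul m =>
        rw [show (a.hom.app (x' i)).app ⊤ (kF m) = kG (aA m) from (Mod.mapTop_app a.hom (d i) m).symm, hΨ,
          show (LinearMap.range aA).mkQ (aA m) = 0 from (Submodule.Quotient.mk_eq_zero _).2 ⟨m, rfl⟩, tmul_zero]
      | smul s v hv => rw [QCohLib.app_smul]; exact (Ψ.map_smul s _).trans (by rw [hv, smul_zero])
      | add v v' hv hv' => rw [map_add]; exact (map_add Ψ _ _).trans (by rw [hv, hv', add_zero])
    have h2 := key v
    rw [hv, hΨ] at h2
    exact h2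

end StPushLib
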