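import Groth.Agent.StPushLib.System
import Groth.Agent.StPushLib.SurjLoc
import Groth.Agent.StPushLib.GenSource
import Groth.Agent.StPushLib.FibChart
import Groth.Agent.StPushLib.SubSys
import Groth.Agent.StPushLib.ExtZero

/-!
# Exactness of sections over an affine object mapping to an affine object etale over the sheaf
-/

set_option autoImplicit false
set_option linter.style.haveILetI false
set_option backward.isDefEq.respectTransparency false
set_option backward.isDefEq.respectTransparency.types false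
set_option maxHeartbeats 800000

universe u

open CategoryTheory CategoryTheory.Limits AlgebraicGeometry AlgSp FibCat FibLib Opposite StMod GenDescLib TensorProduct
open CohAffLib (hs hs_one oneSec hom_ext_one pull_hs mapTop_oneSec mapTop_comapFst ofFamily)
open TwDescLib (tot totMap vert ci castObjIso_rfl indIncl indHom)

noncomputable section

namespace StPushLib

variable {S : Scheme.{u}}

section img

variable {V W : AlgSt.Cat S} {q : V ⥤ᵇ W} {Mem : W.obj → Prop}

/-- Restriction as an additive map. -/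
def resFamHom {E : Mod V} {hE : E.IsCartesian} {N : Mod V} {z' z : W.obj} (l : z' ⟶ z) :
    HomFam q E hE N z →+ HomFam q E hE N z' :=
  AddMonoidHom.mk' (resFam l) (resFam_add l)

/-- The system of all families. -/
def famSys (q : V ⥤ᵇ W) (Mem : W.obj → Prop) (N : Mod V) : ModSys Mem where
  N z := HomFam q (O V) isCartesian_O N (memObj z)
  grp _ := inferInstance
  mod _ := inferInstance
  rs l := resFamHom l

/-- A pushforward as a module of the system. -/
def Push.toSysMod {N : Mod V} (P : Push q Mem (O V) isCartesian_O N) : SysMod (famSys q Mem N) :=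
  ⟨P.G, P.ι, P.smul, P.res⟩

variable {F G : Mod V} (u : F ⟶ G)

/-- The map of families as a linear map. -/
def mapFamLin (z : W.obj) : HomFam q (O V) isCartesian_O F z →ₗ[Γ(sch W z, ⊤)] HomFam q (O V) isCartesian_O G z :=
  { toFun := mapFam u, map_add' := mapFam_add u, map_smul' := mapFam_smul u }

/-- The system of images of families. -/
def imgSys (q : V ⥤ᵇ W) (Mem : W.obj → Prop) {F G : Mod V} (u : F ⟶ G) : ModSys Mem where
  N z := ↥(LinearMap.range (mapFamLin (q := q) u (memObj z)))
  grp _ := inferInstance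
  mod _ := inferInstance
  rs {z' z} l := AddMonoidHom.mk' (fun t => ⟨resFam l t.1, by
      obtain ⟨s, hs⟩ := t.2
      exact ⟨resFam l s, (resFam_mapFam l u s).symm.trans (congrArg (resFam l) hs)⟩⟩)
    fun t t' => Subtype.ext (resFam_add l t.1 t'.1)

variable [IsFibGrpd V.p] [IsFibGrpd W.p]

theorem imgSys_good (hMem : FlatSys Mem) (hch : HasCharts q Mem) (hOfp : (O V).IsFinPres) (hF : StMod.isQCoh V F)
    (hG : StMod.isQCoh V G) : (imgSys q Mem u).Good where
  small z := by
    obtain ⟨w0, r, p, q', -, -, hW⟩ := hch _ z.2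
    haveI hS : Small.{u} (HomFam q (O V) isCartesian_O G (memObj z)) := small_homFam (E := O V) (hE := isCartesian_O) hG.1 hW
    exact small_of_injective (β := HomFam q (O V) isCartesian_O G (memObj z)) (f := fun t : (imgSys q Mem u).N z => t.1) fun _ _ h => Subtype.ext h
  rs_smul l a t := Subtype.ext (resFam_smul l a t.1)
  rs_id z t := Subtype.ext (resFam_id t.1)
  rs_comp l' l t := Subtype.ext (resFam_comp l l' t.1)
  flat := by
    intro z' z l hl _ _ _ halg β hβ
    obtain ⟨w0, r, p, q', hw0, hr, hW⟩ := hch (memObj z) z.2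
    haveI := hw0; haveI := hr; haveI := hl
    haveI : IsAffine (sch W (memObj z)) := hMem.aff _ z.2
    haveI : IsAffine (sch W (memObj z')) := hMem.aff _ z'.2
    let A := Γ(sch W (memObj z), ⊤)
    let A' := Γ(sch W (memObj z'), ⊤)
    haveI : Module.Flat A A' := by
      have h1 : (bmap W l).appTop.hom.Flat := HasRingHomProperty.appTop (P := @Flat) _ hl
      rw [RingHom.Flat] at h1
      have e : ((bmap W l).appTop.hom.toAlgebra : Algebra A A') = ‹Algebra A A'› := Algebra.algebra_ext _ _ fun r => (congrArg (fun t => t r) halg).symm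
      exact e ▸ h1
    letI : Module A (HomFam q (O V) isCartesian_O G (memObj z')) := Module.compHom _ (algebraMap A A')
    haveI : IsScalarTower A A' (HomFam q (O V) isCartesian_O G (memObj z')) :=
      IsScalarTower.of_algebraMap_smul fun _ _ => rfl
    letI : Module A (HomFam q (O V) isCartesian_O F (memObj z')) := Module.compHom _ (algebraMap A A')
    haveI : IsScalarTower A A' (HomFam q (O V) isCartesian_O F (memObj z')) :=
      IsScalarTower.of_algebraMap_smul fun _ _ => rfl
    have hsm : ∀ (N : Mod V) (a : A) (t : HomFam q (O V) isCartesian_O N (memObj z)),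
        resFam l (a • t) = algebraMap A A' a • resFam l t := fun N a t => by
      rw [resFam_smul, halg]
    let βG : HomFam q (O V) isCartesian_O G (memObj z) →ₗ[A] HomFam q (O V) isCartesian_O G (memObj z') :=
      { toFun := resFam l, map_add' := resFam_add l, map_smul' := hsm G }
    let βF : HomFam q (O V) isCartesian_O F (memObj z) →ₗ[A] HomFam q (O V) isCartesian_O F (memObj z') :=
      { toFun := resFam l, map_add' := resFam_add l, map_smul' := hsm F }
    have hbG := bijective_resFam (M := G) isCartesian_O isLocQCoh_O hG.1 hG.2 l hW (hOfp w0.left) halg βG fun _ => rfl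
    have hbF := bijective_resFam (M := F) isCartesian_O isLocQCoh_O hF.1 hF.2 l hW (hOfp w0.left) halg βF fun _ => rfl
    let R := LinearMap.range (mapFamLin (q := q) u (memObj z))
    have hincl : ∀ x : A' ⊗[A] (imgSys q Mem u).N z,
        (β.liftBaseChange A' x).1 = βG.liftBaseChange A' (R.subtype.lTensor A' x) := fun x => by
      induction x using TensorProduct.induction_on with
      | zero => simp
      | tmul a t =>
        rw [LinearMap.liftBaseChange_tmul, LinearMap.lTensor_tmul, LinearMap.liftBaseChange_tmul]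
        show a • (β t).1 = a • resFam l t.1
        rw [hβ]; rfl
      | add x y hx hy => rw [map_add, map_add, map_add, ← hx, ← hy]; rfl
    constructor
    · intro x y h
      refine Module.Flat.lTensor_preserves_injective_linearMap R.subtype Subtype.val_injective (hbG.1 ?_)
      rw [← hincl, ← hincl, h]
    · intro t
      obtain ⟨s, hs⟩ := t.2
      obtain ⟨x, rfl⟩ := hbF.2 s
      have key : ∀ x : A' ⊗[A] HomFam q (O V) isCartesian_O F (memObj z),
          ∃ y, (β.liftBaseChange A' y).1 = mapFam u (βF.liftBaseChange A' x) := fun x => by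
        induction x using TensorProduct.induction_on with
        | zero => exact ⟨0, by simp only [map_zero]; exact ((mapFamLin u (memObj z')).map_zero).symm⟩
        | tmul a t =>
          refine ⟨a ⊗ₜ ⟨mapFam u t, t, rfl⟩, ?_⟩
          rw [LinearMap.liftBaseChange_tmul, LinearMap.liftBaseChange_tmul, hβ]
          show a • resFam l (mapFam u t) = mapFam u (a • resFam l t)
          rw [mapFam_smul, resFam_mapFam]
        | add x y hx hy =>
          obtain ⟨x', hx'⟩ := hx
          obtain ⟨y', hy'⟩ := hy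
          exact ⟨x' + y', by rw [map_add, map_add, mapFam_add, ← hx', ← hy']; rfl⟩
      obtain ⟨y, hy⟩ := key x
      exact ⟨y, Subtype.ext (hy.trans hs)⟩

end img

variable {M : AlgSp.Sp S} {𝒳 : AlgSt.Cat S} [IsFibGrpd 𝒳.p] {π : 𝒳 ⥤ᵇ AlgSt.ofSp M}

/-- A section over an affine object mapping to an affine object etale over the sheaf lifts. -/
theorem exists_lift_section (h : StMod.IsCohAffine π) {Mem : 𝒳.obj → Prop} (hMem : FlatSys Mem) (hQ : QcProd M)
    (E : EtOver M) (hE : IsAffine E.obj.left.left) {η : (AlgSt.ofSp M).obj} [IsAffine η.base.left]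
    (l : η ⟶ etaOf E) (hOfp : (O (fibCat π η)).IsFinPres) {F G : QCoh (fibCat π η)} (u : F ⟶ G)
    (hu : Mod.IsSurj u.hom) (s : ∀ v, Γ(G.obj.obj v, ⊤)) (hs' : ∀ {v' v} (φ : v' ⟶ v), G.obj.mapTop φ (s v) = s v') :
    ∃ t : ∀ v, Γ(F.obj.obj v, ⊤), (∀ {v' v} (φ : v' ⟶ v), F.obj.mapTop φ (t v) = t v') ∧
      ∀ v, (u.hom.app v).app ⊤ (t v) = s v := by
  haveI hB : IsFibGrpd (AlgSt.ofSp M).p := Stk.isFibGrpd_ofPsh _
  haveI : IsFibGrpd (fibCat π η).p := isFibGrpd_fibCat π η
  let ν : (AlgSt.ofSp M).obj := etaOf E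
  haveI : IsFibGrpd (fibCat π ν).p := isFibGrpd_fibCat π ν
  haveI : IsAffine ν.base.left := hE
  have hν : RepWith @Etale (toM ν) := by rw [toM_etaOf]; exact E.property
  have hch : HasCharts (fibFst π η) Mem := hasCharts_fibFst l hν hQ hMem
  have haff : ∀ z : {z // Mem z}, IsAffine (sch 𝒳 (memObj z)) := fun z => hMem.aff _ z.2
  obtain ⟨PF⟩ := exists_push (E := O (fibCat π η)) (hE := isCartesian_O) hMem hch isLocQCoh_O hOfp F.property
  obtain ⟨PI⟩ := exists_sysMod hMem (imgSys_good u.hom hMem hch hOfp F.property G.property)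
  obtain ⟨a, ha⟩ := PF.toSysMod.exists_map hMem PI
    (fun z => AddMonoidHom.mk' (fun t => ⟨mapFam u.hom t, t, rfl⟩) fun t t' => Subtype.ext (mapFam_add u.hom t t'))
    (fun z r t => Subtype.ext (mapFam_smul u.hom r t)) (fun l t => Subtype.ext (resFam_mapFam l u.hom t))
  have hsurj : Mod.IsSurj a.hom := isSurj_of_members a hMem fun z hz y => by
    obtain ⟨t, rfl⟩ := (PI.ι ⟨z, hz⟩).surjective y
    obtain ⟨t0, ht0⟩ := t.2
    exact ⟨PF.ι ⟨z, hz⟩ t0, (ha ⟨z, hz⟩ t0).trans (congrArg (PI.ι ⟨z, hz⟩) (Subtype.ext ht0))⟩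
  -- the section of the images
  let Mem' : (fibCat π ν).obj → Prop := fun y => Mem y.left
  have hMem' : FlatSys Mem' := flatSys_fibCat π ν hν hMem
  have hval : ∀ y : {y // Mem' y}, ∃ t : HomFam (fibFst π η) (O (fibCat π η)) isCartesian_O F.obj y.1.left,
      mapFam u.hom t = zFam hν l s hs' y.1.hom := fun y => by
    haveI : IsAffine (sch 𝒳 y.1.left) := hMem.aff _ y.2
    obtain ⟨w0, r, p, q, hw0, -, hW⟩ := hch _ y.2
    haveI := hw0
    exact exists_zFam_lift hν l y.1.hom u hu s hs' hW
  let σ0 : ∀ y : {y // Mem' y}, Γ(PI.G.obj.obj y.1.left, ⊤) := fun y =>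
    PI.ι ⟨y.1.left, y.2⟩ ⟨zFam hν l s hs' y.1.hom, hval y⟩
  let GI := Mod.comap (fibFst π ν) PI.G.obj
  have hσ0 : ∀ {y' y : {y // Mem' y}} (k : memObj y' ⟶ memObj y), GI.mapTop k (σ0 y) = σ0 y' := fun {y' y} k => by
    refine (mapTop_comapFst (π := π) ν PI.G.obj k (σ0 y)).trans ?_
    refine (PI.res ⟨y'.1.left, y'.2⟩ ⟨y.1.left, y.2⟩ k.left _).trans (congrArg (PI.ι _) (Subtype.ext ?_))
    show resFam k.left (zFam hν l s hs' y.1.hom) = _
    rw [resFam_zFam]
    exact congrArg (zFam hν l s hs') (CostructuredArrow.w k)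
  let Ψ : Mod.comap (indIncl (memObj (Mem := Mem'))) (O (fibCat π ν)) ⟶ Mod.comap (indIncl (memObj (Mem := Mem'))) GI :=
    ⟨fun y => hs GI (memObj y) (σ0 y), fun {y' y} φ g hg => by
      subst hg
      obtain ⟨k⟩ := φ
      have h1 : ∀ N : Mod (fibCat π ν), (Mod.comap (indIncl (memObj (Mem := Mem'))) N).map
          (indHom (f := memObj) (w' := y') (w := y) k) rfl = N.map k rfl := fun N => by
        rw [Mod.comap_map]; exact castMap_rfl_self _ _
      refine (congrArg (· ≫ _) (h1 (O (fibCat π ν)))).trans (Eq.trans ?_ (congrArg (hs GI (memObj y) (σ0 y) ≫ ·) (h1 GI)).symm)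
      refine (eq_pull_iff (O (fibCat π ν)) GI isCartesian_O k _ _).1 ?_
      rw [pull_hs, hσ0 k]⟩
  obtain ⟨σh, hσh⟩ := exists_hom hMem'.relSys isCartesian_O ((comapQ (fibFst π ν)).obj PI.G).property Ψ
  let σ : Mod.RelSect π PI.G.obj ν := ofFamily (π := π) (η := ν) (F := PI.G.obj)
    (fun y => (σh.app y).app ⊤ (oneSec y))
    fun φ => (Mod.mapTop_app σh φ _).trans (congrArg _ (mapTop_oneSec φ))
  have hσ : ∀ y : {y // Mem' y}, σ.1 y.1.left y.1.hom = σ0 y := fun y => by
    show (σh.app (memObj y)).app ⊤ (oneSec (memObj y)) = σ0 y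
    rw [hσh y]
    exact hs_one GI (memObj y) (σ0 y)
  obtain ⟨τ, hτ⟩ := h a hsurj E hE σ
  -- evaluation
  obtain ⟨ψ, hψ⟩ := exists_adjoint PF.G.property.1 PF hMem (𝟙 PF.G.obj) F.property
  have hev : ∀ (v : (fibCat π η).obj) (z : {z // Mem z}) (c : v.left ⟶ memObj z) (t : HomFam (fibFst π η) (O (fibCat π η)) isCartesian_O F.obj (memObj z)),
      (ψ.app v).app ⊤ (PF.G.obj.mapTop c (PF.ι z t)) = (t.1 v c).app ⊤ (oneSec v) := fun v z c t => by
    have e0 := hψ v z c
    rw [Sat, Mod.id_app, TwDescLib.vert_id, Category.comp_id] at e0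
    have e1 : cA (π := fibFst π η) PF.G.obj v c = totMap PF.G.obj c := by
      rw [cA, show ci (fibFst π η) PF.G.obj v = Iso.refl _ from castObjIso_rfl _]
      exact Category.id_comp _
    rw [e1] at e0
    have e2 := TwDescLib.app_congr e0 ⊤ (PF.ι z t)
    refine Eq.trans ?_ (evA_app PF hMem z v c t)
    refine Eq.trans ?_ e2
    exact (congr($((F.obj.obj v).presheaf.map_id _) _)).symm
  let w : ∀ v : (fibCat π η).obj, Γ(PF.G.obj.obj v.left, ⊤) := fun v => τ.1 v.left (v.hom ≫ l)
  let t : ∀ v, Γ(F.obj.obj v, ⊤) := fun v => (ψ.app v).app ⊤ (w v)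
  have hw : ∀ {v' v : (fibCat π η).obj} (φ : v' ⟶ v), PF.G.obj.mapTop φ.left (w v) = w v' := fun {v' v} φ => by
    refine (τ.2 φ.left (v.hom ≫ l)).trans (congrArg (τ.1 v'.left) ?_)
    rw [← Category.assoc]
    exact congrArg (· ≫ l) (CostructuredArrow.w φ)
  have ht : ∀ {v' v : (fibCat π η).obj} (φ : v' ⟶ v), F.obj.mapTop φ (t v) = t v' := fun {v' v} φ => by
    refine (Mod.mapTop_app ψ φ (w v)).trans (congrArg _ ?_)
    exact (mapTop_comapFst (π := π) η PF.G.obj φ (w v)).trans (hw φ)
  refine ⟨t, ht, fun v => ?_⟩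
  obtain ⟨K, y', c, zz, cc, hz, hc⟩ := hMem'.loc ((fibMap π l).obj v)
  let v' : K → (fibCat π η).obj := fun k =>
    CostructuredArrow.mk (S := π.toFunctor) (Y := (y' k).left) (π.map (c k).left ≫ v.hom)
  let d : ∀ k, v' k ⟶ v := fun k => CostructuredArrow.homMk (c k).left rfl
  have key : hs G.obj v ((u.hom.app v).app ⊤ (t v)) = hs G.obj v (s v) := by
    refine eq_of_pull isCartesian_O d (fun k => hc.flat k) hc.surj G.property.1 fun k => ?_
    show pull (O (fibCat π η)) G.obj isCartesian_O (d k) _ = pull (O (fibCat π η)) G.obj isCartesian_O (d k) _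
    rw [pull_hs, pull_hs]
    refine congrArg (hs G.obj (v' k)) ?_
    rw [Mod.mapTop_app, ht, hs']
    let z : {z // Mem z} := ⟨(zz k).left, hz k⟩
    obtain ⟨tF, htF⟩ : ∃ tF, PF.ι z tF = τ.1 (zz k).left (zz k).hom := (PF.ι z).surjective _
    have h1 : (a.hom.app (zz k).left).app ⊤ (τ.1 (zz k).left (zz k).hom) = σ0 ⟨zz k, hz k⟩ :=
      (congrArg (fun σ' : Mod.RelSect π PI.G.obj ν => σ'.1 (zz k).left (zz k).hom) hτ).trans (hσ ⟨zz k, hz k⟩)
    rw [← htF] at h1
    have h2 := congrArg Subtype.val ((PI.ι z).injective ((ha z tF).symm.trans h1))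
    change mapFam u.hom tF = zFam hν l s hs' (zz k).hom at h2
    have hβ : π.map (cc k).left ≫ (zz k).hom = (v' k).hom ≫ l := by
      refine (CostructuredArrow.w (cc k)).trans ((CostructuredArrow.w (c k)).symm.trans ?_)
      exact (Category.assoc _ _ _).symm
    have hwk : w (v' k) = PF.G.obj.mapTop (cc k).left (PF.ι z tF) := by
      refine ((congrArg (PF.G.obj.mapTop (cc k).left) htF).trans ((τ.2 (cc k).left (zz k).hom).trans ?_)).symm
      exact congrArg (τ.1 (y' k).left) hβ
    show (u.hom.app (v' k)).app ⊤ ((ψ.app (v' k)).app ⊤ (w (v' k))) = s (v' k)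
    rw [hwk]
    erw [hev (v' k) z (cc k).left tF]
    have h3 := congrArg (fun T : HomFam (fibFst π η) (O (fibCat π η)) isCartesian_O G.obj (memObj z) =>
      (T.1 (v' k) (cc k).left).app ⊤ (oneSec (v' k))) h2
    refine Eq.trans h3 ((zFam_app hν l s hs' (zz k).hom (v' k) (cc k).left).trans ?_)
    rw [hβ, eps_self]
    exact one_smul _ _
  rw [← hs_one G.obj v ((u.hom.app v).app ⊤ (t v)), key, hs_one]

end StPushLib
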