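import Groth.Agent.StPushLib.FlatSys
import Groth.Agent.GenDescLib.Rep

/-!
# The flat system of a smooth atlas
-/

set_option autoImplicit false
set_option linter.style.haveILetI false
set_option backward.isDefEq.respectTransparency false
set_option backward.isDefEq.respectTransparency.types false
set_option maxHeartbeats 800000

universe u

open CategoryTheory CategoryTheory.Limits AlgebraicGeometry AlgSp AlgSpLib FibCat FibLib AlgStLib IsoNatLib IsoNatSepLib Opposite StMod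
open CategoryTheory.Functor (Fiber IsPreFibered IsStronglyCartesian)
open GenDescLib (topObj toTop topObj_hom_ext prop_of_lift)
open TwDescLib (hom_ext_base exists_obj_over liftTo liftTo_fac IsFppf)

noncomputable section

namespace StPushLib

variable {S : Scheme.{u}} {𝒴 : AlgSt.Cat S} [IsFibGrpd 𝒴.p]

theorem map_eq_of_lift {a b : 𝒴.obj} (k : a ⟶ b) {c : 𝒴.p.obj a ⟶ 𝒴.p.obj b} (h : 𝒴.p.IsHomLift c k) :
    𝒴.p.map k = c := by
  haveI := h
  exact (IsHomLift.eq_of_isHomLift 𝒴.p c k).symm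

variable {U : Over S} (x : overCat U ⥤ᵇ 𝒴)

theorem exists_relAtlas (hx : AlgSt.RepByAlgSpWith (LocP @Smooth) x) :
    ∃ (R : 𝒴.obj) (p q : R ⟶ x.obj (topObj U)), RelAtlas p q ∧ Smooth (bmap 𝒴 p) := by
  haveI := AlgStLib.isFibGrpd_overCat U
  let w := x.obj (topObj U)
  have hwU : 𝒴.p.obj w = U := x.w_obj (topObj U)
  let T0 := 𝒴.p.obj w
  let zf : 𝒴.p.Fiber T0 := Fiber.mk (p := 𝒴.p) (a := w) rfl
  obtain ⟨H, aH, hH, hsm, -, ⟨C⟩⟩ := exists_classifier hx zf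
  obtain ⟨Uk, bk, hbk, hbks⟩ := hH.atlas
  obtain ⟨c0, hc0⟩ := (yon S).map_surjective (bk ≫ aH)
  haveI hcs : Smooth c0.left := (AlgSpLib.locP_yon_map_iff (P := @Smooth) c0).1
    (hc0 ▸ (good_locP @Smooth : Good (LocP @Smooth : MorphismProperty (Sp S))).comp (IsAlgSpace.yon_obj _) hH
      (IsAlgSpace.yon_obj _) _ _ (AlgSpLib.locP_mono (fun _ _ f (hf : Etale f) => (inferInstance : Smooth f))
        (AlgSpLib.locP_of_repWith hbk)) hsm)
  obtain ⟨⟨base, ⟨o0', ho⟩, p0, hp0⟩, hE⟩ := C.exists_elt bk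
  change o0'.left = Uk at ho
  subst ho
  let o0 : (overCat U).obj := o0'
  let E : Elt x zf o0.left := ⟨base, ⟨o0', rfl⟩, p0, hp0⟩
  replace hE : C.cls E = bk := hE
  have hbase : base = c0 := (yon S).map_injective (by rw [show base = E.base from rfl, ← C.cls_comp E, hE, hc0])
  let p : x.obj o0 ⟶ w := p0
  let q : x.obj o0 ⟶ w := x.map (toTop o0)
  have hp : 𝒴.p.IsHomLift c0 p := hbase ▸ hp0
  refine ⟨x.obj o0, p, q, fun y a b => ?_, prop_of_lift (P := @Smooth) c0 p hp hcs⟩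
  let T := 𝒴.p.obj y
  let ot : T ⟶ U := 𝒴.p.map b ≫ eqToHom hwU
  let o : (overCat U).obj := (Over.mk ot : Over U)
  have ht : 𝒴.p.IsHomLift ot (x.map (toTop o)) := FibLib.lift_map x (toTop o)
  have hb : 𝒴.p.IsHomLift ot b := IsHomLift.of_fac' 𝒴.p ot b rfl hwU (by simp [ot])
  obtain ⟨θ0, hθ0, eθ⟩ := exists_fac (𝒳 := 𝒴) (g := 𝟙 T) b hb (x.map (toTop o))
    (lift_congr (Category.id_comp ot).symm ht)
  let Ey : Elt x zf T := ⟨𝒴.p.map a, Fiber.mk (p := (overCat U).p) (a := o) rfl, θ0 ≫ a,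
    lift_congr (Category.id_comp _) (comp_lift hθ0 (IsHomLift.map 𝒴.p a))⟩
  obtain ⟨W', pW, qW, sq⟩ := AlgSpLib.exists_isPullback_yon bk (C.cls Ey) hbk.1
  have hqe : Etale qW.left := hbk.2 _ _ _ sq
  have hqs : Surjective qW.left := hbks.2 _ _ _ sq
  obtain ⟨E', kd, hkd, ekd⟩ := exists_pullback_elt qW Ey
  obtain ⟨ke, hke, eke⟩ : EHom pW E' E :=
    C.ehom_of_comp (by rw [C.cls_map ⟨kd, hkd, ekd⟩, hE, sq.w])
  let y' := x.obj E'.obj.1
  let kd' : E'.obj.1 ⟶ o := kd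
  let c : y' ⟶ y := x.map kd' ≫ θ0
  let e : y' ⟶ x.obj o0 := x.map ke
  haveI := hkd; haveI := hθ0; haveI := hke
  have hc : 𝒴.p.IsHomLift qW c := lift_congr (Category.comp_id qW) (comp_lift (x.preserves_isHomLift qW kd') hθ0)
  have he : 𝒴.p.IsHomLift pW e := x.preserves_isHomLift pW ke
  have hep : e ≫ p = c ≫ a := by
    show x.map ke ≫ p0 = (x.map kd' ≫ θ0) ≫ a
    rw [eke, ← ekd, Category.assoc]
  have heq : e ≫ q = c ≫ b := by
    show x.map ke ≫ x.map (toTop o0) = (x.map kd' ≫ θ0) ≫ b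
    rw [Category.assoc, eθ, ← x.toFunctor.map_comp, ← x.toFunctor.map_comp]
    exact congrArg x.map (topObj_hom_ext _ _)
  refine ⟨y', c, e, prop_of_lift (P := @Etale) qW c hc hqe, prop_of_lift (P := @Surjective) qW c hc hqs, hep, heq, ?_⟩
  intro y'' d e' h1 h2
  let T'' := 𝒴.p.obj y''
  let ρd : T'' ⟶ T := 𝒴.p.map d
  let ρe : T'' ⟶ o0.left := 𝒴.p.map e' ≫ eqToHom (x.w_obj o0)
  let o'' : (overCat U).obj := (Over.mk (ρd ≫ ot) : Over U)
  let k' : o'' ⟶ o := Over.homMk (U := (o'' : Over U)) (V := (o : Over U)) ρd rfl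
  have hk' : 𝒴.p.IsHomLift ρd (x.map k') := FibLib.lift_map x k'
  have hρ : ρd ≫ ot = ρe ≫ o0.hom := by
    have hq : 𝒴.p.map q = eqToHom (x.w_obj o0) ≫ o0.hom ≫ eqToHom hwU.symm :=
      @IsHomLift.fac' _ _ _ _ 𝒴.p _ _ _ _ o0.hom q (FibLib.lift_map x (toTop o0))
    show ρd ≫ 𝒴.p.map b ≫ eqToHom hwU = (𝒴.p.map e' ≫ eqToHom (x.w_obj o0)) ≫ o0.hom
    rw [← Functor.map_comp_assoc, ← h2, Functor.map_comp, hq]
    simp
  obtain ⟨ν, hν, eν⟩ := exists_fac (𝒳 := 𝒴) (g := 𝟙 T'') d (IsHomLift.map 𝒴.p d) (x.map k' ≫ θ0)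
    (lift_congr (show ρd ≫ 𝟙 T = 𝟙 T'' ≫ 𝒴.p.map d by simp [ρd]) (comp_lift hk' hθ0))
  let ke' : o'' ⟶ o0 := Over.homMk (U := (o'' : Over U)) (V := (o0 : Over U)) ρe hρ.symm
  have hke' : (overCat U).p.IsHomLift ρe ke' := IsHomLift.map (overCat U).p ke'
  have hνe' : 𝒴.p.IsHomLift ρe (ν ≫ e') := lift_congr (Category.id_comp ρe)
    (comp_lift hν (IsHomLift.of_fac' 𝒴.p ρe e' rfl (x.w_obj o0) (by simp [ρe])))
  have hx1 : x.map ke' = ν ≫ e' := by
    refine eq_of_fac (FibLib.lift_map x (toTop o0) : 𝒴.p.IsHomLift o0.hom q) (FibLib.lift_map x ke') hνe' ?_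
    rw [Category.assoc, h2, reassoc_of% eν, eθ, ← x.toFunctor.map_comp, ← x.toFunctor.map_comp]
    exact congrArg x.map (topObj_hom_ext _ _)
  let E'' : Elt x zf T'' := ⟨ρd ≫ Ey.base, Fiber.mk (p := (overCat U).p) (a := o'') rfl, x.map k' ≫ θ0 ≫ a,
    comp_lift hk' Ey.lift⟩
  have hE1 : EHom ρd E'' Ey := ⟨k', IsHomLift.map (overCat U).p k', rfl⟩
  have hE2 : EHom ρe E'' E := by
    refine ⟨ke', hke', ?_⟩
    show x.map ke' ≫ p = x.map k' ≫ θ0 ≫ a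
    rw [hx1, Category.assoc, h1, reassoc_of% eν]
  have hcls : (yon S).map ρe ≫ bk = (yon S).map ρd ≫ C.cls Ey := by rw [← hE, ← C.cls_map hE1, C.cls_map hE2]
  obtain ⟨ρ, hρ'⟩ := (yon S).map_surjective (sq.lift ((yon S).map ρe) ((yon S).map ρd) hcls)
  have hρe : ρ ≫ pW = ρe := (yon S).map_injective (by rw [Functor.map_comp, hρ', sq.lift_fst])
  have hρd : ρ ≫ qW = ρd := (yon S).map_injective (by rw [Functor.map_comp, hρ', sq.lift_snd])
  obtain ⟨θ, hθ, eθc⟩ := exists_fac (𝒳 := 𝒴) (g := ρ) c hc d (lift_congr hρd.symm (IsHomLift.map 𝒴.p d))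
  refine ⟨θ, ⟨eθc, ?_⟩, ?_⟩
  · refine eq_of_fac (FibLib.lift_map x (toTop o0) : 𝒴.p.IsHomLift o0.hom q) (g := ρe) ?_
      (IsHomLift.of_fac' 𝒴.p ρe e' rfl (x.w_obj o0) (by simp [ρe])) ?_
    · exact lift_congr hρe (comp_lift hθ he)
    · rw [Category.assoc, heq, reassoc_of% eθc, h2]
  · rintro θ' ⟨t1, t2⟩
    haveI hmono : ∀ {V : Over S} (g₁ g₂ : V ⟶ W'), g₁ ≫ pW = g₂ ≫ pW → g₁ ≫ qW = g₂ ≫ qW → g₁ = g₂ :=
      fun g₁ g₂ h3 h4 => (yon S).map_injective (sq.hom_ext (by rw [← Functor.map_comp, ← Functor.map_comp, h3])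
        (by rw [← Functor.map_comp, ← Functor.map_comp, h4]))
    let g' : T'' ⟶ W' := 𝒴.p.map θ' ≫ eqToHom ((x.w_obj E'.obj.1).trans E'.obj.2)
    have hθ' : 𝒴.p.IsHomLift g' θ' := IsHomLift.of_fac' 𝒴.p g' θ' rfl ((x.w_obj E'.obj.1).trans E'.obj.2) (by simp [g'])
    have hg : g' = ρ := by
      refine hmono _ _ ?_ ?_
      · rw [hρe]
        refine IsoNatLib.eq_of_lifts 𝒴.p e' ?_ (IsHomLift.of_fac' 𝒴.p ρe e' rfl (x.w_obj o0) (by simp [ρe]))
        exact t2 ▸ comp_lift hθ' he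
      · rw [hρd]
        exact IsoNatLib.eq_of_lifts 𝒴.p d (t1 ▸ comp_lift hθ' hc) (IsHomLift.map 𝒴.p d)
    exact eq_of_fac hc (lift_congr hg hθ') hθ (t1.trans eθc.symm)

/-- Affine objects with a flat morphism to the object of the atlas. -/
def AtlasMem (z : 𝒴.obj) : Prop :=
  IsAffine (sch 𝒴 z) ∧ ∃ a : z ⟶ x.obj (topObj U), Flat (bmap 𝒴 a)

theorem flatSys_atlas (hx : AlgSt.RepByAlgSpWith (LocP @Smooth) x)
    (hxs : AlgSt.RepByAlgSpWith IsSurjectiveMor x) : FlatSys (AtlasMem x) where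
  aff z hz := hz.1
  down y z c hz hc ha := by
    obtain ⟨-, a, haf⟩ := hz
    haveI := hc; haveI := haf
    exact ⟨ha, c ≫ a, by rw [bmap_comp]; infer_instance⟩
  loc y := by
    haveI := AlgStLib.isFibGrpd_overCat U
    obtain ⟨T', c, fU, k, hc, hs, hk⟩ :=
      QAffCovLib.exists_chart hx hxs (Fiber.mk (p := 𝒴.p) (a := y) rfl)
    let y0 : 𝒴.obj := x.obj (Over.mk fU)
    let k0 : y0 ⟶ y := k
    haveI hksm : Smooth (bmap 𝒴 k0) := prop_of_lift (P := @Smooth) c k0 hk hc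
    haveI hksu : Surjective (bmap 𝒴 k0) := prop_of_lift (P := @Surjective) c k0 hk hs
    obtain ⟨K, w, j, I, ha, hj, hcov, hb⟩ := exists_cut (x.map (toTop (Over.mk fU : Over U)))
    choose z ι ε hε using fun O : (sch 𝒴 (x.obj (topObj U))).affineOpens => exists_obj_over (x.obj (topObj U)) O.1.ι
    choose b hb using hb
    haveI := hj
    let g : ∀ i, w i ⟶ z (I i) := fun i => liftTo (ι (I i)) (j i ≫ x.map (toTop _)) (b i ≫ (ε (I i)).inv) (by
      rw [← hε, Category.assoc, Iso.inv_hom_id_assoc, hb])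
    refine ⟨K, w, fun i => j i ≫ k0, fun i => z (I i), g, fun i => ⟨?_, ι (I i), ?_⟩, ⟨fun t => ?_, fun i => ?_, fun i => ?_⟩⟩
    · haveI : IsAffine (I i).1.toScheme := (I i).2
      exact IsAffine.of_isIso (ε (I i)).hom
    · rw [← hε]; infer_instance
    · obtain ⟨s, rfl⟩ := hksu.surj t
      obtain ⟨i, v, rfl⟩ := hcov s
      exact ⟨i, v, by rw [bmap_comp]; rfl⟩
    · rw [bmap_comp]; infer_instance
    · rw [bmap_comp]; infer_instance
  rel z₁ z₂ h₁ h₂ := by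
    obtain ⟨R, p, q, hR, hp⟩ := exists_relAtlas x hx
    obtain ⟨-, a₁, ha₁⟩ := h₁
    obtain ⟨-, a₂, ha₂⟩ := h₂
    exact hR.exists_flat (haveI := hp; inferInstance) a₁ ha₁ a₂ ha₂

end StPushLib
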