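import Groth.Prelude.Def_StMod2
import Groth.Agent.AlgSpLib.Basic
import Groth.Agent.ClopenFFLib.AppBij
import Groth.Agent.LefConnLib.Basic
import Mathlib.AlgebraicGeometry.Morphisms.Etale
import Mathlib.AlgebraicGeometry.Morphisms.FlatMono
import Mathlib.AlgebraicGeometry.Morphisms.Separated

/-!
# Products over a sheaf with an affine object etale over it
-/

set_option autoImplicit false
set_option linter.style.haveILetI false
set_option backward.isDefEq.respectTransparency false
set_option backward.isDefEq.respectTransparency.types false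
set_option maxHeartbeats 800000

universe u

open CategoryTheory CategoryTheory.Limits AlgebraicGeometry AlgSp Opposite StMod

noncomputable section

namespace StPushLib

variable {S : Scheme.{u}} {M : AlgSp.Sp S}

/-- The morphism of sheaves of an object over the sheaf. -/
def toM (ν : (AlgSt.ofSp M).obj) : (yon S).obj ν.base ⟶ M := (AlgSp.J S).uliftYonedaEquiv.symm ν.sec

theorem toM_etaOf (E : EtOver M) : toM (etaOf E) = E.obj.hom :=
  (AlgSp.J S).uliftYonedaEquiv.symm_apply_apply _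

theorem map_sec_eq (ν : (AlgSt.ofSp M).obj) {T : Over S} (a : T ⟶ ν.base) :
    M.obj.map a.op ν.sec = (AlgSp.J S).uliftYonedaEquiv ((yon S).map a ≫ toM ν) := by
  conv_lhs => rw [show ν.sec = (AlgSp.J S).uliftYonedaEquiv (toM ν) from (Equiv.apply_symm_apply _ _).symm]
  exact GrothendieckTopology.uliftYonedaEquiv_naturality (J := AlgSp.J S) (toM ν) a

theorem yon_comp_eq {ν z y : (AlgSt.ofSp M).obj} (a : y ⟶ ν) (b : y ⟶ z) :
    (yon S).map a.hom ≫ toM ν = (yon S).map b.hom ≫ toM z :=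
  (AlgSp.J S).uliftYonedaEquiv.injective (by rw [← map_sec_eq, ← map_sec_eq, a.map_sec, b.map_sec])

/-- A product over the sheaf. -/
structure EtProd (ν z : (AlgSt.ofSp M).obj) where
  /-- the product -/
  P : (AlgSt.ofSp M).obj
  /-- the first projection -/
  pr1 : P ⟶ ν
  /-- the second projection -/
  pr2 : P ⟶ z
  lift : ∀ {y : (AlgSt.ofSp M).obj} (a : y ⟶ ν) (b : y ⟶ z), ∃ θ : y ⟶ P, θ ≫ pr1 = a ∧ θ ≫ pr2 = b
  uniq : ∀ {y : (AlgSt.ofSp M).obj} (θ θ' : y ⟶ P), θ ≫ pr1 = θ' ≫ pr1 → θ ≫ pr2 = θ' ≫ pr2 → θ = θ'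
  etale : Etale pr2.hom.left
  isPullback : IsPullback ((yon S).map pr1.hom) ((yon S).map pr2.hom) (toM ν) (toM z)

variable {ν : (AlgSt.ofSp M).obj}

theorem exists_etProd (hν : RepWith @Etale (toM ν)) (z : (AlgSt.ofSp M).obj) : Nonempty (EtProd ν z) := by
  obtain ⟨W, p, q, sq⟩ := AlgSpLib.exists_isPullback_yon (toM ν) (toM z) hν.rep
  let P : (AlgSt.ofSp M).obj := ⟨W, M.obj.map q.op z.sec⟩
  let pr1 : P ⟶ ν := ⟨p, by
    show M.obj.map p.op ν.sec = M.obj.map q.op z.sec
    rw [map_sec_eq, map_sec_eq, sq.w]⟩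
  let pr2 : P ⟶ z := ⟨q, rfl⟩
  refine ⟨⟨P, pr1, pr2, fun {y} a b => ?_, fun {y} θ θ' h1 h2 => ?_, hν.property _ _ _ sq, sq⟩⟩
  · obtain ⟨θ, hθ⟩ := (yon S).map_surjective (sq.lift ((yon S).map a.hom) ((yon S).map b.hom) (yon_comp_eq a b))
    have e1 : θ ≫ p = a.hom := (yon S).map_injective (by rw [Functor.map_comp, hθ, sq.lift_fst])
    have e2 : θ ≫ q = b.hom := (yon S).map_injective (by rw [Functor.map_comp, hθ, sq.lift_snd])
    refine ⟨⟨θ, ?_⟩, Stk.EltObj.hom_ext e1, Stk.EltObj.hom_ext e2⟩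
    show M.obj.map θ.op (M.obj.map q.op z.sec) = y.sec
    rw [← Functor.map_comp_apply, ← op_comp, e2, b.map_sec]
  · have e1 : θ.hom ≫ p = θ'.hom ≫ p := congrArg Stk.EltObj.Hom.hom h1
    have e2 : θ.hom ≫ q = θ'.hom ≫ q := congrArg Stk.EltObj.Hom.hom h2
    exact Stk.EltObj.hom_ext ((yon S).map_injective (sq.hom_ext
      (by rw [← Functor.map_comp, ← Functor.map_comp, e1]) (by rw [← Functor.map_comp, ← Functor.map_comp, e2])))

variable {z : (AlgSt.ofSp M).obj} (D : EtProd ν z)

theorem EtProd.over_hom_ext {T : Over S} (f g : T ⟶ D.P.base) (h1 : f ≫ D.pr1.hom = g ≫ D.pr1.hom)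
    (h2 : f ≫ D.pr2.hom = g ≫ D.pr2.hom) : f = g :=
  (yon S).map_injective (D.isPullback.hom_ext (by rw [← Functor.map_comp, ← Functor.map_comp, h1])
    (by rw [← Functor.map_comp, ← Functor.map_comp, h2]))

/-- The product of affine objects is a separated scheme. -/
theorem EtProd.isSeparated [IsAffine ν.base.left] [IsAffine z.base.left] : D.P.base.left.IsSeparated := by
  let d : D.P.base.left ⟶ pullback (terminal.from ν.base.left) (terminal.from z.base.left) :=
    pullback.lift D.pr1.hom.left D.pr2.hom.left (Subsingleton.elim _ _)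
  haveI : Mono d := ⟨fun {T} f g h => by
    have h1 : f ≫ D.pr1.hom.left = g ≫ D.pr1.hom.left := by
      have := congrArg (· ≫ pullback.fst _ _) h
      simpa [d] using this
    have h2 : f ≫ D.pr2.hom.left = g ≫ D.pr2.hom.left := by
      have := congrArg (· ≫ pullback.snd _ _) h
      simpa [d] using this
    have hS : g ≫ D.P.base.hom = f ≫ D.P.base.hom := by
      rw [← Over.w D.pr2.hom, ← Category.assoc, ← Category.assoc, h2]
    have := D.over_hom_ext (T := Over.mk (f ≫ D.P.base.hom)) (Over.homMk f rfl) (Over.homMk g hS)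
      (Over.OverMorphism.ext h1) (Over.OverMorphism.ext h2)
    exact congrArg CommaMorphism.left this⟩
  refine ⟨?_⟩
  rw [show terminal.from D.P.base.left = d ≫ terminal.from _ from Subsingleton.elim _ _]
  infer_instance

variable (hν : RepWith @Etale (toM ν))

/-- The product of the object with itself. -/
def selfProd : EtProd ν ν := (exists_etProd hν ν).some

/-- The diagonal. -/
def diagHom : ν ⟶ (selfProd hν).P := ((selfProd hν).lift (𝟙 ν) (𝟙 ν)).choose

theorem diagHom_pr1 : diagHom hν ≫ (selfProd hν).pr1 = 𝟙 ν := ((selfProd hν).lift (𝟙 ν) (𝟙 ν)).choose_spec.1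

theorem diagHom_pr2 : diagHom hν ≫ (selfProd hν).pr2 = 𝟙 ν := ((selfProd hν).lift (𝟙 ν) (𝟙 ν)).choose_spec.2

variable [IsAffine ν.base.left]

theorem isClopen_range_diag : IsClopen (Set.range (diagHom hν).hom.left) ∧ IsOpenImmersion (diagHom hν).hom.left := by
  let D := selfProd hν
  let δ := (diagHom hν).hom.left
  let p := D.pr2.hom.left
  haveI : Etale p := D.etale
  have hs : δ ≫ p = 𝟙 _ := congrArg (fun t : ν ⟶ ν => t.hom.left) (diagHom_pr2 hν)
  haveI : IsOpenImmersion δ := by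
    haveI : Etale (δ ≫ p) := by rw [hs]; infer_instance
    haveI : Etale δ := Etale.of_comp δ p
    haveI : Mono δ := mono_of_mono_fac hs
    exact IsOpenImmersion.of_flat_of_mono δ
  haveI : D.P.base.left.IsSeparated := D.isSeparated
  haveI : IsClosedImmersion (δ ≫ p) := by rw [hs]; infer_instance
  haveI : IsClosedImmersion δ := IsClosedImmersion.of_comp δ p
  exact ⟨⟨δ.isClosedEmbedding.isClosed_range, δ.isOpenEmbedding.isOpen_range⟩, inferInstance⟩

/-- The idempotent of the diagonal. -/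
def diagIdem : Γ((selfProd hν).P.base.left, ⊤) := (ClopenFFLib.exists_idem (isClopen_range_diag hν).1).choose

variable {y : (AlgSt.ofSp M).obj}

/-- The pair as a morphism to the product. -/
def pairHom (α β : y ⟶ ν) : y ⟶ (selfProd hν).P := ((selfProd hν).lift α β).choose

omit [IsAffine ν.base.left] in
theorem pairHom_pr1 (α β : y ⟶ ν) : pairHom hν α β ≫ (selfProd hν).pr1 = α :=
  ((selfProd hν).lift α β).choose_spec.1

omit [IsAffine ν.base.left] in
theorem pairHom_pr2 (α β : y ⟶ ν) : pairHom hν α β ≫ (selfProd hν).pr2 = β :=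
  ((selfProd hν).lift α β).choose_spec.2

/-- The idempotent of the locus where two morphisms agree. -/
def eqIdem (α β : y ⟶ ν) : Γ(y.base.left, ⊤) := (pairHom hν α β).hom.left.appTop (diagIdem hν)

theorem isIdempotentElem_eqIdem (α β : y ⟶ ν) : IsIdempotentElem (eqIdem hν α β) :=
  (ClopenFFLib.exists_idem (isClopen_range_diag hν).1).choose_spec.1.map _

theorem eqIdem_comp {y' : (AlgSt.ofSp M).obj} (φ : y' ⟶ y) (α β : y ⟶ ν) :
    eqIdem hν (φ ≫ α) (φ ≫ β) = φ.hom.left.appTop (eqIdem hν α β) := by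
  have h : pairHom hν (φ ≫ α) (φ ≫ β) = φ ≫ pairHom hν α β := (selfProd hν).uniq _ _
    (by rw [pairHom_pr1, Category.assoc, pairHom_pr1]) (by rw [pairHom_pr2, Category.assoc, pairHom_pr2])
  rw [eqIdem, h]
  show (φ.hom.left ≫ (pairHom hν α β).hom.left).appTop _ = _
  rw [Scheme.Hom.comp_appTop]
  rfl

theorem mem_basicOpen_eqIdem (α β : y ⟶ ν) (t : y.base.left) :
    t ∈ y.base.left.basicOpen (eqIdem hν α β) ↔
      (pairHom hν α β).hom.left t ∈ Set.range (diagHom hν).hom.left := by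
  rw [eqIdem, ← Scheme.preimage_basicOpen_top]
  rw [← (ClopenFFLib.exists_idem (isClopen_range_diag hν).1).choose_spec.2]
  rfl

theorem eqIdem_self (α : y ⟶ ν) : eqIdem hν α α = 1 := by
  refine Groth.Agent.LefConnLib.idem_eq_of_basicOpen_eq (isIdempotentElem_eqIdem hν α α) IsIdempotentElem.one ?_
  rw [Scheme.basicOpen_of_isUnit _ isUnit_one]
  refine eq_top_iff.2 fun t _ => (mem_basicOpen_eqIdem hν α α t).2 ⟨α.hom.left t, ?_⟩
  have h : pairHom hν α α = α ≫ diagHom hν := (selfProd hν).uniq _ _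
    (by rw [pairHom_pr1, Category.assoc, diagHom_pr1, Category.comp_id])
    (by rw [pairHom_pr2, Category.assoc, diagHom_pr2, Category.comp_id])
  rw [h]
  rfl

/-- The two morphisms agree over the locus. -/
theorem comp_eq_of_range {y' : (AlgSt.ofSp M).obj} (φ : y' ⟶ y) (α β : y ⟶ ν)
    (hφ : Set.range φ.hom.left ⊆ y.base.left.basicOpen (eqIdem hν α β)) : φ ≫ α = φ ≫ β := by
  let δ := (diagHom hν).hom.left
  haveI : IsOpenImmersion δ := (isClopen_range_diag hν).2
  let h' := φ.hom.left ≫ (pairHom hν α β).hom.left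
  have hr : Set.range h' ⊆ Set.range δ := by
    rintro _ ⟨t, rfl⟩
    exact (mem_basicOpen_eqIdem hν α β _).1 (hφ ⟨t, rfl⟩)
  let θ := IsOpenImmersion.lift δ h' hr
  have hθ : θ ≫ δ = h' := IsOpenImmersion.lift_fac _ _ _
  have e : ∀ (pr : (selfProd hν).P ⟶ ν), diagHom hν ≫ pr = 𝟙 ν →
      φ.hom.left ≫ ((pairHom hν α β) ≫ pr).hom.left = θ := fun pr hpr => by
    show φ.hom.left ≫ (pairHom hν α β).hom.left ≫ pr.hom.left = θ
    rw [← Category.assoc, show φ.hom.left ≫ (pairHom hν α β).hom.left = θ ≫ δ from hθ.symm, Category.assoc,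
      show δ ≫ pr.hom.left = 𝟙 _ from congrArg (fun t : ν ⟶ ν => t.hom.left) hpr, Category.comp_id]
  refine Stk.EltObj.hom_ext (Over.OverMorphism.ext ?_)
  have h1 := e _ (diagHom_pr1 hν)
  have h2 := e _ (diagHom_pr2 hν)
  rw [pairHom_pr1] at h1
  rw [pairHom_pr2] at h2
  exact h1.trans h2.symm

end StPushLib
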