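import Groth.Agent.GenDescLib.Kill

/-!
# Morphisms out of a finitely presented module over a flat base change of a chart
-/

set_option autoImplicit false
set_option linter.style.haveILetI false
set_option backward.isDefEq.respectTransparency false
set_option backward.isDefEq.respectTransparency.types false
set_option maxHeartbeats 1600000

universe w v u

open CategoryTheory CategoryTheory.Limits AlgebraicGeometry Opposite StMod GenDescLib
open KFlatLib (pb puSec puSecLE)

noncomputable section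

namespace StPushLib

variable {S : Scheme.{u}} {W : BasedCategory.{v, w} (Over S)}

variable (E M : Mod W) (hEc : E.IsCartesian) (hEq : E.IsLocQCoh) (hMc : M.IsCartesian) (hMq : M.IsLocQCoh)

include hEc hEq hMc hMq in
/-- Over a flat affine base change of a chart, the morphisms out of a finitely presented module are combinations
of those downstairs. -/
theorem exists_span {w0 r : W.obj} {p q : r ⟶ w0} (hW : Chart W w0 r p q) [IsAffine (sch W w0)]
    [IsAffine (sch W r)] (hfp : CohB1.IsFP (E.obj w0))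
    {T T' : Scheme.{u}} [IsAffine T] [IsAffine T'] (τ : T' ⟶ T) [Flat τ] (b0 : sch W w0 ⟶ T)
    (hpq : bmap W q ≫ b0 = bmap W p ≫ b0) {w0' r' : W.obj} (k : w0' ⟶ w0) (l : r' ⟶ r) (p' q' : r' ⟶ w0')
    (hp : p' ≫ k = l ≫ p) (hq : q' ≫ k = l ≫ q) (b0' : sch W w0' ⟶ T')
    (hk : IsPullback (bmap W k) b0' b0 τ)
    (hl : IsPullback (bmap W l) (bmap W p' ≫ b0') (bmap W p ≫ b0) τ)
    (hpq' : bmap W q' ≫ b0' = bmap W p' ≫ b0') :
    ∃ (n : ℕ) (e : Fin n → Γ(E.obj w0, ⊤)), Submodule.span Γ(sch W w0, ⊤) (Set.range e) = ⊤ ∧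
      ∀ h' : E.obj w0' ⟶ M.obj w0', pull E M hEc p' h' = pull E M hEc q' h' →
        ∃ (J : Type u) (_ : Fintype J) (s : J → Γ(T', ⊤)) (h : J → (E ⟶ M)),
          ∀ i, h'.app ⊤ (E.mapTop k (e i)) = ∑ j, b0'.appTop (s j) • M.mapTop k (((h j).app w0).app ⊤ (e i)) := by
  haveI : IsAffine (sch W w0') := IsAffine.of_isPullback hk
  haveI : IsAffine (sch W r') := IsAffine.of_isPullback hl
  haveI := hEq w0; haveI := hEq w0'; haveI := hEq r
  haveI := Groth.Agent.S1178.finitePresentation_affine (E.obj w0) hfp (isAffineOpen_top _)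
  obtain ⟨n, m, π, g, hπ, hex⟩ := Module.FinitePresentation.exists_fin' Γ(sch W w0, ⊤) Γ(E.obj w0, ⊤)
  classical
  let e : Fin n → Γ(E.obj w0, ⊤) := fun i => π (Pi.single i 1)
  let b : Fin m → Fin n → Γ(sch W w0, ⊤) := fun j => g (Pi.single j 1)
  have hπe : ∀ v, π v = ∑ i, v i • e i := fun v => by
    conv_lhs => rw [← Finset.univ_sum_single v]
    rw [map_sum]
    refine Finset.sum_congr rfl fun i _ => ?_
    rw [← map_smul]
    congr 1
    rw [← Pi.single_smul', smul_eq_mul, mul_one]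
  have hespan : Submodule.span Γ(sch W w0, ⊤) (Set.range e) = ⊤ := top_le_iff.1 fun t _ => by
    obtain ⟨v, rfl⟩ := hπ t
    rw [hπe]
    exact Submodule.sum_mem _ fun i _ => Submodule.smul_mem _ _ (Submodule.subset_span ⟨i, rfl⟩)
  have hbe : ∀ j, ∑ i, b j i • e i = 0 := fun j => by rw [← hπe]; exact hex.apply_apply_eq_zero _
  have hc : ∀ i, ∃ c : Fin n → Γ(sch W r, ⊤), ∑ l, c l • E.mapTop q (e l) = E.mapTop p (e i) := fun i =>
    (Submodule.mem_span_range_iff_exists_fun _).1 ((span_mapTop E hEc hEq q e hespan) ▸ Submodule.mem_top)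
  choose c hce using hc
  refine ⟨n, e, hespan, fun h' hh' => ?_⟩
  -- linear structures over the base
  letI algT : Algebra Γ(T, ⊤) Γ(T', ⊤) := τ.appTop.hom.toAlgebra
  haveI : Module.Flat Γ(T, ⊤) Γ(T', ⊤) := by
    have h1 : τ.appTop.hom.Flat := HasRingHomProperty.appTop (P := @Flat) τ inferInstance
    exact h1
  let br := bmap W p ≫ b0
  let br' := bmap W p' ≫ b0'
  letI : Module Γ(T, ⊤) Γ(M.obj w0, ⊤) := Module.compHom _ b0.appTop.hom
  letI : Module Γ(T, ⊤) Γ(M.obj r, ⊤) := Module.compHom _ br.appTop.hom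
  letI : Module Γ(T', ⊤) Γ(M.obj w0', ⊤) := Module.compHom _ b0'.appTop.hom
  letI : Module Γ(T', ⊤) Γ(M.obj r', ⊤) := Module.compHom _ br'.appTop.hom
  letI : Module Γ(T, ⊤) Γ(M.obj w0', ⊤) := Module.compHom _ (b0'.appTop.hom.comp τ.appTop.hom)
  letI : Module Γ(T, ⊤) Γ(M.obj r', ⊤) := Module.compHom _ (br'.appTop.hom.comp τ.appTop.hom)
  haveI : IsScalarTower Γ(T, ⊤) Γ(T', ⊤) Γ(M.obj w0', ⊤) := IsScalarTower.of_algebraMap_smul fun _ _ => rfl
  haveI : IsScalarTower Γ(T, ⊤) Γ(T', ⊤) Γ(M.obj r', ⊤) := IsScalarTower.of_algebraMap_smul fun _ _ => rfl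
  have hcomp : ∀ {A B C : Scheme.{u}} (f : A ⟶ B) (g : B ⟶ C) (a : Γ(C, ⊤)),
      (f ≫ g).appTop a = f.appTop (g.appTop a) := fun f g a => by rw [Scheme.Hom.comp_appTop]; rfl
  let kM : Γ(M.obj w0, ⊤) →ₗ[Γ(T, ⊤)] Γ(M.obj w0', ⊤) :=
    { toFun := M.mapTop k
      map_add' := M.mapTop_add k
      map_smul' := fun a z => by
        show M.mapTop k (b0.appTop a • z) = b0'.appTop (τ.appTop a) • M.mapTop k z
        rw [Mod.mapTop_smul, ← hcomp, hk.w, hcomp] }
  let lM : Γ(M.obj r, ⊤) →ₗ[Γ(T, ⊤)] Γ(M.obj r', ⊤) :=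
    { toFun := M.mapTop l
      map_add' := M.mapTop_add l
      map_smul' := fun a z => by
        show M.mapTop l (br.appTop a • z) = br'.appTop (τ.appTop a) • M.mapTop l z
        rw [Mod.mapTop_smul, ← hcomp, hl.w, hcomp] }
  have hkM : IsBaseChange Γ(T', ⊤) kM :=
    isBaseChange_mapTop M hMc hMq k τ b0 b0' hk rfl (fun _ _ => rfl) (fun _ _ => rfl) kM fun _ => rfl
  have hlM : IsBaseChange Γ(T', ⊤) lM :=
    isBaseChange_mapTop M hMc hMq l τ br br' hl rfl (fun _ _ => rfl) (fun _ _ => rfl) lM fun _ => rfl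
  let L : (Fin n → Γ(M.obj w0, ⊤)) →ₗ[Γ(T, ⊤)] ((Fin m → Γ(M.obj w0, ⊤)) × (Fin n → Γ(M.obj r, ⊤))) :=
    { toFun := fun x => (fun j => ∑ i, b j i • x i, fun i => M.mapTop p (x i) - ∑ s, c i s • M.mapTop q (x s))
      map_add' := fun x y => Prod.ext (funext fun j => by simp [smul_add, Finset.sum_add_distrib])
        (funext fun i => by simp [Mod.mapTop_add, smul_add, Finset.sum_add_distrib]; abel)
      map_smul' := fun a x => Prod.ext (funext fun j => by
          show ∑ i, b j i • (b0.appTop a • x i) = b0.appTop a • ∑ i, b j i • x i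
          rw [Finset.smul_sum]
          exact Finset.sum_congr rfl fun i _ => smul_comm _ _ _)
        (funext fun i => by
          show M.mapTop p (b0.appTop a • x i) - ∑ s, c i s • M.mapTop q (b0.appTop a • x s) =
            br.appTop a • (M.mapTop p (x i) - ∑ s, c i s • M.mapTop q (x s))
          rw [smul_sub, Finset.smul_sum, Mod.mapTop_smul, ← hcomp]
          congr 1
          refine Finset.sum_congr rfl fun s _ => ?_
          rw [Mod.mapTop_smul, ← hcomp, hpq]
          exact smul_comm _ _ _) }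
  let b' : Fin m → Fin n → Γ(sch W w0', ⊤) := fun j i => (bmap W k).appTop (b j i)
  let c' : Fin n → Fin n → Γ(sch W r', ⊤) := fun i s => (bmap W l).appTop (c i s)
  let L' : (Fin n → Γ(M.obj w0', ⊤)) →ₗ[Γ(T', ⊤)] ((Fin m → Γ(M.obj w0', ⊤)) × (Fin n → Γ(M.obj r', ⊤))) :=
    { toFun := fun x => (fun j => ∑ i, b' j i • x i, fun i => M.mapTop p' (x i) - ∑ s, c' i s • M.mapTop q' (x s))
      map_add' := fun x y => Prod.ext (funext fun j => by simp [smul_add, Finset.sum_add_distrib])
        (funext fun i => by simp [Mod.mapTop_add, smul_add, Finset.sum_add_distrib]; abel)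
      map_smul' := fun a x => Prod.ext (funext fun j => by
          show ∑ i, b' j i • (b0'.appTop a • x i) = b0'.appTop a • ∑ i, b' j i • x i
          rw [Finset.smul_sum]
          exact Finset.sum_congr rfl fun i _ => smul_comm _ _ _)
        (funext fun i => by
          show M.mapTop p' (b0'.appTop a • x i) - ∑ s, c' i s • M.mapTop q' (b0'.appTop a • x s) =
            br'.appTop a • (M.mapTop p' (x i) - ∑ s, c' i s • M.mapTop q' (x s))
          rw [smul_sub, Finset.smul_sum, Mod.mapTop_smul, ← hcomp]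
          congr 1
          refine Finset.sum_congr rfl fun s _ => ?_
          rw [Mod.mapTop_smul, ← hcomp, hpq']
          exact smul_comm _ _ _) }
  have hkk : ∀ x : Fin n → Γ(M.obj w0, ⊤),
      L' (kM.compLeft (Fin n) x) = (kM.compLeft (Fin m)).prodMap (lM.compLeft (Fin n)) (L x) := fun x => by
    refine Prod.ext (funext fun j => ?_) (funext fun i => ?_)
    · show ∑ i, b' j i • M.mapTop k (x i) = kM (∑ i, b j i • x i)
      rw [map_sum]
      exact Finset.sum_congr rfl fun i _ => (M.mapTop_smul k (b j i) (x i)).symm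
    · show M.mapTop p' (M.mapTop k (x i)) - ∑ s, c' i s • M.mapTop q' (M.mapTop k (x s)) =
        lM (M.mapTop p (x i) - ∑ s, c i s • M.mapTop q (x s))
      rw [map_sub, map_sum, ← Mod.mapTop_comp, hp, Mod.mapTop_comp]
      congr 1
      refine Finset.sum_congr rfl fun s _ => ?_
      rw [← Mod.mapTop_comp M q', hq, Mod.mapTop_comp]
      exact (M.mapTop_smul l (c i s) _).symm
  -- the given morphism satisfies the equations
  let y : Fin n → Γ(M.obj w0', ⊤) := fun i => h'.app ⊤ (E.mapTop k (e i))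
  have hy : L' y = 0 := by
    refine Prod.ext (funext fun j => ?_) (funext fun i => ?_)
    · show ∑ i, b' j i • h'.app ⊤ (E.mapTop k (e i)) = 0
      have h1 : ∑ i, b' j i • E.mapTop k (e i) = 0 := by
        have := congrArg (E.mapTop k) (hbe j)
        rw [Mod.mapTop_zero] at this
        rw [← this, show E.mapTop k (∑ i, b j i • e i) = ∑ i, E.mapTop k (b j i • e i) from map_sum _ _ _]
        exact Finset.sum_congr rfl fun i _ => (E.mapTop_smul k (b j i) (e i)).symm
      simp only [← QCohLib.app_smul]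
      rw [← map_sum, h1, map_zero]
    · show M.mapTop p' (h'.app ⊤ (E.mapTop k (e i))) - ∑ s, c' i s • M.mapTop q' (h'.app ⊤ (E.mapTop k (e s))) = 0
      rw [sub_eq_zero, ← pull_app E M hEc, hh']
      simp only [← pull_app E M hEc q', ← QCohLib.app_smul]
      rw [← map_sum]
      congr 1
      rw [← Mod.mapTop_comp, hp, Mod.mapTop_comp, ← hce i,
        show E.mapTop l (∑ s, c i s • E.mapTop q (e s)) = ∑ s, E.mapTop l (c i s • E.mapTop q (e s)) from
          map_sum _ _ _]
      refine Finset.sum_congr rfl fun s _ => ?_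
      rw [Mod.mapTop_smul, ← Mod.mapTop_comp E l, ← hq, Mod.mapTop_comp]
  -- solutions downstairs are killed
  have hker : ∀ x : Fin n → Γ(M.obj w0, ⊤), L x = 0 → ∃ h : E ⟶ M, ∀ i, (h.app w0).app ⊤ (e i) = x i := by
    intro x hx
    let Φ : (Fin n → Γ(sch W w0, ⊤)) →ₗ[Γ(sch W w0, ⊤)] Γ(M.obj w0, ⊤) := Fintype.linearCombination Γ(sch W w0, ⊤) x
    have hΦ : LinearMap.ker π ≤ LinearMap.ker Φ := by
      rw [LinearMap.exact_iff.1 hex, LinearMap.range_le_ker_iff]
      refine LinearMap.pi_ext' fun j => LinearMap.ext_ring ?_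
      show Φ (g (Pi.single j 1)) = 0
      rw [Fintype.linearCombination_apply]
      exact congrFun (congrArg Prod.fst hx) j
    let t : Γ(E.obj w0, ⊤) →ₗ[Γ(sch W w0, ⊤)] Γ(M.obj w0, ⊤) :=
      (LinearMap.ker π).liftQ Φ hΦ ∘ₗ (π.quotKerEquivOfSurjective hπ).symm.toLinearMap
    have htπ : ∀ v, t (π v) = Φ v := fun v => by
      show (LinearMap.ker π).liftQ Φ hΦ ((π.quotKerEquivOfSurjective hπ).symm (π v)) = Φ v
      rw [show (π.quotKerEquivOfSurjective hπ).symm (π v) = Submodule.Quotient.mk v from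
        (π.quotKerEquivOfSurjective hπ).symm_apply_eq.2 rfl, Submodule.liftQ_apply]
    have hte : ∀ i, t (e i) = x i := fun i => by
      rw [htπ, Fintype.linearCombination_apply]
      simp [Pi.single_apply]
    obtain ⟨h0, hh0, -⟩ := OmegaAffLib.exists_hom_of_top (E.obj w0) (M.obj w0) t.toAddMonoidHom fun a z => map_smul t a z
    have h0e : ∀ i, h0.app ⊤ (e i) = x i := fun i => (hh0 _).trans (hte i)
    have hpq0 : pull E M hEc p h0 = pull E M hEc q h0 := by
      refine hom_ext_span _ (span_mapTop E hEc hEq p e hespan) fun i => ?_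
      rw [pull_app, h0e, ← hce i, map_sum]
      simp only [QCohLib.app_smul, pull_app, h0e]
      exact sub_eq_zero.1 (congrFun (congrArg Prod.snd hx) i)
    obtain ⟨h, hh⟩ := hW.exists_hom hEc hMc hMq h0 hpq0
    exact ⟨h, fun i => by rw [hh, h0e]⟩
  have hy' : y ∈ Submodule.span Γ(T', ⊤) ((kM.compLeft (Fin n)) '' (LinearMap.ker L : Set _)) :=
    mem_span_ker_of_flat (hkM.finitePow (Fin n))
      (IsBaseChange.prodMap _ _ (hkM.finitePow (Fin m)) (hlM.finitePow (Fin n))) L L' hkk y hy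
  suffices H : ∀ z ∈ Submodule.span Γ(T', ⊤) ((kM.compLeft (Fin n)) '' (LinearMap.ker L : Set _)),
      ∃ (J : Type u) (_ : Fintype J) (s : J → Γ(T', ⊤)) (h : J → (E ⟶ M)),
        ∀ i, z i = ∑ j, b0'.appTop (s j) • M.mapTop k (((h j).app w0).app ⊤ (e i)) from H y hy'
  intro z hz
  induction hz using Submodule.span_induction with
  | mem z hz =>
    obtain ⟨x, hx, rfl⟩ := hz
    obtain ⟨h, hh⟩ := hker x hx
    refine ⟨PUnit, inferInstance, fun _ => 1, fun _ => h, fun i => ?_⟩
    show M.mapTop k (x i) = _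
    rw [Fintype.sum_unique, map_one, one_smul, hh]
  | zero => exact ⟨PEmpty, inferInstance, PEmpty.elim, PEmpty.elim, fun i => by simp⟩
  | add a a' _ _ ha ha' =>
    obtain ⟨J, _, s, h, e1⟩ := ha
    obtain ⟨J', _, s', h', e2⟩ := ha'
    exact ⟨J ⊕ J', inferInstance, Sum.elim s s', Sum.elim h h', fun i => by
      rw [Pi.add_apply, e1, e2, Fintype.sum_sum_type]; rfl⟩
  | smul r a _ ha =>
    obtain ⟨J, _, s, h, e1⟩ := ha
    refine ⟨J, inferInstance, fun j => r * s j, h, fun i => ?_⟩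
    show b0'.appTop r • a i = _
    rw [e1, Finset.smul_sum]
    refine Finset.sum_congr rfl fun j _ => ?_
    rw [map_mul, mul_smul]

end StPushLib
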