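import Groth.Agent.StPushLib.Fam
import Groth.Agent.StPushLib.Ker
import Groth.Agent.GenDescLib.Main

/-!
# Families of morphisms commute with flat base change
-/

set_option autoImplicit false
set_option linter.style.haveILetI false
set_option backward.isDefEq.respectTransparency false
set_option backward.isDefEq.respectTransparency.types false
set_option maxHeartbeats 1600000

universe u

open CategoryTheory CategoryTheory.Limits AlgebraicGeometry AlgSp FibCat FibLib AlgStLib Opposite StMod GenDescLib TensorProduct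
open TwSh

noncomputable section

namespace StPushLib

variable {S : Scheme.{u}} {V W : AlgSt.Cat S} [IsFibGrpd V.p] [IsFibGrpd W.p] {π : V ⥤ᵇ W}
  {E M : Mod V} (hE : E.IsCartesian) (hEq : E.IsLocQCoh) (hM : M.IsCartesian) (hMq : M.IsLocQCoh)
  {z' z : W.obj} (l : z' ⟶ z) [IsAffine (sch W z')] [IsAffine (sch W z)] [Flat (bmap W l)]
  {w0 r : (fibCat π z).obj} {p q : r ⟶ w0}
  [IsAffine (sch (fibCat π z) w0)] [IsAffine (sch (fibCat π z) r)]

include hEq hM hMq in
theorem bijective_resFam (hW : Chart (fibCat π z) w0 r p q) (hfp : CohB1.IsFP (E.obj w0.left))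
    [Algebra Γ(sch W z, ⊤) Γ(sch W z', ⊤)]
    (halg : algebraMap Γ(sch W z, ⊤) Γ(sch W z', ⊤) = (bmap W l).appTop.hom)
    [Module Γ(sch W z, ⊤) (HomFam π E hE M z')]
    [IsScalarTower Γ(sch W z, ⊤) Γ(sch W z', ⊤) (HomFam π E hE M z')]
    (β : HomFam π E hE M z →ₗ[Γ(sch W z, ⊤)] HomFam π E hE M z') (hβ : ∀ t, β t = resFam l t) :
    Function.Bijective (β.liftBaseChange Γ(sch W z', ⊤)) := by
  let τ := bmap W l
  haveI : Flat τ := ‹_›
  let A := Γ(sch W z, ⊤); let A' := Γ(sch W z', ⊤)
  obtain ⟨w0', e0, k, hk, hb⟩ := exists_over l w0 _ (pullback.fst (fibBase w0) τ) (pullback.snd (fibBase w0) τ)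
    pullback.condition
  obtain ⟨r', e', k', hl, hb'⟩ := exists_over l r _ (pullback.fst (fibBase r) τ) (pullback.snd (fibBase r) τ)
    pullback.condition
  have sqk : IsPullback (bmap (fibCat π z) k) (fibBase w0') (fibBase w0) τ :=
    IsPullback.of_iso_pullback ⟨by rw [hk, hb, Category.assoc, Category.assoc, pullback.condition]⟩
      (eqToIso e0) hk.symm hb.symm
  have sql : IsPullback (bmap (fibCat π z) k') (fibBase r') (fibBase r) τ :=
    IsPullback.of_iso_pullback ⟨by rw [hl, hb', Category.assoc, Category.assoc, pullback.condition]⟩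
      (eqToIso e') hl.symm hb'.symm
  have lift : ∀ (x : r ⟶ w0), ∃ x' : r' ⟶ w0', (fibMap π l).map x' ≫ k = k' ≫ x ∧
      bmap (fibCat π z) ((fibMap π l).map x') ≫ fibBase w0' = fibBase r' := fun x => by
    let ρ := sqk.lift (bmap (fibCat π z) (k' ≫ x)) (fibBase r')
      (by rw [bmap_comp, Category.assoc, bmap_fibBase, sql.w])
    obtain ⟨θ, hθ, hθ'⟩ := fib_fac k (k' ≫ x) ρ (sqk.lift_fst _ _ _)
    have hθb : bmap (fibCat π z) θ ≫ fibBase w0' = fibBase r' := by rw [hθ']; exact sqk.lift_snd _ _ _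
    obtain ⟨φ, rfl⟩ := exists_map l θ hθb
    exact ⟨φ, hθ, hθb⟩
  obtain ⟨p', hp, hp2⟩ := lift p
  obtain ⟨q', hq, hq2⟩ := lift q
  let E0 := Mod.comap (fibFst π z) E
  let M0 := Mod.comap (fibFst π z) M
  have hE0 : E0.IsCartesian := isCartesian_comap hE
  have hM0 : M0.IsCartesian := isCartesian_comap hM
  have hsql : IsPullback (bmap (fibCat π z) k') (bmap (fibCat π z) ((fibMap π l).map p') ≫ fibBase w0')
      (bmap (fibCat π z) p ≫ fibBase w0) τ := by
    rw [hp2, bmap_fibBase]; exact sql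
  obtain ⟨n, e, hespan, hspan⟩ := exists_span E0 M0 hE0 (isLocQCoh_comap (f := fibFst π z) hEq) hM0
    (isLocQCoh_comap (f := fibFst π z) hMq) hW hfp τ (fibBase w0) (by rw [bmap_fibBase, bmap_fibBase]) k k'
    ((fibMap π l).map p') ((fibMap π l).map q') hp hq (fibBase w0') sqk hsql (hq2.trans hp2.symm)
  let x0 := (fibMap π l).obj w0'
  haveI : IsAffine (sch (fibCat π z) x0) := IsAffine.of_isPullback sqk
  haveI : Coh.IsQCoh (E0.obj x0) := (isLocQCoh_comap (f := fibFst π z) hEq) x0
  haveI : Coh.IsQCoh (E0.obj w0) := (isLocQCoh_comap (f := fibFst π z) hEq) w0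
  letI : Module A Γ(M0.obj w0, ⊤) := Module.compHom _ (fibBase w0).appTop.hom
  letI : Module A' Γ(M0.obj x0, ⊤) := Module.compHom _ (fibBase w0').appTop.hom
  letI : Module A Γ(M0.obj x0, ⊤) := Module.compHom _ ((fibBase w0').appTop.hom.comp τ.appTop.hom)
  haveI : IsScalarTower A A' Γ(M0.obj x0, ⊤) := IsScalarTower.of_algebraMap_smul fun a m => by
    rw [halg]; rfl
  haveI : Module.Flat A A' := by
    have h1 : τ.appTop.hom.Flat := HasRingHomProperty.appTop (P := @Flat) τ inferInstance
    rw [← halg] at h1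
    exact RingHom.flat_algebraMap_iff.1 h1
  let kM : Γ(M0.obj w0, ⊤) →ₗ[A] Γ(M0.obj x0, ⊤) :=
    { toFun := M0.mapTop k
      map_add' := M0.mapTop_add k
      map_smul' := fun a z => by
        show M0.mapTop k ((fibBase w0).appTop a • z) = (fibBase w0').appTop (τ.appTop a) • M0.mapTop k z
        rw [Mod.mapTop_smul]
        congr 1
        exact congr($(congrArg (fun g => Scheme.Hom.appTop g) sqk.w) a) }
  have hkM : IsBaseChange A' kM := isBaseChange_mapTop M0 hM0 (isLocQCoh_comap (f := fibFst π z) hMq) k τ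
    (fibBase w0) (fibBase w0') sqk halg (fun _ _ => rfl) (fun _ _ => rfl) kM fun _ => rfl
  -- values on the generators
  let ι : HomFam π E hE M z →ₗ[A] (Fin n → Γ(M0.obj w0, ⊤)) :=
    { toFun := fun t i => (t.1 w0.left w0.hom).app ⊤ (e i)
      map_add' := fun s t => funext fun i => rfl
      map_smul' := fun a t => funext fun i => scalarEnd_top (M.obj w0.left) _ _ }
  let e₁ : Fin n → Γ(E0.obj x0, ⊤) := fun i => E0.mapTop k (e i)
  let ι' : HomFam π E hE M z' →ₗ[A'] (Fin n → Γ(M0.obj x0, ⊤)) :=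
    { toFun := fun t i => (t.1 w0'.left w0'.hom).app ⊤ (e₁ i)
      map_add' := fun s t => funext fun i => rfl
      map_smul' := fun a t => funext fun i => scalarEnd_top (M.obj w0'.left) _ _ }
  have hι : Function.Injective ι := fun s t h => HomFam.ext_chart hM hW (hom_ext_span e hespan fun i => congrFun h i)
  have hwk : π.map k.left ≫ w0.hom = w0'.hom ≫ l := CostructuredArrow.w k
  have hc : ∀ t, ι' (β t) = kM.compLeft (Fin n) (ι t) := fun t => funext fun i => by
    show ((β t).1 w0'.left w0'.hom).app ⊤ (e₁ i) = M0.mapTop k ((t.1 w0.left w0.hom).app ⊤ (e i))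
    rw [hβ, resFam_val, ← congrArg (t.1 w0'.left) hwk]
    have h2 : t.1 w0'.left (π.map k.left ≫ w0.hom) = pull E0 M0 hE0 k (t.1 w0.left w0.hom) :=
      ((pull_fibFst hE k _).trans (t.compat k.left w0.hom)).symm
    exact (congrArg (fun φ => Scheme.Modules.Hom.app φ ⊤ (e₁ i)) h2).trans (pull_app E0 M0 hE0 k _ (e i))
  have hι' : Function.Injective ι' := fun s t h => by
    have h0 : s.1 w0'.left w0'.hom = t.1 w0'.left w0'.hom :=
      hom_ext_span e₁ (span_mapTop E0 hE0 (isLocQCoh_comap (f := fibFst π z) hEq) k e hespan) fun i => congrFun h i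
    refine HomFam.ext fun v a => ?_
    obtain ⟨y, c, a0, hfl, hs, -⟩ := hW.cov (CostructuredArrow.mk (S := π.toFunctor) (Y := v) (a ≫ l))
    let y' : (fibCat π z').obj := CostructuredArrow.mk (S := π.toFunctor) (Y := y.left) (π.map c.left ≫ a)
    have hy : ((fibMap π l).obj y').hom = y.hom := by
      show (π.map c.left ≫ a) ≫ l = y.hom
      rw [Category.assoc]
      exact CostructuredArrow.w c
    let a' : (fibMap π l).obj y' ⟶ w0 := CostructuredArrow.homMk a0.left ((CostructuredArrow.w a0).trans hy.symm)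
    let ρ := sqk.lift (bmap (fibCat π z) a') (fibBase y') (by rw [bmap_fibBase, fibBase_fibMap])
    obtain ⟨θ, hθ, hθ'⟩ := fib_fac k a' ρ (sqk.lift_fst _ _ _)
    have hθb : bmap (fibCat π z) θ ≫ fibBase w0' = fibBase y' := by rw [hθ']; exact sqk.lift_snd _ _ _
    obtain ⟨ψ, -⟩ := exists_map l θ hθb
    refine eq_of_pull₁ hE c.left hfl hs hM ?_
    have hw : π.map ψ.left ≫ w0'.hom = π.map c.left ≫ a := CostructuredArrow.w ψ
    refine (s.compat (v := v) c.left a).trans (Eq.trans ?_ (t.compat (v := v) c.left a).symm)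
    exact ((congrArg (s.1 y.left) hw.symm).trans (s.compat ψ.left w0'.hom).symm).trans
      ((congrArg (pull E M hE ψ.left) h0).trans ((t.compat ψ.left w0'.hom).trans (congrArg (t.1 y.left) hw)))
  have hP : IsBaseChange A' (kM.compLeft (Fin n)) := hkM.finitePow (Fin n)
  let Λ : A' ⊗[A] HomFam π E hE M z →ₗ[A'] HomFam π E hE M z' := β.liftBaseChange A'
  have hΛ : ∀ x, ι' (Λ x) = hP.equiv (ι.lTensor A' x) := fun x => by
    induction x using TensorProduct.induction_on with
    | zero => simp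
    | tmul a t => rw [LinearMap.lTensor_tmul, IsBaseChange.equiv_tmul, LinearMap.liftBaseChange_tmul, map_smul, hc]
    | add a b ha hb => simp [map_add, ha, hb]
  refine ⟨fun x y h => ?_, fun t' => ?_⟩
  · refine Module.Flat.lTensor_preserves_injective_linearMap ι hι (hP.equiv.injective ?_)
    rw [← hΛ, ← hΛ, h]
  · obtain ⟨J, _, s, h, hh⟩ := hspan (t'.1 w0'.left w0'.hom) (by
      refine (pull_fibFst hE ((fibMap π l).map p') _).trans (Eq.trans ?_ (pull_fibFst hE ((fibMap π l).map q') _).symm)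
      refine (t'.compat p'.left w0'.hom).trans (Eq.trans ?_ (t'.compat q'.left w0'.hom).symm)
      exact congrArg (t'.1 r'.left) ((CostructuredArrow.w p').trans (CostructuredArrow.w q').symm))
    refine ⟨∑ j, s j ⊗ₜ[A] famOfHom hE (h j), hι' ?_⟩
    show ι' (Λ _) = ι' t'
    rw [map_sum, map_sum]
    funext i
    refine Eq.trans ?_ (hh i).symm
    rw [Finset.sum_apply]
    refine Finset.sum_congr rfl fun j _ => ?_
    rw [LinearMap.liftBaseChange_tmul, map_smul, hc]
    rfl

end StPushLib
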