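import Groth.Agent.StPushLib.Apply

/-!
# Cancelling the second functor of a composite
-/

set_option autoImplicit false
set_option linter.style.haveILetI false
set_option backward.isDefEq.respectTransparency false
set_option backward.isDefEq.respectTransparency.types false
set_option maxHeartbeats 800000

universe u

open CategoryTheory CategoryTheory.Limits AlgebraicGeometry AlgSp FibCat FibLib AlgStLib IsoNatLib IsoNatSepLib Opposite StMod GenDescLib
open CategoryTheory.Functor (Fiber IsPreFibered IsStronglyCartesian)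

noncomputable section

namespace StPushLib

variable {S : Scheme.{u}} {𝒳 𝒴 𝒵 : AlgSt.Cat S} (f : 𝒳 ⥤ᵇ 𝒴) (g : 𝒴 ⥤ᵇ 𝒵) (η : 𝒴.obj)

/-- The category over an object into the category over its image. -/
def fibFun : fibCat f η ⥤ᵇ fibCat (BasedFunctor.comp f g) (g.obj η) where
  toFunctor :=
    { obj := fun x => CostructuredArrow.mk (S := (BasedFunctor.comp f g).toFunctor) (Y := x.left) (g.map x.hom)
      map := fun {x' x} φ => CostructuredArrow.homMk φ.left (by
        show g.map (f.map φ.left) ≫ g.map x.hom = g.map x'.hom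
        rw [← g.toFunctor.map_comp]
        exact congrArg g.map (CostructuredArrow.w φ))
      map_id := fun _ => CostructuredArrow.hom_ext _ _ rfl
      map_comp := fun _ _ => CostructuredArrow.hom_ext _ _ rfl }
  w := rfl

variable {f g η}

/-- The second object of the pair of an object over the image. -/
structure PairData (w : (fibCat (BasedFunctor.comp f g) (g.obj η)).obj) where
  /-- the base of the object over the image -/
  k : 𝒴.p.obj (f.obj w.left) ⟶ 𝒴.p.obj η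
  /-- the pullback -/
  η' : 𝒴.obj
  /-- its projection -/
  e : η' ⟶ η
  he : 𝒴.p.IsHomLift k e
  /-- the comparison -/
  θ : g.obj (f.obj w.left) ≅ g.obj η'
  hθ : 𝒵.p.IsHomLift (𝟙 (𝒴.p.obj (f.obj w.left))) θ.hom
  fac : θ.hom ≫ g.map e = w.hom

variable [IsFibGrpd 𝒳.p] [IsFibGrpd 𝒴.p] [IsFibGrpd 𝒵.p]

theorem exists_pairData (w : (fibCat (BasedFunctor.comp f g) (g.obj η)).obj) : Nonempty (PairData w) := by
  let k : 𝒴.p.obj (f.obj w.left) ⟶ 𝒴.p.obj η :=
    baseOver g (f.obj w.left) (η := g.obj η) w.hom ≫ eqToHom (g.w_obj η)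
  obtain ⟨η', e, he⟩ := FibLib.exists_lift 𝒴.p (a := η) rfl k
  have hβ : 𝒵.p.IsHomLift k (show g.obj (f.obj w.left) ⟶ g.obj η from w.hom) :=
    IsHomLift.of_fac' 𝒵.p k _ (g.w_obj _) (g.w_obj η) (by simp [k, baseOver])
  obtain ⟨θ, hθ, eθ⟩ := exists_fac (𝒳 := 𝒵) (g := 𝟙 (𝒴.p.obj (f.obj w.left))) (g.map e) (fun_lift g he)
    (show g.obj (f.obj w.left) ⟶ g.obj η from w.hom) (lift_congr (Category.id_comp k).symm hβ)
  haveI := hθ
  haveI : IsIso θ := isIso_of_isHomLift 𝒵.p (𝟙 (𝒴.p.obj (f.obj w.left))) θ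
  exact ⟨⟨k, η', e, he, asIso θ, hθ, eθ⟩⟩

variable {w : (fibCat (BasedFunctor.comp f g) (g.obj η)).obj} (P : PairData w)

/-- The pair as an object of the fibre product. -/
abbrev pairObj : (fp g g).obj := fpObj (F := g) (G := g) (f.obj w.left) P.η' P.θ P.hθ

/-- A pullback of the object of the source along a morphism to the first object. -/
structure LiftData (d : (fibCat (FibCat.diag g) (pairObj P)).obj) where
  /-- the base -/
  c : 𝒴.p.obj d.left ⟶ 𝒳.p.obj w.left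
  /-- the pullback -/
  x' : 𝒳.obj
  /-- its projection -/
  φ : x' ⟶ w.left
  hφ : 𝒳.p.IsHomLift c φ
  /-- the comparison -/
  ι : f.obj x' ≅ d.left
  hι : 𝒴.p.IsHomLift (𝟙 (𝒴.p.obj d.left)) ι.hom
  fac : ι.hom ≫ d.hom.hom.fst = f.map φ

omit [IsFibGrpd 𝒵.p] in
theorem exists_liftData (d : (fibCat (FibCat.diag g) (pairObj P)).obj) : Nonempty (LiftData P d) := by
  let a : d.left ⟶ f.obj w.left := d.hom.hom.fst
  let c : 𝒴.p.obj d.left ⟶ 𝒳.p.obj w.left := 𝒴.p.map a ≫ eqToHom (f.w_obj w.left)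
  obtain ⟨x', φ, hφ⟩ := FibLib.exists_lift 𝒳.p (a := w.left) rfl c
  have ha : 𝒴.p.IsHomLift c a := IsHomLift.of_fac' 𝒴.p c a rfl (f.w_obj w.left) (by simp [c])
  obtain ⟨ι, hι, eι⟩ := exists_fac (𝒳 := 𝒴) (g := 𝟙 (𝒴.p.obj d.left)) a ha (f.map φ)
    (lift_congr (Category.id_comp c).symm (fun_lift f hφ))
  haveI := hι
  haveI : IsIso ι := isIso_of_isHomLift 𝒴.p (𝟙 (𝒴.p.obj d.left)) ι
  exact ⟨⟨c, x', φ, hφ, asIso ι, hι, eι⟩⟩

/-- The chosen pullback. -/
def liftData (d : (fibCat (FibCat.diag g) (pairObj P)).obj) : LiftData P d := (exists_liftData P d).some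

omit [IsFibGrpd 𝒵.p] [IsFibGrpd 𝒳.p] [IsFibGrpd 𝒴.p] in
theorem map_diag_comm (d : (fibCat (FibCat.diag g) (pairObj P)).obj) :
    g.map d.hom.hom.fst ≫ P.θ.hom = g.map d.hom.hom.snd := d.hom.hom.w.trans (Category.id_comp _)

omit [IsFibGrpd 𝒵.p] [IsFibGrpd 𝒳.p] [IsFibGrpd 𝒴.p] in
theorem left_lift (d : (fibCat (FibCat.diag g) (pairObj P)).obj) {x' x : 𝒳.obj} (φ : x' ⟶ x) (hx : x = w.left)
    (c : 𝒴.p.obj d.left ⟶ 𝒳.p.obj x) (h : 𝒳.p.IsHomLift c φ) : 𝒳.p.obj x' = 𝒴.p.obj d.left :=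
  @IsHomLift.domain_eq _ _ _ _ 𝒳.p _ _ _ _ c φ h

/-- The object over the pair as an object over the object of the target. -/
def pairImgObj (d : (fibCat (FibCat.diag g) (pairObj P)).obj) : (fibCat (fibFun f g η) w).obj :=
  CostructuredArrow.mk (S := (fibFun f g η).toFunctor)
    (Y := CostructuredArrow.mk (S := f.toFunctor) (Y := (liftData P d).x')
      ((liftData P d).ι.hom ≫ d.hom.hom.snd ≫ P.e))
    (CostructuredArrow.homMk (liftData P d).φ (by
      show g.map (f.map (liftData P d).φ) ≫ w.hom = g.map ((liftData P d).ι.hom ≫ d.hom.hom.snd ≫ P.e)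
      rw [← (liftData P d).fac, ← P.fac, g.toFunctor.map_comp, g.toFunctor.map_comp, g.toFunctor.map_comp,
        Category.assoc, ← map_diag_comm, Category.assoc]))

omit [IsFibGrpd 𝒵.p] in
theorem exists_pairImgHom {d' d : (fibCat (FibCat.diag g) (pairObj P)).obj} (m : d' ⟶ d) :
    ∃ θ : (liftData P d').x' ⟶ (liftData P d).x', θ ≫ (liftData P d).φ = (liftData P d').φ ∧
      f.map θ ≫ (liftData P d).ι.hom = (liftData P d').ι.hom ≫ m.left := by
  let D := liftData P d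
  let D' := liftData P d'
  have hw : m.left ≫ d.hom.hom.fst = d'.hom.hom.fst := congrArg (fun t => t.hom.fst) (CostructuredArrow.w m)
  have ea : ∀ (D : LiftData P d), 𝒴.p.IsHomLift D.c d.hom.hom.fst := fun D => by
    haveI := D.hι
    haveI : 𝒴.p.IsHomLift (𝟙 (𝒴.p.obj d.left)) D.ι.inv := @IsHomLift.lift_id_inv _ _ _ _ 𝒴.p _ _ _ D.ι D.hι
    rw [← D.ι.inv_hom_id_assoc d.hom.hom.fst, D.fac]
    exact lift_congr (Category.id_comp _) (comp_lift ‹_› (fun_lift f D.hφ))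
  have ea' : 𝒴.p.IsHomLift (𝒴.p.map m.left ≫ D.c) d'.hom.hom.fst :=
    hw ▸ comp_lift (IsHomLift.map 𝒴.p m.left) (ea D)
  have hc : D'.c = 𝒴.p.map m.left ≫ D.c := by
    refine IsoNatLib.eq_of_lifts 𝒴.p d'.hom.hom.fst ?_ ea'
    haveI := D'.hι
    haveI : 𝒴.p.IsHomLift (𝟙 (𝒴.p.obj d'.left)) D'.ι.inv := @IsHomLift.lift_id_inv _ _ _ _ 𝒴.p _ _ _ D'.ι D'.hι
    rw [← D'.ι.inv_hom_id_assoc d'.hom.hom.fst, D'.fac]
    exact lift_congr (Category.id_comp _) (comp_lift ‹_› (fun_lift f D'.hφ))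
  obtain ⟨θ, hθ, eθ⟩ := exists_fac (𝒳 := 𝒳) (g := 𝒴.p.map m.left) D.φ D.hφ D'.φ (lift_congr hc D'.hφ)
  refine ⟨θ, eθ, eq_of_fac (ea D) (g := 𝒴.p.map m.left) ?_ ?_ ?_⟩
  · exact lift_congr (Category.comp_id _) (comp_lift (fun_lift f hθ) D.hι)
  · exact lift_congr (Category.id_comp _) (comp_lift D'.hι (IsHomLift.map 𝒴.p m.left))
  · rw [Category.assoc, D.fac, Category.assoc, hw, D'.fac, ← f.toFunctor.map_comp, eθ]

/-- The morphism over the object of the target. -/
def pairImgMap {d' d : (fibCat (FibCat.diag g) (pairObj P)).obj} (m : d' ⟶ d) : pairImgObj P d' ⟶ pairImgObj P d :=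
  CostructuredArrow.homMk (CostructuredArrow.homMk (exists_pairImgHom P m).choose (by
      show f.map (exists_pairImgHom P m).choose ≫ (liftData P d).ι.hom ≫ d.hom.hom.snd ≫ P.e =
        (liftData P d').ι.hom ≫ d'.hom.hom.snd ≫ P.e
      rw [reassoc_of% (exists_pairImgHom P m).choose_spec.2]
      refine Eq.trans ?_ (congrArg (fun t : (FibCat.diag g).obj d'.left ⟶ pairObj P => (liftData P d').ι.hom ≫ t.hom.snd ≫ P.e)
        (CostructuredArrow.w m))
      show _ = (liftData P d').ι.hom ≫ (m.left ≫ d.hom.hom.snd) ≫ P.e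
      rw [Category.assoc]))
    (CostructuredArrow.hom_ext _ _ (exists_pairImgHom P m).choose_spec.1)

omit [IsFibGrpd 𝒵.p] in
theorem pairImgMap_ext {d' d : (fibCat (FibCat.diag g) (pairObj P)).obj} (θ θ' : pairImgObj P d' ⟶ pairImgObj P d)
    (h : f.map θ.left.left ≫ (liftData P d).ι.hom = f.map θ'.left.left ≫ (liftData P d).ι.hom) : θ = θ' := by
  have h0 : f.map θ.left.left = f.map θ'.left.left := (cancel_mono _).1 h
  have hw : ∀ θ : pairImgObj P d' ⟶ pairImgObj P d, θ.left.left ≫ (liftData P d).φ = (liftData P d').φ := fun θ =>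
    congrArg CommaMorphism.left (CostructuredArrow.w θ)
  refine CostructuredArrow.hom_ext _ _ (CostructuredArrow.hom_ext _ _ ?_)
  refine TwDescLib.hom_ext_base (g := (liftData P d).φ) ?_ ((hw θ).trans (hw θ').symm)
  have h1 := congrArg (bmap 𝒴) h0
  rw [bmap_map_eq, bmap_map_eq] at h1
  exact (cancel_mono _).1 ((cancel_epi _).1 h1)

/-- The functor from the pairs. -/
def pairImg : fibCat (FibCat.diag g) (pairObj P) ⥤ᵇ fibCat (fibFun f g η) w where
  toFunctor :=
    { obj := pairImgObj P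
      map := pairImgMap P
      map_id := fun d => pairImgMap_ext P _ _ (by
        show f.map (exists_pairImgHom P (𝟙 d)).choose ≫ (liftData P d).ι.hom = f.map (𝟙 _) ≫ _
        rw [(exists_pairImgHom P (𝟙 d)).choose_spec.2, f.toFunctor.map_id, Category.id_comp]
        exact Category.comp_id _)
      map_comp := fun {d'' d' d} m n => pairImgMap_ext P _ _ (by
        show f.map (exists_pairImgHom P (m ≫ n)).choose ≫ (liftData P d).ι.hom =
          f.map ((exists_pairImgHom P m).choose ≫ (exists_pairImgHom P n).choose) ≫ _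
        rw [(exists_pairImgHom P (m ≫ n)).choose_spec.2, f.toFunctor.map_comp, Category.assoc,
          (exists_pairImgHom P n).choose_spec.2, reassoc_of% (exists_pairImgHom P m).choose_spec.2]
        rfl) }
  w := by
    refine CategoryTheory.Functor.ext (fun d => @IsHomLift.domain_eq _ _ _ _ 𝒳.p _ _ _ _ _ _ (liftData P d).hφ)
      (fun d' d m => ?_)
    let θ := (exists_pairImgHom P m).choose
    have e1 : 𝒴.p.IsHomLift (𝒴.p.map m.left) (f.map θ) := by
      have hi := @IsHomLift.lift_id_inv _ _ _ _ 𝒴.p _ _ _ (liftData P d).ι (liftData P d).hι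
      have h1 : f.map θ = ((liftData P d').ι.hom ≫ m.left) ≫ (liftData P d).ι.inv := by
        rw [← (exists_pairImgHom P m).choose_spec.2, Category.assoc, Iso.hom_inv_id, Category.comp_id]
      rw [h1]
      exact lift_congr (by simp) (comp_lift (comp_lift (liftData P d').hι (IsHomLift.map 𝒴.p m.left)) hi)
    haveI := e1
    haveI : 𝒳.p.IsHomLift (𝒴.p.map m.left) θ := (f.isHomLift_iff _ _).1 e1
    exact IsHomLift.fac' 𝒳.p (𝒴.p.map m.left) θ

omit [IsFibGrpd 𝒵.p] in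
theorem full_pairImg : (pairImg P).toFunctor.Full := by
  refine ⟨fun {d' d} θ => ?_⟩
  let D := liftData P d
  let D' := liftData P d'
  let θ0 : D'.x' ⟶ D.x' := θ.left.left
  have h1 : θ0 ≫ D.φ = D'.φ := congrArg CommaMorphism.left (CostructuredArrow.w θ)
  have h2 : f.map θ0 ≫ D.ι.hom ≫ d.hom.hom.snd ≫ P.e = D'.ι.hom ≫ d'.hom.hom.snd ≫ P.e := CostructuredArrow.w θ.left
  let n : d'.left ⟶ d.left := D'.ι.inv ≫ f.map θ0 ≫ D.ι.hom
  have hn1 : n ≫ d.hom.hom.fst = d'.hom.hom.fst := by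
    simp only [n, Category.assoc, D.fac]
    rw [← f.toFunctor.map_comp, h1, ← D'.fac, Iso.inv_hom_id_assoc]
  have hn2 : n ≫ d.hom.hom.snd = d'.hom.hom.snd := by
    have hsnd : ∀ d : (fibCat (FibCat.diag g) (pairObj P)).obj,
        bmap 𝒴 d.hom.hom.snd ≫ bmap 𝒴 P.e = bmap 𝒴 (d.hom.hom.snd ≫ P.e) := fun d => (bmap_comp _ _).symm
    refine eq_of_fac P.he (g := 𝒴.p.map d'.hom.hom.fst) ?_ ?_ ?_
    · have l1 : 𝒴.p.IsHomLift (𝒴.p.map d.hom.hom.fst) d.hom.hom.snd :=
        haveI : (fp g g).p.IsHomLift ((fp g g).p.map d.hom) d.hom := IsHomLift.map _ _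
        FibLib.isHomLift_snd ((fp g g).p.map d.hom) d.hom
      exact lift_congr (by rw [← Functor.map_comp, hn1]) (comp_lift (IsHomLift.map 𝒴.p n) l1)
    · exact haveI : (fp g g).p.IsHomLift ((fp g g).p.map d'.hom) d'.hom := IsHomLift.map _ _
        FibLib.isHomLift_snd ((fp g g).p.map d'.hom) d'.hom
    · simp only [n, Category.assoc, h2, Iso.inv_hom_id_assoc]
  refine ⟨CostructuredArrow.homMk n (fp_hom_ext hn1 hn2), pairImgMap_ext P _ _ ?_⟩
  show f.map (exists_pairImgHom P _).choose ≫ _ = f.map θ0 ≫ D.ι.hom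
  rw [(exists_pairImgHom P _).choose_spec.2]
  show D'.ι.hom ≫ D'.ι.inv ≫ f.map θ0 ≫ D.ι.hom = _
  rw [Iso.hom_inv_id_assoc]

theorem essSurj_pairImg : (pairImg P).toFunctor.EssSurj := by
  refine ⟨fun v => ?_⟩
  let x' : 𝒳.obj := v.left.left
  let φ : x' ⟶ w.left := v.hom.left
  let α : f.obj x' ⟶ η := v.left.hom
  have hφ : g.map (f.map φ) ≫ w.hom = g.map α := CostructuredArrow.w v.hom
  let q : 𝒴.p.obj (f.obj x') ⟶ 𝒴.p.obj (f.obj w.left) := 𝒴.p.map (f.map φ)
  have hgm : 𝒵.p.IsHomLift q (g.map (f.map φ)) := fun_lift g (IsHomLift.map 𝒴.p (f.map φ))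
  have hq : 𝒴.p.map α = q ≫ P.k := by
    refine IsoNatLib.eq_of_lifts 𝒵.p (g.map α) (fun_lift g (IsHomLift.map 𝒴.p α)) ?_
    rw [← hφ, ← P.fac]
    exact lift_congr (by rw [Category.id_comp]) (comp_lift hgm (comp_lift P.hθ (fun_lift g P.he)))
  obtain ⟨b, hb, eb⟩ := exists_fac (𝒳 := 𝒴) (g := q) P.e P.he α (lift_congr hq (IsHomLift.map 𝒴.p α))
  have hw : g.map (f.map φ) ≫ P.θ.hom = g.map b := by
    refine eq_of_fac (fun_lift g P.he) (g := q) ?_ (fun_lift g hb) ?_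
    · exact lift_congr (Category.comp_id q) (comp_lift hgm P.hθ)
    · rw [Category.assoc, P.fac, ← g.toFunctor.map_comp, eb, hφ]
  let d : (fibCat (FibCat.diag g) (pairObj P)).obj :=
    CostructuredArrow.mk (S := (FibCat.diag g).toFunctor) (Y := f.obj x')
      (fpHom (F := g) (G := g) (f.map φ) b (hw.trans (Category.id_comp _).symm))
  let D := liftData P d
  have hd : D.ι.hom ≫ f.map φ = f.map D.φ := D.fac
  have hφq : 𝒳.p.IsHomLift (eqToHom (f.w_obj x') ≫ 𝒳.p.map φ) φ :=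
    IsHomLift.of_fac' 𝒳.p _ φ (f.w_obj x').symm rfl (by simp)
  obtain ⟨ν, hν, eν⟩ := exists_fac (𝒳 := 𝒳) (g := 𝟙 (𝒴.p.obj d.left)) φ hφq D.φ (by
    refine lift_congr ?_ D.hφ
    refine IsoNatLib.eq_of_lifts 𝒴.p (f.map D.φ) (fun_lift f D.hφ) ?_
    rw [← hd]
    exact comp_lift D.hι (fun_lift f hφq))
  haveI := hν
  haveI : IsIso ν := isIso_of_isHomLift 𝒳.p (𝟙 (𝒴.p.obj d.left)) ν
  have hι : f.map ν = D.ι.hom := by
    refine eq_of_fac (fun_lift f hφq) (g := 𝟙 (𝒴.p.obj d.left)) (fun_lift f hν) D.hι ?_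
    rw [hd, ← f.toFunctor.map_comp, eν]
  refine ⟨d, ⟨CostructuredArrow.isoMk (CostructuredArrow.isoMk (asIso ν) ?_) (CostructuredArrow.hom_ext _ _ eν)⟩⟩
  show f.map ν ≫ α = D.ι.hom ≫ b ≫ P.e
  rw [hι, eb]

omit P in
/-- Generation relative to the first functor from the composite and the diagonal of the second. -/
theorem isRelGenFam_of_comp (h𝒳 : AlgSt.IsAlgStack Scheme.fppfPrecoverage 𝒳)
    (h𝒴 : AlgSt.IsAlgStack Scheme.fppfPrecoverage 𝒴) (h𝒵 : AlgSt.IsAlgStack Scheme.fppfPrecoverage 𝒵)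
    (hgqs : AlgSt.IsQuasiSeparatedMor g) {ι : Type u} (E : ι → QCoh 𝒳)
    (hh : IsRelGenFam (BasedFunctor.comp f g) E)
    (hO : IsRelGenFam (FibCat.diag g) (fun _ : PUnit.{u + 1} => OQ 𝒴)) : IsRelGenFam f E := by
  haveI : IsFibGrpd (fp g g).p := isFibGrpd_fp
  have hfp : AlgSt.IsAlgStack Scheme.fppfPrecoverage (fp g g) := isAlgStack_fp' h𝒴 h𝒴 h𝒵 g g
  have h1 : AlgSt.RepByAlgSpWith AlgSp.IsQuasiCompactMor (FibCat.diag g) :=
    repByAlgSpWith_mono (fun _ _ _ _ _ h => h.1) hgqs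
  have h2 : AlgSt.RepByAlgSpWith AlgSp.IsQuasiSeparatedMor (FibCat.diag g) :=
    repByAlgSpWith_mono (fun _ _ _ _ _ h => h.2) hgqs
  have hdqc : AlgSt.IsQuasiCompactMor Scheme.fppfPrecoverage (FibCat.diag g) :=
    (isQcM_iff_rep h𝒴 hfp (repByAlgSp1_of_with hgqs)).1 h1
  have hdqs : AlgSt.IsQuasiSeparatedMor (FibCat.diag g) :=
    (isQuasiSeparatedMor_iff_rep (repByAlgSp1_of_with hgqs)).2 h2
  intro η hη
  haveI : IsAffine (sch 𝒵 (g.obj η)) := by rw [sch_obj_eq g η]; exact hη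
  haveI := isFibGrpd_fibCat f η
  haveI := isFibGrpd_fibCat (BasedFunctor.comp f g) (g.obj η)
  obtain ⟨Mem, hMem⟩ := exists_flatSys_fibCat (BasedFunctor.comp f g) h𝒳 h𝒵 (g.obj η)
  have haff : ∀ {w : (fibCat (BasedFunctor.comp f g) (g.obj η)).obj} (P : PairData w), Mem w →
      IsAffine (sch (fp g g) (pairObj P)) := fun {w} P hw => by
    show IsAffine (sch 𝒴 (f.obj w.left))
    rw [sch_obj_eq f w.left]
    exact hMem.aff w hw
  refine isGenFam_of_iso (fun i => ?_) (isGenFam_comap (π := fibFun f g η) hMem (fun w hw => ?_)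
    (fun i => (comapQ (fibFst (BasedFunctor.comp f g) (g.obj η))).obj (E i)) (fun w hw => ?_) (hh (g.obj η) inferInstance)
    (isFinPres_O _))
  · exact (comapCompIso (fibFst (BasedFunctor.comp f g) (g.obj η)) (fibFun f g η) (E i).obj).symm
  · obtain ⟨P⟩ := exists_pairData w
    haveI := haff P hw
    haveI := isFibGrpd_fibCat (FibCat.diag g) (pairObj P)
    obtain ⟨w0, r, p, q, hw0, hr, hW⟩ := exists_chartData hdqc hdqs (pairObj P)
    haveI := full_pairImg P
    haveI := essSurj_pairImg P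
    exact ⟨_, _, _, _, isAffine_obj (pairImg P) _ hw0, isAffine_obj (pairImg P) _ hr,
      chart_of_equiv (pairImg P) (fibred_fibCat (f := fibFun f g η) w) hW⟩
  · obtain ⟨P⟩ := exists_pairData w
    haveI := isFibGrpd_fibCat (fibFun f g η) w
    haveI := full_pairImg P
    haveI := essSurj_pairImg P
    refine isGenFam_of_equiv (pairImg P) _ (isGenFam_of_iso (fun _ => ?_) (hO (pairObj P) (haff P hw)))
    exact comapOIso (fibFst (FibCat.diag g) (pairObj P)) ≪≫ (comapOIso (pairImg P)).symm ≪≫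
      (comapFunctor (pairImg P)).mapIso (comapOIso (fibFst (fibFun f g η) w)).symm

end StPushLib
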