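import Groth.Agent.StPushLib.Graph

/-!
# Relative generation along 2-isomorphic functors
-/

set_option autoImplicit false
set_option linter.style.haveILetI false
set_option backward.isDefEq.respectTransparency false
set_option backward.isDefEq.respectTransparency.types false
set_option maxHeartbeats 800000

universe u

open CategoryTheory CategoryTheory.Limits AlgebraicGeometry AlgSp FibCat FibLib AlgStLib Opposite StMod GenDescLib
open CategoryTheory.Functor (Fiber IsPreFibered IsStronglyCartesian)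

noncomputable section

namespace StPushLib

variable {S : Scheme.{u}} {𝒳 𝒵 : AlgSt.Cat S} {F F' : 𝒳 ⥤ᵇ 𝒵} (e : F ≅ F') (η : 𝒵.obj)

/-- The categories over an object of 2-isomorphic functors. -/
def fibIsoFun : fibCat F η ⥤ᵇ fibCat F' η where
  toFunctor :=
    { obj := fun x => CostructuredArrow.mk (S := F'.toFunctor) (Y := x.left) (e.inv.toNatTrans.app x.left ≫ x.hom)
      map := fun {x' x} φ => CostructuredArrow.homMk φ.left (by
        show F'.map φ.left ≫ e.inv.toNatTrans.app x.left ≫ x.hom = e.inv.toNatTrans.app x'.left ≫ x'.hom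
        rw [← Category.assoc, e.inv.toNatTrans.naturality, Category.assoc]
        exact congrArg (e.inv.toNatTrans.app x'.left ≫ ·) (CostructuredArrow.w φ))
      map_id := fun _ => CostructuredArrow.hom_ext _ _ rfl
      map_comp := fun _ _ => CostructuredArrow.hom_ext _ _ rfl }
  w := rfl

theorem app_inv_hom (x : 𝒳.obj) : e.inv.toNatTrans.app x ≫ e.hom.toNatTrans.app x = 𝟙 (F'.obj x) :=
  congrArg (fun t => t.toNatTrans.app x) e.inv_hom_id

theorem app_hom_inv (x : 𝒳.obj) : e.hom.toNatTrans.app x ≫ e.inv.toNatTrans.app x = 𝟙 (F.obj x) :=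
  congrArg (fun t => t.toNatTrans.app x) e.hom_inv_id

theorem full_fibIsoFun : (fibIsoFun e η).toFunctor.Full := by
  have key : ∀ {a' a : 𝒳.obj} (d : a' ⟶ a) (s' : F.obj a' ⟶ η) (s : F.obj a ⟶ η),
      F'.map d ≫ e.inv.toNatTrans.app a ≫ s = e.inv.toNatTrans.app a' ≫ s' → F.map d ≫ s = s' := fun {a' a} d s' s h => by
    have hn : e.hom.toNatTrans.app a' ≫ F'.map d = F.map d ≫ e.hom.toNatTrans.app a :=
      (e.hom.toNatTrans.naturality d).symm
    calc F.map d ≫ s = (F.map d ≫ e.hom.toNatTrans.app a) ≫ e.inv.toNatTrans.app a ≫ s := by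
          rw [Category.assoc, ← Category.assoc (e.hom.toNatTrans.app a), app_hom_inv, Category.id_comp]
      _ = e.hom.toNatTrans.app a' ≫ e.inv.toNatTrans.app a' ≫ s' := by rw [← hn, Category.assoc, h]
      _ = s' := by rw [← Category.assoc, app_hom_inv, Category.id_comp]
  exact ⟨fun {x' x} θ => ⟨CostructuredArrow.homMk θ.left (key θ.left x'.hom x.hom (CostructuredArrow.w θ)),
    CostructuredArrow.hom_ext _ _ rfl⟩⟩

theorem essSurj_fibIsoFun : (fibIsoFun e η).toFunctor.EssSurj := by
  refine ⟨fun v => ⟨CostructuredArrow.mk (S := F.toFunctor) (Y := v.left) (e.hom.toNatTrans.app v.left ≫ v.hom),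
    ⟨CostructuredArrow.isoMk (Iso.refl v.left) ?_⟩⟩⟩
  show F'.map (𝟙 v.left) ≫ v.hom = e.inv.toNatTrans.app v.left ≫ e.hom.toNatTrans.app v.left ≫ v.hom
  rw [← Category.assoc (e.inv.toNatTrans.app _), app_inv_hom, F'.toFunctor.map_id]

variable {η}

include e in
/-- Relative generation only depends on the functor up to a 2-isomorphism. -/
theorem isRelGenFam_congr [IsFibGrpd 𝒳.p] [IsFibGrpd 𝒵.p] {ι : Type u} {E : ι → QCoh 𝒳}
    (h : IsRelGenFam F E) : IsRelGenFam F' E := fun ζ hζ => by
  haveI := isFibGrpd_fibCat F' ζ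
  haveI := full_fibIsoFun e ζ
  haveI := essSurj_fibIsoFun e ζ
  refine isGenFam_of_equiv (fibIsoFun e ζ) _ (isGenFam_of_iso (fun i => ?_) (h ζ hζ))
  exact comapCompIso (fibFst F' ζ) (fibIsoFun e ζ) (E i).obj

end StPushLib
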