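import Groth.Agent.StPushLib.Push

/-!
# Objects above the members
-/

set_option autoImplicit false
set_option linter.style.haveILetI false
set_option backward.isDefEq.respectTransparency false
set_option backward.isDefEq.respectTransparency.types false
set_option maxHeartbeats 800000

universe u

open CategoryTheory CategoryTheory.Limits AlgebraicGeometry AlgSp FibCat FibLib AlgStLib Opposite StMod GenDescLib
open TwDescLib (IsFppf LocImage exists_obj_over liftTo liftTo_fac ind indIncl indHom)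

noncomputable section

namespace StPushLib

variable {S : Scheme.{u}} {V W : AlgSt.Cat S} (π : V ⥤ᵇ W) (Mem : W.obj → Prop)

/-- The objects mapping to a member. -/
def AboveMem : Type (u + 1) := {x : V.obj // ∃ z : {z // Mem z}, Nonempty (π.obj x ⟶ memObj z)}

/-- The underlying object. -/
def aboveObj (x : AboveMem π Mem) : V.obj := x.1

variable [IsFibGrpd V.p] [IsFibGrpd W.p] {π Mem}

/-- A cover of the image lifts to a cover. -/
theorem exists_liftCover (x : V.obj) {K : Type u} {y' : K → W.obj} (c : ∀ k, y' k ⟶ π.obj x)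
    (hc : IsFppf (fun k => bmap W (c k))) :
    ∃ (x' : K → V.obj) (d : ∀ k, x' k ⟶ x) (g : ∀ k, π.obj (x' k) ⟶ y' k),
      IsFppf (fun k => bmap V (d k)) ∧ ∀ k, g k ≫ c k = π.map (d k) := by
  choose x' d ε hε using fun k => exists_obj_over x (bmap W (c k) ≫ eqToHom (sch_obj_eq π x))
  let g : ∀ k, π.obj (x' k) ⟶ y' k := fun k => liftTo (c k) (π.map (d k))
    (eqToHom (sch_obj_eq π (x' k)) ≫ (ε k).hom) (by
      rw [bmap_map_eq', ← hε]
      simp)
  refine ⟨x', d, g, ⟨fun t => ?_, fun k => ?_, fun k => ?_⟩, fun k => liftTo_fac _ _ _ _⟩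
  · obtain ⟨k, s, hs⟩ := hc.surj (eqToHom (sch_obj_eq π x).symm t)
    refine ⟨k, (ε k).inv s, ?_⟩
    rw [← hε, Scheme.Hom.comp_apply, Scheme.Hom.comp_apply, ← Scheme.Hom.comp_apply (ε k).inv, Iso.inv_hom_id]
    show eqToHom (sch_obj_eq π x) (bmap W (c k) s) = t
    rw [hs, ← Scheme.Hom.comp_apply, eqToHom_trans, eqToHom_refl]
    rfl
  · haveI := hc.flat k
    rw [← hε]; infer_instance
  · haveI := hc.lfp k
    rw [← hε]; infer_instance
where
  bmap_map_eq' : ∀ {a b : V.obj} (k : a ⟶ b),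
      bmap W (π.map k) = eqToHom (sch_obj_eq π a) ≫ bmap V k ≫ eqToHom (sch_obj_eq π b).symm := fun {a b} k => by
    rw [← Category.assoc, ← bmap_map_comm π k rfl, Category.assoc, eqToHom_trans, eqToHom_refl, Category.comp_id]

theorem locImage_above (hMem : FlatSys Mem) : LocImage (aboveObj π Mem) := fun x => by
  obtain ⟨K, y', c, z, a, hz, hc⟩ := hMem.loc (π.obj x)
  obtain ⟨x', d, g, hd, -⟩ := exists_liftCover x c hc
  exact ⟨K, fun k => ⟨x' k, ⟨z k, hz k⟩, ⟨g k ≫ a k⟩⟩, d, hd⟩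

/-- A morphism of quasi-coherent modules vanishing on the members vanishes. -/
theorem eq_zero_of_members (hMem : FlatSys Mem) {F G : QCoh W} (a : F ⟶ G)
    (h : ∀ z : {z // Mem z}, a.hom.app (memObj z) = 0) : a = 0 := by
  refine InducedCategory.hom_ext (TwDescLib.comap_incl_hom_injective (locImage_f₁ hMem.relSys) G.property.1 fun y => ?_)
  obtain ⟨y, z, ⟨b⟩⟩ := y
  show a.hom.app y = 0
  rw [app_eq_pull F.obj G.obj F.property.1 b, h, pull_zero]

/-- A morphism vanishing on the objects above the members vanishes. -/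
theorem eq_zero_of_above (hMem : FlatSys Mem) {F G : QCoh V} (u : F ⟶ G)
    (h : ∀ (x : V.obj) (z : {z // Mem z}) (_ : π.obj x ⟶ memObj z), u.hom.app x = 0) : u = 0 := by
  refine InducedCategory.hom_ext (TwDescLib.comap_incl_hom_injective (locImage_above (π := π) hMem) G.property.1
    fun x => ?_)
  obtain ⟨x, z, ⟨b⟩⟩ := x
  exact h x z b

variable {E : Mod V} {hE : E.IsCartesian} {M : Mod V}

/-- A compatible system of families does not depend on the member. -/
theorem fam_indep (hMem : FlatSys Mem) (hM : M.IsCartesian) (s : ∀ z : {z // Mem z}, HomFam π E hE M (memObj z))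
    (hs : ∀ (z' z : {z // Mem z}) (l : memObj z' ⟶ memObj z), resFam l (s z) = s z') (x : V.obj)
    {z1 z2 : {z // Mem z}} (a : π.obj x ⟶ memObj z1) (b : π.obj x ⟶ memObj z2) :
    (s z1).1 x a = (s z2).1 x b := by
  obtain ⟨I, R, p1, p2, hA, -, -⟩ := hMem.relSys.rel z1 z2
  obtain ⟨K, y', c, i, e, hc, he⟩ := hA (π.obj x) a b
  obtain ⟨x', d, g, hd, hg⟩ := exists_liftCover x c hc
  refine eq_of_pull hE d hd.flat hd.surj hM fun k => ?_
  obtain ⟨h1, h2⟩ := he k
  have key : ∀ {z : {z // Mem z}} (a : π.obj x ⟶ memObj z) (p : memObj (R (i k)) ⟶ memObj z),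
      e k ≫ p = c k ≫ a → pull E M hE (d k) ((s z).1 x a) = (s (R (i k))).1 (x' k) (g k ≫ e k) := fun {z} a p hp => by
    rw [(s z).compat (d k) a, ← hs _ z p, resFam_val]
    refine congrArg ((s z).1 (x' k)) ?_
    rw [Category.assoc, hp, ← Category.assoc, hg]
  rw [key a (p1 (i k)) h1, key b (p2 (i k)) h2]

/-- A compatible system of families glues to a morphism. -/
theorem exists_hom_of_fam (hMem : FlatSys Mem) (hM : StMod.isQCoh V M)
    (s : ∀ z : {z // Mem z}, HomFam π E hE M (memObj z))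
    (hs : ∀ (z' z : {z // Mem z}) (l : memObj z' ⟶ memObj z), resFam l (s z) = s z') :
    ∃ h : E ⟶ M, ∀ (x : V.obj) (z : {z // Mem z}) (a : π.obj x ⟶ memObj z), h.app x = (s z).1 x a := by
  have hex : ∀ x : AboveMem π Mem, ∃ v : E.obj (aboveObj π Mem x) ⟶ M.obj (aboveObj π Mem x),
      ∀ (z : {z // Mem z}) (a : π.obj (aboveObj π Mem x) ⟶ memObj z), v = (s z).1 _ a := fun x => by
    obtain ⟨z0, ⟨a0⟩⟩ := x.2
    exact ⟨(s z0).1 x.1 a0, fun z a => fam_indep hMem hM.1 s hs x.1 a0 a⟩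
  choose v hv using hex
  let ψ : Mod.comap (indIncl (aboveObj π Mem)) E ⟶ Mod.comap (indIncl (aboveObj π Mem)) M :=
    ⟨fun x => v x, fun {x' x} φ g hg => by
      subst hg
      obtain ⟨l⟩ := φ
      have h1 : ∀ G : Mod V, (Mod.comap (indIncl (aboveObj π Mem)) G).map
          (indHom (f := aboveObj π Mem) (w' := x') (w := x) l) rfl = G.map l rfl := fun G => by
        rw [Mod.comap_map]; exact castMap_rfl_self _ _
      refine (congrArg (· ≫ _) (h1 E)).trans (Eq.trans ?_ (congrArg (v x ≫ ·) (h1 M)).symm)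
      refine (eq_pull_iff E M hE l (v x) (v x')).1 ?_
      obtain ⟨z, ⟨a⟩⟩ := x.2
      rw [hv x z a, hv x' z (π.map l ≫ a)]
      exact ((s z).compat l a).symm⟩
  obtain ⟨h, hh⟩ := TwDescLib.exists_hom_of_incl (locImage_above hMem) hM ψ
  exact ⟨h, fun x z a => (hh ⟨x, z, ⟨a⟩⟩).trans (hv ⟨x, z, ⟨a⟩⟩ z a)⟩

end StPushLib
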