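import Groth.Agent.StPushLib.Trans

/-!
# Quasi-coherent modules given on the members extend
-/

set_option autoImplicit false
set_option linter.all false
set_option backward.isDefEq.respectTransparency false
set_option backward.isDefEq.respectTransparency.types false
set_option maxHeartbeats 800000

noncomputable section

universe u v w t

open CategoryTheory CategoryTheory.Limits AlgebraicGeometry StMod TwDescLib
open KFlatLib (pb)

namespace StPushLib

variable {S : Scheme.{u}} {W : BasedCategory.{v, w} (Over S)} [FibCat.IsFibGrpd W.p] {P : Type t} {f : P → W.obj}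

/-- The objects with a morphism to a member. -/
def W₁ (f : P → W.obj) : Type _ := {y : W.obj // ∃ z, Nonempty (y ⟶ f z)}

/-- The underlying object. -/
def f₁ (f : P → W.obj) (y : W₁ f) : W.obj := y.1

/-- A member under an object. -/
def zOf (y : W₁ f) : P := y.2.choose

/-- The morphism to it. -/
def aOf (y : W₁ f) : f₁ f y ⟶ f (zOf y) := y.2.choose_spec.some

/-- A member as an object. -/
def ofMem (z : P) : W₁ f := ⟨f z, z, ⟨𝟙 _⟩⟩

omit [FibCat.IsFibGrpd W.p] in
theorem locImage_f₁ (hf : RelSys f) : LocImage (f₁ f) := fun y => by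
  obtain ⟨K, y', c, z, e, hc⟩ := hf.loc y
  exact ⟨K, fun k => ⟨y' k, z k, ⟨e k⟩⟩, c, hc⟩

variable (hf : RelSys f) (K : StMod.Mod (ind f)) (hK : StMod.isQCoh (ind f) K)

/-- The value on an object over a member. -/
def Q₁ (y : W₁ f) : (sch W (f₁ f y)).Modules := pb (bmap W (aOf y)) (K.obj (zOf y))

/-- The arrow to the member. -/
def toMem (y : W₁ f) : ob (f₁ f y) (Q₁ K y) ⟶ wTot K (zOf y) := can (bmap W (aOf y)) (K.obj (zOf y))

include hK in
theorem isQCoh_Q₁ (y : W₁ f) : Coh.IsQCoh (Q₁ K y) :=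
  haveI := hK.2 (zOf y)
  KFlatLib.isQCoh_pullback _ _

include hf hK in
theorem exists_arr {y' y : W₁ f} (φ : f₁ f y' ⟶ f₁ f y) :
    ∃ A : ob (f₁ f y') (Q₁ K y') ⟶ ob (f₁ f y) (Q₁ K y), A.g = bmap W φ ∧ Cart A ∧
      Moved K (aOf y') (φ ≫ aOf y) (toMem K y') (A ≫ toMem K y) := by
  obtain ⟨t, ht, htc⟩ := exists_moved K hf hK.1 (aOf y') (φ ≫ aOf y) (isQCoh_Q₁ K hK y') (toMem K y') rfl
  let A := (cart_can (bmap W (aOf y)) (K.obj (zOf y))).lift t (bmap W φ) (by rw [ht.g, bmap_comp]; rfl)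
  have hA : A ≫ toMem K y = t := Cart.fac _ _ _ _
  refine ⟨A, Cart.lift_g _ _ _ _, Cart.of_comp (b := toMem K y) ?_ (cart_can _ _), ?_⟩
  · rw [hA]; exact htc (cart_can _ _)
  · rw [hA]; exact ht

include hf hK in
theorem exists_mod :
    ∃ G : QCoh W, Nonempty (K ≅ Mod.comap (indIncl f) G.obj) := by
  choose A hAg hAc hA using fun (y' y : W₁ f) (φ : f₁ f y' ⟶ f₁ f y) => exists_arr hf K hK φ
  have huniq : ∀ {y' y : W₁ f} (φ : f₁ f y' ⟶ f₁ f y) (B : ob (f₁ f y') (Q₁ K y') ⟶ ob (f₁ f y) (Q₁ K y)),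
      B.g = bmap W φ → Moved K (aOf y') (φ ≫ aOf y) (toMem K y') (B ≫ toMem K y) → A y' y φ = B :=
    fun {y' y} φ B hB hBm => (cart_can _ _).cancel ((hAg _ _ φ).trans hB.symm)
      (Moved.unique K hf hK.1 (isQCoh_Q₁ K hK y') rfl (hA _ _ φ) hBm)
  let M : StMod.Mod (ind (f₁ f)) := modOfArr (𝒴 := ind (f₁ f)) (fun y => Q₁ K y)
    (fun {y' y} φ => A y' y φ.hom) (fun {y' y} φ => hAg y' y φ.hom)
    (fun y => huniq (y' := y) (y := y) (𝟙 (f₁ f y)) (𝟙 _) (bmap_id _).symm (by
      simpa only [Category.id_comp] using Moved.refl K hf hK.1 (aOf y) (toMem K y) rfl))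
    (fun {y'' y' y} ψ φ => huniq (y' := y'') (y := y) (ψ.hom ≫ φ.hom) (A y'' y' ψ.hom ≫ A y' y φ.hom)
      (by rw [comp_g, hAg, hAg]; exact (bmap_comp _ _).symm) (by
      have h1 := (hA y' y φ.hom).comp K ψ.hom (A y'' y' ψ.hom) (hAg _ _ _)
      simpa only [Category.assoc] using Moved.trans K hf hK.1 rfl (hA y'' y' ψ.hom) h1))
  have hM : ∀ {y' y : W₁ f} (l : f₁ f y' ⟶ f₁ f y), mA M l = A y' y l := fun {y' y} l =>
    totMap_modOfArr (𝒴 := ind (f₁ f)) _ _ _ _ _ (indHom (f := f₁ f) (w' := y') (w := y) l)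
  have hMq : StMod.isQCoh (ind (f₁ f)) M := ⟨fun y' y φ g hg => by
    subst hg
    have : Cart (totMap M φ) := by
      rw [totMap_modOfArr]
      exact hAc y' y φ.hom
    exact this, fun y => isQCoh_Q₁ K hK y⟩
  obtain ⟨G, ⟨e⟩⟩ := exists_comap_iso (locImage_f₁ hf) M hMq
  refine ⟨G, ?_⟩
  let G' := Mod.comap (indIncl (f₁ f)) G.obj
  -- the arrows at the members
  choose t ht htc using fun z : P =>
    exists_moved K hf hK.1 (aOf (ofMem (f := f) z)) (𝟙 (f z)) (isQCoh_Q₁ K hK (ofMem z)) (toMem K (ofMem z)) rfl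
  haveI : ∀ y, IsIso (e.inv.app y) := fun y =>
    ⟨e.hom.app y, congrArg (fun u => Mod.Hom.app u y) e.inv_hom_id, congrArg (fun u => Mod.Hom.app u y) e.hom_inv_id⟩
  refine exists_iso_of_arr (fun z : P => vert (e.inv.app (ofMem (f := f) z)) ≫ t z)
    (fun z => by rw [comp_g, vert_g, (ht z).g]; exact (Category.id_comp _).trans (bmap_id _))
    (fun z => (cart_vert _).comp (htc z (cart_can _ _))) fun {z' z} l => ?_
  obtain ⟨l⟩ := l
  have hnat : totMap (Mod.comap (indIncl f) G.obj) (indHom l) ≫ vert (e.inv.app (ofMem z)) =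
      vert (e.inv.app (ofMem z')) ≫ totMap M (indHom (f := f₁ f) (w' := ofMem z') (w := ofMem z) l) := by
    refine Eq.trans ?_ (totMap_app e.inv (indHom (f := f₁ f) (w' := ofMem z') (w := ofMem z) l)).symm
    refine congrArg (· ≫ vert (e.inv.app (ofMem z))) ?_
    exact (totMap_comap_incl (f := f) G.obj l).trans
      (totMap_comap_incl (f := f₁ f) (w' := ofMem z') (w := ofMem z) G.obj l).symm
  show (vert (e.inv.app (ofMem z')) ≫ t z') ≫ mA K l =
    totMap (Mod.comap (indIncl f) G.obj) (indHom l) ≫ vert (e.inv.app (ofMem z)) ≫ t z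
  rw [reassoc_of% hnat, Category.assoc]
  refine congrArg (vert (e.inv.app (ofMem z')) ≫ ·) ?_
  rw [show totMap M (indHom (f := f₁ f) (w' := ofMem z') (w := ofMem z) l) = A (ofMem z') (ofMem z) l from hM (y' := ofMem z') (y := ofMem z) l]
  -- both arrows are the moved one
  refine Moved.unique K hf hK.1 (isQCoh_Q₁ K hK (ofMem z')) (s := toMem K (ofMem z')) rfl (a := aOf (ofMem (f := f) z')) (b := l) ?_ ?_
  · refine Moved.trans K hf hK.1 rfl (ht z') ?_
    refine ⟨by rw [comp_g, (ht z').g, mA_g, ← bmap_comp]; exact congrArg (bmap W) (Category.id_comp l), fun y' c w e' p1 p2 h1 h2 N' d hN hd r hr hrs => ?_⟩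
    rw [← Category.assoc d, ← hrs, Category.assoc, ← mA_comp]
    refine comp_mA_eq K hf hK.1 e' _ _ ?_ r hr
    rw [reassoc_of% h1, h2]; exact congrArg (c ≫ ·) (Category.id_comp l).symm
  · have h1 := (ht z).comp K l (A (ofMem z') (ofMem z) l) (hAg _ _ _)
    have h2 := Moved.trans K hf hK.1 rfl (hA (ofMem z') (ofMem z) l) h1
    exact congrArg (fun m => Moved K (aOf (ofMem (f := f) z')) m (toMem K (ofMem z')) (A (ofMem z') (ofMem z) l ≫ t z))
      (Category.comp_id l) |>.mp h2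

end StPushLib
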