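import Groth.Agent.StPushLib.Cover

/-!
# Generation by a family on the source from generation on the fibres
-/

set_option autoImplicit false
set_option linter.style.haveILetI false
set_option backward.isDefEq.respectTransparency false
set_option backward.isDefEq.respectTransparency.types false
set_option maxHeartbeats 800000

universe u

open CategoryTheory CategoryTheory.Limits AlgebraicGeometry AlgSp FibCat FibLib AlgStLib Opposite StMod GenDescLib
open CohAffLib (oneSec hom_ext_one mapTop_oneSec)

noncomputable section

namespace StPushLib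

variable {S : Scheme.{u}} {V W : AlgSt.Cat S} [IsFibGrpd V.p] [IsFibGrpd W.p] {π : V ⥤ᵇ W} {Mem : W.obj → Prop}

/-- Generation by a family of finitely presented modules passes from the fibres to the source. -/
theorem isGenFam_of_fibres (hMem : FlatSys Mem) (hch : HasCharts π Mem) {ι : Type u} (E : ι → QCoh V)
    (hEfp : ∀ i, (E i).obj.IsFinPres)
    (hE : ∀ z, Mem z → IsGenFam (fun i => (comapQ (fibFst π z)).obj (E i)))
    (hO : IsGenFam (fun _ : PUnit.{u + 1} => OQ W)) : IsGenFam E := by
  rw [isGenFam_iff]
  rw [isGenFam_iff] at hO
  intro M N u hu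
  have h0 : ∀ (i : ι) (z : {z // Mem z}) (t : HomFam π (E i).obj (E i).property.1 M.obj (memObj z)),
      mapFam u.hom t = 0 := by
    intro i
    obtain ⟨P⟩ := exists_push (E := (E i).obj) (hE := (E i).property.1) hMem hch (E i).property.2 (hEfp i) M.property
    obtain ⟨P'⟩ := exists_push (E := (E i).obj) (hE := (E i).property.1) hMem hch (E i).property.2 (hEfp i) N.property
    obtain ⟨a, ha⟩ := P.exists_map hMem P' u.hom
    have ha0 : a = 0 := hO a fun _ φ => by
      let s := fun z : {z // Mem z} => (P.ι z).symm ((φ.app (memObj z)).app ⊤ (oneSec (memObj z)))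
      have hs : ∀ (z' z : {z // Mem z}) (l : memObj z' ⟶ memObj z), resFam l (s z) = s z' := fun z' z l => by
        apply (P.ι z').injective
        rw [← P.res]
        simp only [s, AddEquiv.apply_symm_apply]
        exact (Mod.mapTop_app φ l _).trans (congrArg _ (mapTop_oneSec l))
      obtain ⟨h, hh⟩ := exists_hom_of_fam hMem M.property s hs
      have h1 : ∀ z, (φ ≫ a.hom).app (memObj z) = 0 := fun z => by
        refine hom_ext_one P'.G.obj ?_
        show (a.hom.app (memObj z)).app ⊤ ((φ.app (memObj z)).app ⊤ (oneSec (memObj z))) = 0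
        rw [← (P.ι z).apply_symm_apply ((φ.app (memObj z)).app ⊤ (oneSec (memObj z))), ha]
        rw [show mapFam u.hom (s z) = 0 from HomFam.ext fun v b => by
          rw [mapFam_val, HomFam.zero_val, ← hh v z b]
          exact congr(($(hu i h)).app v)]
        exact map_zero _
      have h2 := eq_zero_of_members hMem (ObjectProperty.homMk (φ ≫ a.hom) : OQ W ⟶ P'.G) h1
      exact congrArg InducedCategory.Hom.hom h2
    intro z t
    refine (P'.ι z).injective ?_
    rw [← ha, ha0, map_zero]
    rfl
  refine eq_zero_of_above (π := π) hMem u fun x z b => ?_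
  have h1 : (comapQ (fibFst π (memObj z))).map u = 0 :=
    (isGenFam_iff _).1 (hE (memObj z) z.2) _ fun i φ => by
      refine Mod.hom_ext fun y => ?_
      exact congrArg (fun T : HomFam π (E i).obj (E i).property.1 N.obj (memObj z) => T.1 y.left y.hom)
        (h0 i z (famOfHom (E i).property.1 φ))
  exact congrArg (fun T : (comapQ (fibFst π (memObj z))).obj M ⟶ (comapQ (fibFst π (memObj z))).obj N =>
    T.hom.app (CostructuredArrow.mk (S := π.toFunctor) (Y := x) b)) h1

end StPushLib
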