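import Groth.Agent.StPushLib.Sys
import Groth.Agent.QuotRepLib.Saturate

/-!
# Charts of the pairs of morphisms to two objects
-/

set_option autoImplicit false
set_option linter.all false
set_option backward.isDefEq.respectTransparency false
set_option backward.isDefEq.respectTransparency.types false
set_option maxHeartbeats 800000

noncomputable section

universe u v w

open CategoryTheory CategoryTheory.Limits AlgebraicGeometry StMod TwDescLib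

namespace StPushLib

variable {S : Scheme.{u}} {W : BasedCategory.{v, w} (Over S)}

/-- `(R, p, q)` is etale surjective over the pairs of morphisms to `z₁` and `z₂`. -/
def RelAtlas {z₁ z₂ R : W.obj} (p : R ⟶ z₁) (q : R ⟶ z₂) : Prop :=
  ∀ (y : W.obj) (a : y ⟶ z₁) (b : y ⟶ z₂), ∃ (y' : W.obj) (c : y' ⟶ y) (e : y' ⟶ R),
    Etale (bmap W c) ∧ Surjective (bmap W c) ∧ e ≫ p = c ≫ a ∧ e ≫ q = c ≫ b ∧
      ∀ (y'' : W.obj) (d : y'' ⟶ y) (e' : y'' ⟶ R), e' ≫ p = d ≫ a → e' ≫ q = d ≫ b →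
        ∃! θ : y'' ⟶ y', θ ≫ c = d ∧ θ ≫ e = e'

theorem RelAtlas.symm {z₁ z₂ R : W.obj} {p : R ⟶ z₁} {q : R ⟶ z₂} (h : RelAtlas p q) : RelAtlas q p :=
  fun y a b => by
    obtain ⟨y', c, e, hc, hs, h1, h2, hu⟩ := h y b a
    exact ⟨y', c, e, hc, hs, h2, h1, fun y'' d e' h3 h4 => hu y'' d e' h4 h3⟩

theorem isIso_bmap {x' x : W.obj} (φ : x' ⟶ x) [IsIso φ] : IsIso (bmap W φ) :=
  ⟨bmap W (inv φ), by rw [← bmap_comp, IsIso.hom_inv_id, bmap_id], by rw [← bmap_comp, IsIso.inv_hom_id, bmap_id]⟩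

/-- The pairs with equal images have two etale surjective projections. -/
theorem RelAtlas.exists_sq {z₁ z₂ R R' : W.obj} {p : R ⟶ z₁} {q : R ⟶ z₂} {p' : R' ⟶ z₁} {q' : R' ⟶ z₂}
    (h : RelAtlas p q) (h' : RelAtlas p' q') :
    ∃ (y : W.obj) (c : y ⟶ R') (e : y ⟶ R), Etale (bmap W c) ∧ Surjective (bmap W c) ∧ Etale (bmap W e) ∧
      Surjective (bmap W e) ∧ e ≫ p = c ≫ p' ∧ e ≫ q = c ≫ q' ∧
      ∀ (y'' : W.obj) (d : y'' ⟶ R') (e' : y'' ⟶ R), e' ≫ p = d ≫ p' → e' ≫ q = d ≫ q' →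
        ∃ θ : y'' ⟶ y, θ ≫ c = d ∧ θ ≫ e = e' := by
  obtain ⟨y, c, e, hc, hs, h1, h2, hu⟩ := h R' p' q'
  obtain ⟨y', c', e', hc', hs', h1', h2', hu'⟩ := h' R p q
  obtain ⟨θ, ⟨t1, t2⟩, -⟩ := hu' y e c h1.symm h2.symm
  obtain ⟨θ', ⟨t1', t2'⟩, -⟩ := hu y' e' c' h1'.symm h2'.symm
  have i1 : θ ≫ θ' = 𝟙 y := (hu y c e h1 h2).unique
    ⟨by rw [Category.assoc, t1', t2], by rw [Category.assoc, t2', t1]⟩ ⟨Category.id_comp _, Category.id_comp _⟩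
  have i2 : θ' ≫ θ = 𝟙 y' := (hu' y' c' e' h1' h2').unique
    ⟨by rw [Category.assoc, t1, t2'], by rw [Category.assoc, t2, t1']⟩ ⟨Category.id_comp _, Category.id_comp _⟩
  haveI : IsIso θ := ⟨θ', i1, i2⟩
  haveI := isIso_bmap θ
  haveI := hc'; haveI := hs'
  refine ⟨y, c, e, hc, hs, ?_, ?_, h1, h2, fun y'' d e'' h3 h4 => ?_⟩
  · rw [← t1, bmap_comp]; infer_instance
  · rw [← t1, bmap_comp]; infer_instance
  · obtain ⟨θ0, hθ0, -⟩ := hu y'' d e'' h3 h4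
    exact ⟨θ0, hθ0⟩

/-- Flatness passes to the other projection. -/
theorem RelAtlas.flat_snd {z R : W.obj} {p q : R ⟶ z} (h : RelAtlas p q) (hp : Flat (bmap W p)) :
    Flat (bmap W q) := by
  obtain ⟨y, c, e, hc, hs, he, -, h1, -, -⟩ := h.exists_sq h.symm
  haveI := hc; haveI := hs; haveI := he; haveI := hp
  haveI : Flat (bmap W c ≫ bmap W q) := by
    rw [← bmap_comp, ← h1, bmap_comp]; infer_instance
  exact Groth.Agent.QuotRep.flat_of_comp_surjective (bmap W c) _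

variable [FibCat.IsFibGrpd W.p]

/-- Fibre products along morphisms in a category fibred in groupoids. -/
theorem exists_fibProd {x₁ x₂ x : W.obj} (k₁ : x₁ ⟶ x) (k₂ : x₂ ⟶ x) :
    ∃ (o : W.obj) (π₁ : o ⟶ x₁) (π₂ : o ⟶ x₂), π₁ ≫ k₁ = π₂ ≫ k₂ ∧
      IsPullback (bmap W π₁) (bmap W π₂) (bmap W k₁) (bmap W k₂) ∧
      ∀ (y : W.obj) (a₁ : y ⟶ x₁) (a₂ : y ⟶ x₂), a₁ ≫ k₁ = a₂ ≫ k₂ →
        ∃! θ : y ⟶ o, θ ≫ π₁ = a₁ ∧ θ ≫ π₂ = a₂ := by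
  obtain ⟨o, π₁, ε, hε⟩ := exists_obj_over x₁ (pullback.fst (bmap W k₁) (bmap W k₂))
  let π₂ : o ⟶ x₂ := liftTo k₂ (π₁ ≫ k₁) (ε.hom ≫ pullback.snd _ _) (by
    rw [Category.assoc, ← pullback.condition, ← Category.assoc, hε, bmap_comp])
  have h0 : π₁ ≫ k₁ = π₂ ≫ k₂ := (liftTo_fac _ _ _ _).symm
  have hsq : IsPullback (bmap W π₁) (bmap W π₂) (bmap W k₁) (bmap W k₂) :=
    IsPullback.of_iso_pullback ⟨by rw [← bmap_comp, ← bmap_comp, h0]⟩ ε hε (bmap_liftTo _ _ _ _).symm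
  refine ⟨o, π₁, π₂, h0, hsq, fun y a₁ a₂ ha => ?_⟩
  let ρ := hsq.lift (bmap W a₁) (bmap W a₂) (by rw [← bmap_comp, ← bmap_comp, ha])
  refine ⟨liftTo π₁ a₁ ρ (hsq.lift_fst _ _ _), ⟨liftTo_fac _ _ _ _, ?_⟩, fun θ' hθ' => ?_⟩
  · refine hom_ext_base (g := k₂) ?_ ?_
    · rw [bmap_comp, bmap_liftTo]; exact hsq.lift_snd _ _ _
    · rw [Category.assoc, ← h0, liftTo_fac_assoc, ha]
  · refine hom_ext_base (g := π₁) ?_ (hθ'.1.trans (liftTo_fac _ _ _ _).symm)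
    rw [bmap_liftTo]
    refine hsq.hom_ext ?_ ?_
    · rw [hsq.lift_fst, ← bmap_comp, hθ'.1]
    · rw [hsq.lift_snd, ← bmap_comp, hθ'.2]

/-- Restricting the first target. -/
theorem RelAtlas.comap {z₁ z₂ R z₁' : W.obj} {p : R ⟶ z₁} {q : R ⟶ z₂} (h : RelAtlas p q) (a₁ : z₁' ⟶ z₁) :
    ∃ (R' : W.obj) (π : R' ⟶ z₁') (ρ : R' ⟶ R), RelAtlas π (ρ ≫ q) ∧
      IsPullback (bmap W π) (bmap W ρ) (bmap W a₁) (bmap W p) := by
  obtain ⟨R', π, ρ, h0, hsq, hu⟩ := exists_fibProd a₁ p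
  refine ⟨R', π, ρ, fun y a b => ?_, hsq⟩
  obtain ⟨y', c, e, hc, hs, h1, h2, hu'⟩ := h y (a ≫ a₁) b
  obtain ⟨e₁, ⟨he1, he2⟩, -⟩ := hu y' (c ≫ a) e (by rw [Category.assoc, h1])
  refine ⟨y', c, e₁, hc, hs, he1, by rw [reassoc_of% he2, h2], fun y'' d e' h3 h4 => ?_⟩
  have h3' : (e' ≫ ρ) ≫ p = d ≫ a ≫ a₁ := by rw [Category.assoc, ← h0, reassoc_of% h3]
  have h4' : (e' ≫ ρ) ≫ q = d ≫ b := by rw [Category.assoc, h4]
  obtain ⟨θ, ⟨ht1, ht2⟩, huθ⟩ := hu' y'' d (e' ≫ ρ) h3' h4'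
  refine ⟨θ, ⟨ht1, ?_⟩, fun θ' hθ' => huθ θ' ⟨hθ'.1, by rw [← he2, reassoc_of% hθ'.2]⟩⟩
  refine (hu y'' (d ≫ a) (e' ≫ ρ) (by rw [h3', Category.assoc])).unique ⟨?_, ?_⟩ ⟨h3, rfl⟩
  · rw [Category.assoc, he1, reassoc_of% ht1]
  · rw [Category.assoc, he2, ht2]

/-- A chart over any two objects with flat morphisms to the target of a flat chart. -/
theorem RelAtlas.exists_flat {z R z₁ z₂ : W.obj} {p q : R ⟶ z} (h : RelAtlas p q) (hp : Flat (bmap W p))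
    (a₁ : z₁ ⟶ z) (ha₁ : Flat (bmap W a₁)) (a₂ : z₂ ⟶ z) (ha₂ : Flat (bmap W a₂)) :
    ∃ (R' : W.obj) (p' : R' ⟶ z₁) (q' : R' ⟶ z₂), RelAtlas p' q' ∧ Flat (bmap W p') ∧ Flat (bmap W q') := by
  haveI := ha₁; haveI := ha₂; haveI := hp; haveI := h.flat_snd hp
  obtain ⟨R₁, π₁, ρ₁, h₁, sq₁⟩ := h.comap a₁
  haveI : Flat (bmap W π₁) := MorphismProperty.of_isPullback (P := @Flat) sq₁.flip inferInstance
  haveI : Flat (bmap W ρ₁) := MorphismProperty.of_isPullback (P := @Flat) sq₁ inferInstance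
  haveI : Flat (bmap W (ρ₁ ≫ q)) := by rw [bmap_comp]; infer_instance
  obtain ⟨R₂, π₂, ρ₂, h₂, sq₂⟩ := h₁.symm.comap a₂
  haveI : Flat (bmap W π₂) := MorphismProperty.of_isPullback (P := @Flat) sq₂.flip inferInstance
  haveI : Flat (bmap W ρ₂) := MorphismProperty.of_isPullback (P := @Flat) sq₂ inferInstance
  exact ⟨R₂, ρ₂ ≫ π₁, π₂, h₂.symm, by rw [bmap_comp]; infer_instance, inferInstance⟩

end StPushLib
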