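import Groth.Agent.TwDescLib.Equiv

/-!
# Families of objects through which all objects factor locally
-/

set_option autoImplicit false
set_option linter.all false
set_option backward.isDefEq.respectTransparency false
set_option backward.isDefEq.respectTransparency.types false
set_option maxHeartbeats 800000

noncomputable section

universe u v w t

open CategoryTheory CategoryTheory.Limits AlgebraicGeometry StMod TwDescLib
open KFlatLib (pb)

namespace StPushLib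

variable {S : Scheme.{u}} {W : BasedCategory.{v, w} (Over S)} {P : Type t}

/-- A family of objects through which objects, pairs and equal pairs of morphisms factor locally. -/
structure RelSys (f : P → W.obj) : Prop where
  loc : ∀ y : W.obj, ∃ (K : Type u) (y' : K → W.obj) (c : ∀ k, y' k ⟶ y) (z : K → P) (_ : ∀ k, y' k ⟶ f (z k)),
    IsFppf (fun k => bmap W (c k))
  rel : ∀ z1 z2 : P, ∃ (I : Type u) (R : I → P) (p1 : ∀ i, f (R i) ⟶ f z1) (p2 : ∀ i, f (R i) ⟶ f z2),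
    (∀ (y : W.obj) (a : y ⟶ f z1) (b : y ⟶ f z2), ∃ (K : Type u) (y' : K → W.obj) (c : ∀ k, y' k ⟶ y) (i : K → I)
      (e : ∀ k, y' k ⟶ f (R (i k))), IsFppf (fun k => bmap W (c k)) ∧
        ∀ k, e k ≫ p1 (i k) = c k ≫ a ∧ e k ≫ p2 (i k) = c k ≫ b) ∧
    (∀ (z : P) (a : f z ⟶ f z1) (b : f z ⟶ f z2), ∃ (K : Type u) (w : K → P) (c : ∀ k, f (w k) ⟶ f z) (i : K → I)
      (h : ∀ k, f (w k) ⟶ f (R (i k))), IsFppf (fun k => bmap W (c k)) ∧
        ∀ k, h k ≫ p1 (i k) = c k ≫ a ∧ h k ≫ p2 (i k) = c k ≫ b) ∧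
    (∀ (i j : I) (y : W.obj) (e : y ⟶ f (R i)) (e' : y ⟶ f (R j)), e ≫ p1 i = e' ≫ p1 j → e ≫ p2 i = e' ≫ p2 j →
      ∃ (K : Type u) (y' : K → W.obj) (c : ∀ k, y' k ⟶ y) (z : K → P) (g : ∀ k, y' k ⟶ f (z k))
        (r : ∀ k, f (z k) ⟶ f (R i)) (r' : ∀ k, f (z k) ⟶ f (R j)), IsFppf (fun k => bmap W (c k)) ∧
          ∀ k, g k ≫ r k = c k ≫ e ∧ g k ≫ r' k = c k ≫ e' ∧ r k ≫ p1 i = r' k ≫ p1 j ∧ r k ≫ p2 i = r' k ≫ p2 j)

variable [FibCat.IsFibGrpd W.p]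

/-- Covers pull back along morphisms. -/
theorem exists_pullCover {y x : W.obj} (e : y ⟶ x) {K : Type u} {x' : K → W.obj} (c : ∀ k, x' k ⟶ x)
    (hc : IsFppf (fun k => bmap W (c k))) :
    ∃ (y' : K → W.obj) (c' : ∀ k, y' k ⟶ y) (e' : ∀ k, y' k ⟶ x' k),
      IsFppf (fun k => bmap W (c' k)) ∧ ∀ k, e' k ≫ c k = c' k ≫ e := by
  choose y' c' ε hε using fun k => exists_obj_over y (pullback.fst (bmap W e) (bmap W (c k)))
  have hb : ∀ k, ((ε k).hom ≫ pullback.snd (bmap W e) (bmap W (c k))) ≫ bmap W (c k) = bmap W (c' k ≫ e) := fun k => by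
    rw [Category.assoc, ← pullback.condition, ← Category.assoc, hε, bmap_comp]
  refine ⟨y', c', fun k => liftTo (c k) (c' k ≫ e) _ (hb k), ?_, fun k => liftTo_fac _ _ _ _⟩
  have hp := hc.pullback (bmap W e)
  refine ⟨fun s => ?_, fun k => ?_, fun k => ?_⟩
  · obtain ⟨k, z, hz⟩ := hp.surj s
    refine ⟨k, (ε k).inv z, ?_⟩
    show bmap W (c' k) ((ε k).inv z) = s
    rw [← hε, Scheme.Hom.comp_apply, ← Scheme.Hom.comp_apply (ε k).inv, Iso.inv_hom_id]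
    exact hz
  · haveI := hp.flat k
    show Flat (bmap W (c' k))
    rw [← hε]; infer_instance
  · haveI := hp.lfp k
    show LocallyOfFinitePresentation (bmap W (c' k))
    rw [← hε]; infer_instance

variable {f : P → W.obj} (K : StMod.Mod (ind f))

/-- A module on an object. -/
abbrev ob (y : W.obj) (N : (sch W y).Modules) : MObj.{u} := ⟨sch W y, N⟩

/-- The pullback of a module to a piece of a cover. -/
abbrev res {y' y : W.obj} (c : y' ⟶ y) (N : (sch W y).Modules) : ob y' (pb (bmap W c) N) ⟶ ob y N :=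
  can (bmap W c) N

omit [FibCat.IsFibGrpd W.p] in
theorem flatCover_res {y : W.obj} {κ : Type u} {y' : κ → W.obj} {c : ∀ k, y' k ⟶ y}
    (hc : IsFppf (fun k => bmap W (c k))) (N : (sch W y).Modules) : IsFlatCover (fun k => res (c k) N) :=
  ⟨fun k => cart_can _ _, hc.flat, hc.surj⟩

omit [FibCat.IsFibGrpd W.p] in
theorem res_qcoh {y' y : W.obj} (c : y' ⟶ y) {N : (sch W y).Modules} (hN : Coh.IsQCoh N) :
    Coh.IsQCoh (pb (bmap W c) N) := KFlatLib.isQCoh_pullback _ _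

variable (hf : RelSys f) (hK : K.IsCartesian)

include hf hK in
/-- Morphisms between members agreeing on an object act equally above it. -/
theorem comp_mA_eq {y : W.obj} {z z1 : P} (e : y ⟶ f z) (π π' : f z ⟶ f z1) (h : e ≫ π = e ≫ π')
    {N : (sch W y).Modules} (r : ob y N ⟶ wTot K z) (hr : r.g = bmap W e) : r ≫ mA K π = r ≫ mA K π' := by
  obtain ⟨I, R, p1, p2, -, hB, hC⟩ := hf.rel z1 z1
  obtain ⟨K₁, w, c, i, hh, hc, hc'⟩ := hB z π π'
  obtain ⟨K₂, u₂, d, j, δ, hd, hd'⟩ := hB z1 (𝟙 _) (𝟙 _)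
  obtain ⟨y₁, c₁, j₁, hc₁, hj₁⟩ := exists_pullCover e c hc
  refine glue_unique (flatCover_res hc₁ N) (by rw [comp_g, comp_g, hr, mA_g, mA_g, ← bmap_comp, h, bmap_comp]) fun k => ?_
  obtain ⟨y₂, c₂, m₂, hc₂, hm₂⟩ := exists_pullCover (c₁ k ≫ e ≫ π) d hd
  refine glue_unique (flatCover_res hc₂ _) (by
    simp only [comp_g, hr, mA_g, can_g, ← bmap_comp, h]) fun l => ?_
  let e1 : y₂ l ⟶ f (R (i k)) := c₂ l ≫ j₁ k ≫ hh k
  let e2 : y₂ l ⟶ f (R (j l)) := m₂ l ≫ δ l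
  have h1 : e1 ≫ p1 (i k) = e2 ≫ p1 (j l) := by
    simp only [e1, e2, Category.assoc, (hc' k).1, (hd' l).1]
    rw [Category.comp_id, hm₂, reassoc_of% (hj₁ k)]
  have h2 : e1 ≫ p2 (i k) = e2 ≫ p2 (j l) := by
    simp only [e1, e2, Category.assoc, (hc' k).2, (hd' l).2]
    rw [Category.comp_id, hm₂, reassoc_of% (hj₁ k), h]
  obtain ⟨K₃, y₃, c₃, z₃, g₃, ρ, ρ', hc₃, hg₃⟩ := hC (i k) (j l) (y₂ l) e1 e2 h1 h2
  refine glue_unique (flatCover_res hc₃ _) (by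
    simp only [comp_g, hr, mA_g, can_g, ← bmap_comp, h]) fun n => ?_
  obtain ⟨hg1, hg2, hρ1, hρ2⟩ := hg₃ n
  let s := res (c₃ n) _ ≫ res (c₂ l) (pb (bmap W (c₁ k)) N) ≫ res (c₁ k) N ≫ r
  have hs : s.g = bmap W (c₃ n ≫ c₂ l ≫ c₁ k ≫ e) := by
    simp only [s, comp_g, can_g, hr, bmap_comp]
  let sw := (cart_mA hK (c k)).lift s (bmap W (c₃ n ≫ c₂ l ≫ j₁ k)) (by
    rw [mA_g, hs, ← bmap_comp, Category.assoc, Category.assoc, hj₁])
  have hsw : sw ≫ mA K (c k) = s := Cart.fac _ _ _ _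
  let X1 := sw ≫ mA K (hh k)
  let r3 := (cart_mA hK (ρ n)).lift X1 (bmap W (g₃ n)) (by
    rw [mA_g, ← bmap_comp, hg1]
    simp only [X1, sw, e1, comp_g, Cart.lift_g, mA_g, bmap_comp, Category.assoc])
  have hX1 : r3 ≫ mA K (ρ n) = X1 := Cart.fac _ _ _ _
  let X2 := r3 ≫ mA K (ρ' n)
  let ru := (cart_mA hK (δ l)).lift X2 (bmap W (c₃ n ≫ m₂ l)) (by
    simp only [X2, r3, comp_g, Cart.lift_g, mA_g, ← bmap_comp, hg2, e2, Category.assoc])
  have hX2 : ru ≫ mA K (δ l) = X2 := Cart.fac _ _ _ _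
  have key : X1 ≫ mA K (p1 (i k)) = X1 ≫ mA K (p2 (i k)) := by
    rw [← hX1, Category.assoc, Category.assoc, ← mA_comp, ← mA_comp, hρ1, hρ2, mA_comp, mA_comp, ← Category.assoc,
      ← Category.assoc]
    show X2 ≫ _ = X2 ≫ _
    rw [← hX2, Category.assoc, Category.assoc, ← mA_comp, ← mA_comp, (hd' l).1, (hd' l).2]
  simp only [X1, Category.assoc, ← mA_comp, (hc' k).1, (hc' k).2] at key
  rw [mA_comp, mA_comp, reassoc_of% hsw, reassoc_of% hsw] at key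
  simpa only [s, Category.assoc] using key

include hf hK in
/-- Two factorisations of a pair act equally. -/
theorem comp_mA_indep {y : W.obj} {z z' z1 z2 : P} (e : y ⟶ f z) (e' : y ⟶ f z') (p1 : f z ⟶ f z1)
    (p2 : f z ⟶ f z2) (p1' : f z' ⟶ f z1) (p2' : f z' ⟶ f z2) (h1 : e ≫ p1 = e' ≫ p1') (h2 : e ≫ p2 = e' ≫ p2')
    {N : (sch W y).Modules} (r : ob y N ⟶ wTot K z) (r' : ob y N ⟶ wTot K z') (hr : r.g = bmap W e)
    (hr' : r'.g = bmap W e') (h : r ≫ mA K p1 = r' ≫ mA K p1') : r ≫ mA K p2 = r' ≫ mA K p2' := by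
  obtain ⟨I, R, σ, σ', hA, -, -⟩ := hf.rel z z'
  obtain ⟨κ, y', c, i, e5, hc, he5⟩ := hA y e e'
  refine glue_unique (flatCover_res hc N) (by
    rw [comp_g, comp_g, hr, hr', mA_g, mA_g, ← bmap_comp, ← bmap_comp, h2]) fun k => ?_
  obtain ⟨hk1, hk2⟩ := he5 k
  let s := res (c k) N ≫ r
  let r5 := (cart_mA hK (σ (i k))).lift s (bmap W (e5 k)) (by
    simp only [s, comp_g, can_g, hr, mA_g, ← bmap_comp, hk1])
  have hr5 : r5 ≫ mA K (σ (i k)) = s := Cart.fac _ _ _ _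
  have hq : ∀ {z0 : P} (a : f z ⟶ f z0) (a' : f z' ⟶ f z0), e ≫ a = e' ≫ a' →
      r5 ≫ mA K (σ (i k) ≫ a) = r5 ≫ mA K (σ' (i k) ≫ a') := fun a a' ha =>
    comp_mA_eq K hf hK (e5 k) _ _ (by rw [reassoc_of% hk1, reassoc_of% hk2, ha]) r5 (Cart.lift_g _ _ _ _)
  have hs' : r5 ≫ mA K (σ' (i k)) = res (c k) N ≫ r' := by
    refine (cart_mA hK p1').cancel ?_ ?_
    · simp only [r5, comp_g, Cart.lift_g, mA_g, can_g, hr', ← bmap_comp, hk2]
    · rw [Category.assoc, ← mA_comp, ← hq p1 p1' h1, mA_comp, ← Category.assoc, hr5]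
      simp only [s, Category.assoc, h]
  calc res (c k) N ≫ r ≫ mA K p2 = r5 ≫ mA K (σ (i k) ≫ p2) := by
        rw [mA_comp, ← Category.assoc r5, hr5]; simp only [s, Category.assoc]
    _ = r5 ≫ mA K (σ' (i k) ≫ p2') := hq p2 p2' h2
    _ = res (c k) N ≫ r' ≫ mA K p2' := by rw [mA_comp, ← Category.assoc r5, hs', Category.assoc]

end StPushLib
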