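import Groth.Agent.StPushLib.Sys

/-!
# Moving arrows between members
-/

set_option autoImplicit false
set_option linter.all false
set_option backward.isDefEq.respectTransparency false
set_option backward.isDefEq.respectTransparency.types false
set_option maxHeartbeats 800000

noncomputable section

universe u v w t

open CategoryTheory CategoryTheory.Limits AlgebraicGeometry StMod TwDescLib
open KFlatLib (pb)

namespace StPushLib

variable {S : Scheme.{u}} {W : BasedCategory.{v, w} (Over S)} [FibCat.IsFibGrpd W.p] {P : Type t} {f : P → W.obj}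
  (K : StMod.Mod (ind f))

/-- `t` is the arrow `s` moved from `a` to `b`. -/
def Moved {y : W.obj} {z1 z2 : P} (a : y ⟶ f z1) (b : y ⟶ f z2) {N : (sch W y).Modules}
    (s : ob y N ⟶ wTot K z1) (t : ob y N ⟶ wTot K z2) : Prop :=
  t.g = bmap W b ∧ ∀ (y' : W.obj) (c : y' ⟶ y) (z : P) (e : y' ⟶ f z) (p1 : f z ⟶ f z1) (p2 : f z ⟶ f z2),
    e ≫ p1 = c ≫ a → e ≫ p2 = c ≫ b → ∀ (N' : (sch W y').Modules) (d : ob y' N' ⟶ ob y N),
      Coh.IsQCoh N' → d.g = bmap W c → ∀ r : ob y' N' ⟶ wTot K z, r.g = bmap W e →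
        r ≫ mA K p1 = d ≫ s → r ≫ mA K p2 = d ≫ t

variable (hf : RelSys f) (hK : K.IsCartesian)

theorem Moved.g {y : W.obj} {z1 z2 : P} {a : y ⟶ f z1} {b : y ⟶ f z2} {N : (sch W y).Modules}
    {s : ob y N ⟶ wTot K z1} {t : ob y N ⟶ wTot K z2} (h : Moved K a b s t) : t.g = bmap W b := h.1

theorem Moved.comp {y' y : W.obj} {z1 z2 : P} {a : y ⟶ f z1} {b : y ⟶ f z2} {N : (sch W y).Modules}
    {s : ob y N ⟶ wTot K z1} {t : ob y N ⟶ wTot K z2} (h : Moved K a b s t) (φ : y' ⟶ y)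
    {N' : (sch W y').Modules} (d : ob y' N' ⟶ ob y N) (hd : d.g = bmap W φ) :
    Moved K (φ ≫ a) (φ ≫ b) (d ≫ s) (d ≫ t) := by
  refine ⟨by rw [comp_g, hd, h.1, bmap_comp], fun y'' c z e p1 p2 h1 h2 N'' d' hN hd' r hr hrs => ?_⟩
  rw [← Category.assoc] at hrs ⊢
  exact h.2 y'' (c ≫ φ) z e p1 p2 (by rw [h1, Category.assoc]) (by rw [h2, Category.assoc]) N'' (d' ≫ d) hN
    (by rw [comp_g, hd', hd, bmap_comp]) r hr hrs

include hf hK in
theorem Moved.refl {y : W.obj} {z1 : P} (a : y ⟶ f z1) {N : (sch W y).Modules} (s : ob y N ⟶ wTot K z1)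
    (hs : s.g = bmap W a) : Moved K a a s s :=
  ⟨hs, fun y' c z e p1 p2 h1 h2 N' d hN hd r hr hrs =>
    (comp_mA_eq K hf hK e p2 p1 (h2.trans h1.symm) r hr).trans hrs⟩

include hf hK in
theorem Moved.unique {y : W.obj} {z1 z2 : P} {a : y ⟶ f z1} {b : y ⟶ f z2} {N : (sch W y).Modules}
    (hN : Coh.IsQCoh N) {s : ob y N ⟶ wTot K z1} (hs : s.g = bmap W a) {t t' : ob y N ⟶ wTot K z2}
    (h : Moved K a b s t) (h' : Moved K a b s t') : t = t' := by
  obtain ⟨I, R, p1, p2, hA, -, -⟩ := hf.rel z1 z2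
  obtain ⟨κ, y', c, i, e, hc, he⟩ := hA y a b
  refine glue_unique (flatCover_res hc N) (h.1.trans h'.1.symm) fun k => ?_
  obtain ⟨he1, he2⟩ := he k
  let r := (cart_mA hK (p1 (i k))).lift (res (c k) N ≫ s) (bmap W (e k)) (by
    rw [comp_g, can_g, hs, mA_g, ← bmap_comp, ← bmap_comp, he1])
  rw [← h.2 _ _ _ (e k) _ _ he1 he2 _ (res (c k) N) (res_qcoh _ hN) rfl r (Cart.lift_g _ _ _ _) (Cart.fac _ _ _ _),
    ← h'.2 _ _ _ (e k) _ _ he1 he2 _ (res (c k) N) (res_qcoh _ hN) rfl r (Cart.lift_g _ _ _ _) (Cart.fac _ _ _ _)]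

include hf hK in
/-- Arrows move, and cartesian arrows move to cartesian ones. -/
theorem exists_moved {y : W.obj} {z1 z2 : P} (a : y ⟶ f z1) (b : y ⟶ f z2) {N : (sch W y).Modules}
    (hN : Coh.IsQCoh N) (s : ob y N ⟶ wTot K z1) (hs : s.g = bmap W a) :
    ∃ t : ob y N ⟶ wTot K z2, Moved K a b s t ∧ (Cart s → Cart t) := by
  obtain ⟨I, R, p1, p2, hA, -, -⟩ := hf.rel z1 z2
  obtain ⟨κ, y', c, i, e, hc, he⟩ := hA y a b
  haveI : Coh.IsQCoh (ob y N).M := hN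
  have hlift : ∀ k, bmap W (e k) ≫ (mA K (p1 (i k))).g = (res (c k) N ≫ s).g := fun k => by
    rw [comp_g, can_g, hs, mA_g, ← bmap_comp, ← bmap_comp, (he k).1]
  let r := fun k => (cart_mA hK (p1 (i k))).lift (res (c k) N ≫ s) (bmap W (e k)) (hlift k)
  have hr : ∀ k, r k ≫ mA K (p1 (i k)) = res (c k) N ≫ s := fun k => Cart.fac _ _ _ _
  have hrg : ∀ k, (r k).g = bmap W (e k) := fun k => Cart.lift_g _ _ _ _
  obtain ⟨t, htg, ht⟩ := exists_glue (R := ob y N) (P := wTot K z2) (bmap W b) (fun k => res (c k) N)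
    (fun k => cart_can _ _) hc.mem (fun k => r k ≫ mA K (p2 (i k)))
    (fun k => by rw [comp_g, hrg, mA_g, can_g, ← bmap_comp, ← bmap_comp, (he k).2]) fun C k l u v hC hu hv huv => by
      obtain ⟨y₂, c₂, ε, hε⟩ := exists_obj_over y (u.g ≫ bmap W (c k))
      let d : ob y₂ (pb ε.hom C.M) ⟶ C := can ε.hom C.M
      have hcov : IsFlatCover (fun _ : PUnit.{u + 1} => d) :=
        ⟨fun _ => cart_can _ _, fun _ => (inferInstance : Flat ε.hom), fun x => ⟨⟨⟩, ε.inv x, by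
          show ε.hom (ε.inv x) = x
          rw [← Scheme.Hom.comp_apply, Iso.inv_hom_id]; rfl⟩⟩
      refine glue_unique hcov (by
        simp only [comp_g, hrg, mA_g, ← bmap_comp, (he k).2, (he l).2]
        rw [bmap_comp, bmap_comp, ← Category.assoc, ← Category.assoc]
        exact congrArg (· ≫ bmap W b) (congrArg MHom.g huv)) fun _ => ?_
      have huc : (u.g ≫ bmap W (c k)) = v.g ≫ bmap W (c l) := congrArg MHom.g huv
      let jk := liftTo (c k) c₂ (ε.hom ≫ u.g) (by rw [Category.assoc, hε])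
      let jl := liftTo (c l) c₂ (ε.hom ≫ v.g) (by rw [Category.assoc, ← huc, hε])
      have h1 : ∀ {Z : W.obj} (g : y ⟶ Z), jk ≫ c k ≫ g = jl ≫ c l ≫ g := fun g => by
        rw [← Category.assoc, ← Category.assoc, liftTo_fac, liftTo_fac]
      rw [← Category.assoc, ← Category.assoc, ← Category.assoc, ← Category.assoc]
      refine comp_mA_indep K hf hK (jk ≫ e k) (jl ≫ e l) _ (p2 (i k)) (p1 (i l)) (p2 (i l))
        (by rw [Category.assoc, Category.assoc, (he k).1, (he l).1, h1])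
        (by rw [Category.assoc, Category.assoc, (he k).2, (he l).2, h1]) _ _
        (by simp only [d, comp_g, can_g, hrg, bmap_comp, jk, bmap_liftTo, Category.assoc])
        (by simp only [d, comp_g, can_g, hrg, bmap_comp, jl, bmap_liftTo, Category.assoc]) ?_
      simp only [Category.assoc, hr]
      rw [reassoc_of% huv]
  refine ⟨t, ⟨htg, fun y'' c'' z e'' q1 q2 h1 h2 N'' d hN'' hd r'' hr'' hrs => ?_⟩, fun hsc => ?_⟩
  · obtain ⟨y₃, c₃, j, hc₃, hj⟩ := exists_pullCover c'' c hc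
    refine glue_unique (flatCover_res hc₃ N'') (by
      rw [comp_g, comp_g, hr'', hd, htg, mA_g, ← bmap_comp, ← bmap_comp, h2]) fun k => ?_
    let u := res (c₃ k) N'' ≫ d
    let v := (cart_can (bmap W (c k)) N).lift u (bmap W (j k)) (by
      simp only [u, comp_g, can_g, hd, ← bmap_comp, hj k])
    have hv : v ≫ res (c k) N = u := Cart.fac _ _ _ _
    rw [← Category.assoc]
    refine (comp_mA_indep K hf hK (c₃ k ≫ e'') (j k ≫ e k) q1 q2 (p1 (i k)) (p2 (i k))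
      (by rw [Category.assoc, Category.assoc, h1, (he k).1, reassoc_of% (hj k)])
      (by rw [Category.assoc, Category.assoc, h2, (he k).2, reassoc_of% (hj k)])
      (res (c₃ k) N'' ≫ r'') (v ≫ r k) (by rw [comp_g, can_g, hr'', bmap_comp])
      (by rw [comp_g, Cart.lift_g, hrg, bmap_comp]) ?_).trans ?_
    · rw [Category.assoc, Category.assoc, hrs, hr, reassoc_of% hv]
      simp only [u, Category.assoc]
    · rw [Category.assoc, ← ht, reassoc_of% hv]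
      simp only [u, Category.assoc]
  · exact cart_of_cover (flatCover_res hc N) t fun k => by
      rw [ht]
      refine Cart.comp (Cart.of_comp ?_ (cart_mA hK (p1 (i k)))) (cart_mA hK _)
      rw [hr]
      exact (cart_can _ _).comp hsc

include hf hK in
theorem Moved.trans {y : W.obj} {z1 z2 z3 : P} {a : y ⟶ f z1} {b : y ⟶ f z2} {c : y ⟶ f z3}
    {N : (sch W y).Modules} {s : ob y N ⟶ wTot K z1} (hs : s.g = bmap W a) {t : ob y N ⟶ wTot K z2}
    {x : ob y N ⟶ wTot K z3} (h : Moved K a b s t) (h' : Moved K b c t x) : Moved K a c s x := by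
  refine ⟨h'.1, fun y' d z e p1 p3 h1 h3 N' dd hN' hdd r hr hrs => ?_⟩
  obtain ⟨I, R, π1, π2, hA, -, -⟩ := hf.rel z1 z2
  obtain ⟨κ₁, y₁, c₁, i₁, e₁, hc₁, he₁⟩ := hA y' (d ≫ a) (d ≫ b)
  refine glue_unique (flatCover_res hc₁ N') (by
    rw [comp_g, comp_g, hr, hdd, h'.1, mA_g, ← bmap_comp, ← bmap_comp, h3]) fun k => ?_
  obtain ⟨J, Q, ρ2, ρ3, hA', -, -⟩ := hf.rel z2 z3
  obtain ⟨κ₂, y₂, c₂, i₂, e₂, hc₂, he₂⟩ := hA' (y₁ k) (c₁ k ≫ d ≫ b) (c₁ k ≫ d ≫ c)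
  refine glue_unique (flatCover_res hc₂ _) (by
    simp only [comp_g, can_g, hr, hdd, h'.1, mA_g, ← bmap_comp, h3]) fun l => ?_
  obtain ⟨J', Q', σ, σ', hA'', -, -⟩ := hf.rel (R (i₁ k)) (Q (i₂ l))
  obtain ⟨κ₃, y₃, c₃, i₃, e₃, hc₃, he₃⟩ := hA'' (y₂ l) (c₂ l ≫ e₁ k) (e₂ l)
  refine glue_unique (flatCover_res hc₃ _) (by
    simp only [comp_g, can_g, hr, hdd, h'.1, mA_g, ← bmap_comp, h3]) fun n => ?_
  obtain ⟨g1, g2⟩ := he₁ k
  obtain ⟨k1, k2⟩ := he₂ l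
  obtain ⟨l1, l2⟩ := he₃ n
  let cc := c₃ n ≫ c₂ l ≫ c₁ k
  let D : ob (y₃ n) _ ⟶ ob y' N' := res (c₃ n) _ ≫ res (c₂ l) (pb (bmap W (c₁ k)) N') ≫ res (c₁ k) N'
  have hD : D.g = bmap W cc := by simp only [D, cc, comp_g, can_g, bmap_comp]
  have hq3 : Coh.IsQCoh (pb (bmap W (c₃ n)) (pb (bmap W (c₂ l)) (pb (bmap W (c₁ k)) N'))) :=
    res_qcoh _ (res_qcoh _ (res_qcoh _ hN'))
  let r1 := (cart_mA hK (π1 (i₁ k))).lift (D ≫ dd ≫ s) (bmap W (c₃ n ≫ c₂ l ≫ e₁ k)) (by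
    simp only [comp_g, hD, hdd, hs, mA_g, ← bmap_comp, cc, Category.assoc, g1])
  have hr1 : r1 ≫ mA K (π1 (i₁ k)) = D ≫ dd ≫ s := Cart.fac _ _ _ _
  have hr1' : r1 ≫ mA K (π2 (i₁ k)) = D ≫ dd ≫ t := by
    have := h.2 _ (cc ≫ d) _ (c₃ n ≫ c₂ l ≫ e₁ k) (π1 (i₁ k)) (π2 (i₁ k))
      (by simp only [cc, Category.assoc, g1]) (by simp only [cc, Category.assoc, g2]) _ (D ≫ dd) hq3
      (by simp only [comp_g, hD, hdd, bmap_comp]) r1 (Cart.lift_g _ _ _ _) (hr1.trans (Category.assoc _ _ _).symm)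
    exact this.trans (Category.assoc _ _ _)
  let r2 := (cart_mA hK (ρ2 (i₂ l))).lift (D ≫ dd ≫ t) (bmap W (c₃ n ≫ e₂ l)) (by
    simp only [comp_g, hD, hdd, h.1, mA_g, ← bmap_comp, cc, Category.assoc, k1])
  have hr2 : r2 ≫ mA K (ρ2 (i₂ l)) = D ≫ dd ≫ t := Cart.fac _ _ _ _
  have hr2' : r2 ≫ mA K (ρ3 (i₂ l)) = D ≫ dd ≫ x := by
    have := h'.2 _ (cc ≫ d) _ (c₃ n ≫ e₂ l) (ρ2 (i₂ l)) (ρ3 (i₂ l))
      (by simp only [cc, Category.assoc, k1]) (by simp only [cc, Category.assoc, k2]) _ (D ≫ dd) hq3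
      (by simp only [comp_g, hD, hdd, bmap_comp]) r2 (Cart.lift_g _ _ _ _) (hr2.trans (Category.assoc _ _ _).symm)
    exact this.trans (Category.assoc _ _ _)
  let r5 := (cart_mA hK (σ (i₃ n))).lift r1 (bmap W (e₃ n)) (by
    rw [mA_g, ← bmap_comp, l1, Cart.lift_g])
  have hr5 : r5 ≫ mA K (σ (i₃ n)) = r1 := Cart.fac _ _ _ _
  have hr52 : r5 ≫ mA K (σ' (i₃ n)) = r2 := by
    refine (cart_mA hK (ρ2 (i₂ l))).cancel ?_ ?_
    · rw [comp_g, Cart.lift_g, mA_g, ← bmap_comp, l2, Cart.lift_g]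
    · rw [hr2, ← hr1', ← hr5, Category.assoc, Category.assoc, ← mA_comp, ← mA_comp]
      refine comp_mA_eq K hf hK (e₃ n) _ _ ?_ r5 (Cart.lift_g _ _ _ _)
      rw [reassoc_of% l2, reassoc_of% l1, k1, g2]
  have key := comp_mA_indep K hf hK (cc ≫ e) (e₃ n) p1 p3 (σ (i₃ n) ≫ π1 (i₁ k)) (σ' (i₃ n) ≫ ρ3 (i₂ l))
    (by simp only [cc, Category.assoc, h1, reassoc_of% l1, g1])
    (by simp only [cc, Category.assoc, h3, reassoc_of% l2, k2])
    (D ≫ r) r5 (by simp only [comp_g, hD, hr, bmap_comp]) (Cart.lift_g _ _ _ _)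
    (by rw [Category.assoc, hrs, mA_comp, ← Category.assoc r5, hr5, hr1])
  rw [mA_comp, ← Category.assoc r5, hr52, hr2'] at key
  simpa only [D, Category.assoc] using key

end StPushLib
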